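import Cfsg.Agent.H93.PReg.Torus

/-!
# Orbits on the powers whose order is divisible by a given prime `s` (for S4883)
-/

set_option autoImplicit false

namespace Cfsg.Agent.H93.PReg

open Cfsg.Agent.H92.KTools Polynomial Matrix

universe u

variable {S : Type u} [Group S] {A : Set ℕ} {n : ℕ}
  {F K : Type*} [Field F] [Field K] [Algebra F K] {ι : Type*} [Fintype ι] [DecidableEq ι]
  {H : Type*} [Group H] {ρ : H →* Matrix ι ι F} {π : H →* S} {W : Type*} [Finite W]

/-- the order of an eigenvalue divides the order of the element -/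
theorem orderOf_root_dvd (t : H) (x : K) (hx : aeval x (ρ t).charpoly = 0) : orderOf x ∣ orderOf t := by
  apply orderOf_dvd_of_pow_eq_one
  have h1 := root_pow hx (orderOf t)
  rw [← map_pow, pow_orderOf_eq_one, map_one, Matrix.charpoly_one, map_pow, map_sub, aeval_X, map_one] at h1
  by_cases hι : Fintype.card ι = 0
  · rw [hι, pow_zero] at h1
    exact absurd h1 one_ne_zero
  · exact sub_eq_zero.1 ((pow_eq_zero_iff hι).1 h1)

theorem prime_dvd_order {s c : ℕ} (hs : s.Prime) (hker : ∀ g : H, π g = 1 → g ^ c = 1) (hsc : ¬ s ∣ c) (t : H)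
    (x : K) (hx : aeval x (ρ t).charpoly = 0) (k : ℕ) (h : s ∣ orderOf (x ^ k)) : s ∣ orderOf (π (t ^ k)) := by
  have hx' : aeval (x ^ k) (ρ (t ^ k)).charpoly = 0 := by
    rw [map_pow]; exact root_pow hx k
  have h1 : s ∣ orderOf (t ^ k) := h.trans (orderOf_root_dvd _ _ hx')
  have h2 : orderOf (t ^ k) ∣ orderOf (π (t ^ k)) * c := by
    apply orderOf_dvd_of_pow_eq_one
    rw [pow_mul]
    apply hker
    rw [map_pow, pow_orderOf_eq_one]
  exact (hs.dvd_mul.1 (h1.trans h2)).resolve_right hsc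

theorem card_filter_dvd (N m : ℕ) (hm : m ∣ N) :
    ((Finset.range N).filter fun k => ¬ m ∣ k).card = N - N / m := by
  have h1 : ((Finset.range N).filter fun k => m ∣ k).card = N / m := by
    rcases Nat.eq_zero_or_pos m with rfl | hm0
    · obtain rfl := Nat.eq_zero_of_zero_dvd hm
      simp
    · obtain ⟨c, rfl⟩ := hm
      rw [Nat.mul_div_cancel_left _ hm0]
      have : (Finset.range (m * c)).filter (fun k => m ∣ k) = (Finset.range c).image (fun i => m * i) := by
        ext k
        simp only [Finset.mem_filter, Finset.mem_range, Finset.mem_image]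
        constructor
        · rintro ⟨h, i, rfl⟩
          exact ⟨i, Nat.lt_of_mul_lt_mul_left h, rfl⟩
        · rintro ⟨i, hi, rfl⟩
          exact ⟨Nat.mul_lt_mul_of_pos_left hi hm0, Dvd.intro i rfl⟩
      rw [this, Finset.card_image_of_injective, Finset.card_range]
      intro a b hab
      exact Nat.eq_of_mul_eq_mul_left hm0 hab
  have h2 := Finset.card_filter_add_card_filter_not (s := Finset.range N) (fun k => m ∣ k)
  rw [Finset.card_range, h1] at h2
  omega

/-- **the powers of order divisible by `s`** -/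
theorem MO.of_root_s {p s c : ℕ} (hC : Ctl ρ π W) (t : H) (ht : ¬ p ∣ orderOf t) (x : K)
    (hx : aeval x (ρ t).charpoly = 0) (hs : s.Prime) (hker : ∀ g : H, π g = 1 → g ^ c = 1) (hsc : ¬ s ∣ c)
    (h : (n - 1) * (Fintype.card ι * Nat.card W) < orderOf x - orderOf x / s ^ (orderOf x).factorization s) :
    MO {m | s ∣ m ∧ ¬ p ∣ m} n S := by
  refine MO.of_exps hC t x hx ((Finset.range (orderOf x)).filter fun k => ¬ s ^ (orderOf x).factorization s ∣ k)
    (fun k hk => ?_) ?_
  · rw [Finset.mem_filter, Finset.mem_range] at hk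
    refine ⟨hk.1, prime_dvd_order hs hker hsc t x hx k ?_, ?_⟩
    · have hk0 : k ≠ 0 := by
        rintro rfl
        exact hk.2 (dvd_zero _)
      rw [orderOf_pow' x hk0]
      by_contra hcon
      apply hk.2
      have h1 : s ^ (orderOf x).factorization s ∣ (orderOf x).gcd k * (orderOf x / (orderOf x).gcd k) := by
        rw [Nat.mul_div_cancel' (Nat.gcd_dvd_left _ _)]
        exact Nat.ordProj_dvd _ _
      have h2 : Nat.Coprime (s ^ (orderOf x).factorization s) (orderOf x / (orderOf x).gcd k) :=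
        Nat.Coprime.pow_left _ ((Nat.Prime.coprime_iff_not_dvd hs).2 hcon)
      exact (h2.dvd_of_dvd_mul_right h1).trans (Nat.gcd_dvd_right _ _)
    · exact fun hd => ht (hd.trans ((orderOf_map_dvd π _).trans (orderOf_pow_dvd k)))
  · rw [card_filter_dvd _ _ (Nat.ordProj_dvd _ _)]
    exact h

/-- making the order of the element prime to `p` -/
theorem exists_reg [Finite H] {p : ℕ} (hp : p.Prime) (t : H) (x : K) (hx : aeval x (ρ t).charpoly = 0)
    (hpx : ¬ p ∣ orderOf x) :
    ∃ (t' : H) (x' : K), aeval x' (ρ t').charpoly = 0 ∧ ¬ p ∣ orderOf t' ∧ orderOf x' = orderOf x := by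
  have ht0 : orderOf t ≠ 0 := (orderOf_pos t).ne'
  refine ⟨t ^ p ^ (orderOf t).factorization p, x ^ p ^ (orderOf t).factorization p, ?_, ?_, ?_⟩
  · rw [map_pow]
    exact root_pow hx _
  · rw [orderOf_pow_of_dvd (pow_ne_zero _ hp.ne_zero) (Nat.ordProj_dvd _ _)]
    exact Nat.not_dvd_ordCompl hp ht0
  · rw [Nat.Coprime.orderOf_pow]
    exact Nat.Coprime.pow_right _ ((Nat.Prime.coprime_iff_not_dvd hp).2 hpx).symm

/-- version with numerals -/
theorem MO.of_root_s' [Finite H] {p s c a N : ℕ} (hC : Ctl ρ π W) (t : H) (hp : p.Prime) (hpN : ¬ p ∣ N) (x : K)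
    (hx : aeval x (ρ t).charpoly = 0) (hN : orderOf x = N) (hN0 : N ≠ 0) (hs : s.Prime)
    (hker : ∀ g : H, π g = 1 → g ^ c = 1) (hsc : ¬ s ∣ c) (hsa : ¬ s ^ (a + 1) ∣ N) (hsa' : s ^ a ∣ N)
    (h : (n - 1) * (Fintype.card ι * Nat.card W) < N - N / s ^ a) :
    MO {m | s ∣ m ∧ ¬ p ∣ m} n S := by
  have hfac : N.factorization s = a := by
    have h1 : a ≤ N.factorization s := (Nat.Prime.pow_dvd_iff_le_factorization hs hN0).1 hsa'
    have h2 : ¬ a + 1 ≤ N.factorization s := fun h2 => hsa ((Nat.Prime.pow_dvd_iff_le_factorization hs hN0).2 h2)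
    omega
  obtain ⟨t', x', hx', ht', ho'⟩ := exists_reg hp t x hx (by rw [hN]; exact hpN)
  refine MO.of_root_s hC t' ht' x' hx' hs hker hsc ?_
  rw [ho', hN, hfac]
  exact h

end Cfsg.Agent.H93.PReg
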