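import Cfsg.Agent.H93.PReg.OrthCtl
import Cfsg.Agent.H93.PReg.Singer
import Cfsg.Agent.H182.ThreeComp
import Cfsg.Agent.H377.ToOmega

/-!
# Orthogonal groups: elements with an eigenvalue of large order (for S4883)

* `HasEig g y` : `g` acts on a copy of the field `L` as the multiplication by `y ∈ L`;
* `EigElt F n ε N` : a nondegenerate quadratic form of sign `ε` in dimension `2n` has an isometry with an eigenvalue
  of order `N`; `eig_plus`, `eig_minus` (tori), `EigElt.extend`;
* `MO_of_isom` : counting in `POmega`.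
-/

set_option autoImplicit false
set_option linter.unusedSectionVars false

namespace Cfsg.Agent.H93.PReg.Orth

open QuadraticMap Cfsg.Agent.LieClassical.OrthCore Cfsg.Agent.LieClassical.OrthForms
open Polynomial Matrix Cfsg.Agent.H93.PReg Cfsg
open Cfsg.Agent.H182.Sign Cfsg.Agent.H182.Orth

section Eig

variable {F : Type*} [Field F] {V W L : Type*} [AddCommGroup V] [Module F V] [AddCommGroup W] [Module F W]
  [Field L] [Algebra F L]

/-- `g` acts on a copy of `L` as the multiplication by `y` -/
def HasEig (g : Module.End F V) (y : L) : Prop :=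
  ∃ j : L →ₗ[F] V, Function.Injective j ∧ ∀ z, g (j z) = j (y * z)

theorem HasEig.pow {g : Module.End F V} {y : L} (h : HasEig g y) (k : ℕ) : HasEig (g ^ k) (y ^ k) := by
  obtain ⟨j, hj, h1⟩ := h
  refine ⟨j, hj, ?_⟩
  induction k with
  | zero => intro z; simp
  | succ k ih =>
    intro z
    rw [pow_succ, Module.End.mul_apply, h1, ih, pow_succ, mul_assoc]

theorem HasEig.prod {g : Module.End F V} {y : L} (h : HasEig g y) (g' : Module.End F W) :
    HasEig (g.prodMap g') y := by
  obtain ⟨j, hj, h1⟩ := h
  refine ⟨(LinearMap.inl F V W).comp j, ?_, fun z => ?_⟩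
  · intro a b hab
    exact hj (congrArg Prod.fst hab)
  · show (g (j z), g' 0) = (j (y * z), 0)
    rw [h1, map_zero]

/-- eigenvalues of matrices -/
theorem root_of_eig {ι : Type*} [Fintype ι] [DecidableEq ι] (M : Matrix ι ι F) (y : L)
    (h : HasEig (Matrix.toLinAlgEquiv' M : Module.End F (ι → F)) y) : aeval y M.charpoly = 0 := by
  obtain ⟨j, hj, h1⟩ := h
  have key : ∀ (p : F[X]) (z : L), (Matrix.toLinAlgEquiv' (aeval M p) : Module.End F (ι → F)) (j z) =
      j (aeval y p * z) := by
    intro p
    induction p using Polynomial.induction_on' with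
    | add p q hp hq =>
      intro z
      rw [map_add, map_add, LinearMap.add_apply, hp, hq, map_add, add_mul, map_add]
    | monomial n a =>
      intro z
      have h2 := (HasEig.pow ⟨j, hj, h1⟩ n : HasEig ((Matrix.toLinAlgEquiv' M : Module.End F (ι → F)) ^ n) (y ^ n))
      rw [aeval_monomial, aeval_monomial, map_mul, AlgEquiv.commutes, Module.End.mul_apply, map_pow]
      have h3 : ∀ (k : ℕ) (z : L), ((Matrix.toLinAlgEquiv' M : Module.End F (ι → F)) ^ k) (j z) = j (y ^ k * z) := by
        intro k
        induction k with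
        | zero => intro z; simp
        | succ k ih =>
          intro z
          rw [pow_succ, Module.End.mul_apply, h1, ih, pow_succ, mul_assoc]
      rw [h3, mul_assoc, ← Algebra.smul_def, map_smul]
      rfl
  have h2 := key M.charpoly 1
  rw [Matrix.aeval_self_charpoly, map_zero, LinearMap.zero_apply, mul_one] at h2
  apply hj
  rw [← h2, map_zero]

end Eig

/-! ### The norm form -/

section Norm

variable {K L : Type*} [Field K] [Field L] [Algebra K L] (b : Module.Basis (Fin 2) K L)

/-- entries of the multiplication matrix -/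
noncomputable def ent (i j : Fin 2) : L →ₗ[K] K :=
  (Matrix.entryLinearMap K K i j).comp (Algebra.leftMulMatrix b).toLinearMap

theorem ent_apply (i j : Fin 2) (v : L) : ent b i j v = Algebra.leftMulMatrix b v i j := rfl

/-- the norm form of a quadratic extension -/
noncomputable def normQ : QuadraticForm K L :=
  QuadraticMap.linMulLin (ent b 0 0) (ent b 1 1) - QuadraticMap.linMulLin (ent b 0 1) (ent b 1 0)

theorem normQ_apply (v : L) : normQ b v = Algebra.norm K v := by
  rw [Algebra.norm_eq_matrix_det b, Matrix.det_fin_two]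
  rfl

theorem sg_normQ [Finite K] [Finite L] : Sg (normQ b) 1 (-1) := by
  have hfin : FiniteDimensional K L := Module.Finite.of_basis b
  have hrk : Module.finrank K L = 2 := by rw [Module.finrank_eq_card_basis b, Fintype.card_fin]
  have h1 : Cfsg.Agent.H403.Classify.IsMinus (normQ b) 0 := by
    apply isMinus_of_aniso _ hrk
    intro x hx h0
    rw [normQ_apply] at h0
    exact hx ((Algebra.norm_eq_zero_iff_of_basis b).1 h0)
  obtain ⟨a, c, hab, e, he⟩ := h1
  exact (sg_minusForm (F := K) 0 hab).congr e he

end Norm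

/-! ### Tori -/

/-- a nondegenerate quadratic form of sign `ε` in dimension `2n` has an isometry with an eigenvalue of order `N` -/
def EigElt (F : Type) [Field F] [Finite F] (n : ℕ) (ε : ℤ) (N : ℕ) : Prop :=
  ∃ (V : Type) (_ : AddCommGroup V) (_ : Module F V) (_ : Finite V) (Q : QuadraticForm F V) (g : Module.End F V)
    (L : Type) (_ : Field L) (_ : Algebra F L) (y : L),
    Sg Q n ε ∧ (∀ v, Q (g v) = Q v) ∧ HasEig g y ∧ orderOf y = N

section Tori

variable {F : Type} [Field F] [Fintype F]

theorem eig_plus (k : ℕ) (hk : k ≠ 0) : EigElt F k 1 (Fintype.card F ^ k - 1) := by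
  obtain ⟨K, _, _, b, hKf, y, hK, hy⟩ := Singer.exists_ext F k hk
  have hrk : Module.finrank F K = k := by rw [Module.finrank_eq_card_basis b, Fintype.card_fin]
  have hs := (sg_hypForm (F := K)).res (F := F)
  rw [hrk, mul_one] at hs
  refine ⟨K × K, inferInstance, inferInstance, inferInstance, traceForm F (hypForm K),
    (LinearMap.mulLeft F (y : K)).prodMap (LinearMap.mulLeft F ((y⁻¹ : Kˣ) : K)), K, inferInstance, inferInstance,
    (y : K), hs, ?_, ?_, ?_⟩
  · intro v
    rw [traceForm_apply, traceForm_apply]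
    congr 1
    show (y : K) * v.1 * (((y⁻¹ : Kˣ) : K) * v.2) = v.1 * v.2
    have h1 : (y : K) * ((y⁻¹ : Kˣ) : K) = 1 := Units.mul_inv y
    linear_combination v.1 * v.2 * h1
  · exact HasEig.prod ⟨LinearMap.id, fun a b h => h, fun z => rfl⟩ _
  · rw [orderOf_units, hy]

theorem eig_minus (k : ℕ) (hk : k ≠ 0) : EigElt F k (-1) (Fintype.card F ^ k + 1) := by
  obtain ⟨K, _, _, b, hKf, -, hK, -⟩ := Singer.exists_ext F k hk
  have := Fintype.ofFinite K
  obtain ⟨L, _, _, b', hLf, g, hL, hg⟩ := Singer.exists_ext K 2 two_ne_zero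
  let _ : Algebra F L := ((algebraMap K L).comp (algebraMap F K)).toAlgebra
  have : IsScalarTower F K L := IsScalarTower.of_algebraMap_eq fun _ => rfl
  have hKc : Fintype.card K = Fintype.card F ^ k := by rw [← hK, Nat.card_eq_fintype_card]
  have hq : 2 ≤ Fintype.card K := Fintype.one_lt_card
  have hrk : Module.finrank F K = k := by rw [Module.finrank_eq_card_basis b, Fintype.card_fin]
  have hs := (sg_normQ b').res (F := F)
  rw [hrk, mul_one] at hs
  have hnorm : Algebra.norm K ((g : L) ^ (Fintype.card K - 1)) = 1 := by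
    rw [map_pow]
    apply FiniteField.pow_card_sub_one_eq_one
    rw [Ne, Algebra.norm_eq_zero_iff_of_basis b']
    exact g.ne_zero
  have ho : orderOf ((g : L) ^ (Fintype.card K - 1)) = Fintype.card F ^ k + 1 := by
    rw [← Units.val_pow_eq_pow_val, orderOf_units, orderOf_pow_of_dvd (by omega), hg, ← hKc]
    · have h1 : Fintype.card K ^ 2 - 1 = (Fintype.card K + 1) * (Fintype.card K - 1) := by
        have := Nat.sq_sub_sq (Fintype.card K) 1
        simpa using this
      rw [h1, Nat.mul_div_cancel _ (by omega)]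
    · rw [hg]
      simpa using Nat.sub_dvd_pow_sub_pow (Fintype.card K) 1 2
  refine ⟨L, inferInstance, inferInstance, inferInstance, traceForm F (normQ b'),
    LinearMap.mulLeft F ((g : L) ^ (Fintype.card K - 1)), L, inferInstance, inferInstance, _, hs, ?_, ?_, ho⟩
  · intro v
    rw [traceForm_apply, traceForm_apply]
    congr 1
    rw [normQ_apply, normQ_apply, LinearMap.mulLeft_apply, map_mul, hnorm, one_mul]
  · exact ⟨LinearMap.id, fun a b h => h, fun z => rfl⟩

theorem EigElt.extend {n m : ℕ} {ε δ : ℤ} {N : ℕ} (h : EigElt F n ε N) (hnm : n < m) (hδ : δ = 1 ∨ δ = -1) :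
    EigElt F m δ N := by
  obtain ⟨V, _, _, _, Q, g, L, _, _, y, hs, hg, hy, ho⟩ := h
  have hε := hs.eps
  obtain ⟨ι, _, Q', hs'⟩ := exists_sg F (n := m - n) (by omega) (sign_mul hε hδ)
  have h1 := hs.prod hs'
  rw [sign_cancel hε, Nat.add_sub_cancel' hnm.le] at h1
  refine ⟨V × (ι → F), inferInstance, inferInstance, inferInstance, prodForm Q Q',
    g.prodMap (1 : Module.End F (ι → F)), L, inferInstance, inferInstance, y, h1, ?_, hy.prod _, ho⟩
  intro v
  rw [prodForm_apply, prodForm_apply, LinearMap.prodMap_apply, hg]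
  rfl

end Tori

end Cfsg.Agent.H93.PReg.Orth
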