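import Mathlib

/-!
# Arithmetic for the rows of the classical groups (for S4883)
-/

set_option autoImplicit false

namespace Cfsg.Agent.H93.PReg.Num

open Finset

/-- a square of a prime dividing a product -/
theorem sq_dvd_prod {ι : Type*} [DecidableEq ι] {p : ℕ} (hp : p.Prime) (s : Finset ι) (g : ι → ℕ)
    (h : p ^ 2 ∣ ∏ i ∈ s, g i) :
    (∃ i ∈ s, p ^ 2 ∣ g i) ∨ ∃ i ∈ s, ∃ j ∈ s, i ≠ j ∧ p ∣ g i ∧ p ∣ g j := by
  by_contra hcon
  push Not at hcon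
  obtain ⟨h1, h2⟩ := hcon
  have hp1 : p ∣ ∏ i ∈ s, g i := (dvd_pow_self p (by norm_num)).trans h
  obtain ⟨i, hi, hpi⟩ := (hp.prime.dvd_finsetProd_iff _).1 hp1
  rw [← mul_prod_erase s g hi] at h
  have h3 : Nat.Coprime (p ^ 2) (∏ x ∈ s.erase i, g x) := by
    apply Nat.Coprime.pow_left
    rw [Nat.Prime.coprime_iff_not_dvd hp]
    intro h4
    obtain ⟨j, hj, hpj⟩ := (hp.prime.dvd_finsetProd_iff _).1 h4
    rw [mem_erase] at hj
    exact h2 i hi j hj.2 hj.1.symm hpi hpj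
  exact h1 i hi (h3.dvd_of_dvd_mul_right h)

theorem dvd_sub_iff {p q i : ℕ} (hq : 1 ≤ q) : p ∣ q ^ i - 1 ↔ (q : ZMod p) ^ i = 1 := by
  rw [← Nat.cast_pow, ← ZMod.natCast_eq_zero_iff, Nat.cast_sub (Nat.one_le_pow _ _ hq), Nat.cast_one, sub_eq_zero]

theorem dvd_gcd {p q i j : ℕ} (hq : 1 ≤ q) (hi : p ∣ q ^ i - 1) (hj : p ∣ q ^ j - 1) : p ∣ q ^ Nat.gcd i j - 1 := by
  rw [dvd_sub_iff hq] at *
  exact pow_gcd_eq_one.2 ⟨hi, hj⟩

/-- a divisor of `q^i - 1` prime to `q - 1` -/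
theorem mul_le_of_dvd {a q i : ℕ} (hq : 2 ≤ q) (hi : 1 ≤ i) (h : a ∣ q ^ i - 1) (hc : Nat.Coprime a (q - 1)) :
    a * (q - 1) ≤ q ^ i - 1 := by
  have h1 : (q - 1) ∣ q ^ i - 1 := by simpa using Nat.sub_dvd_pow_sub_pow q 1 i
  have h2 : a * (q - 1) ∣ q ^ i - 1 := hc.mul_dvd_of_dvd_of_dvd h h1
  refine Nat.le_of_dvd ?_ h2
  have : q ^ 1 ≤ q ^ i := Nat.pow_le_pow_right (by omega) hi
  rw [pow_one] at this
  omega

/-- the bound for `p` in `PSL_n(q)`, `n ≥ 3` -/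
theorem psl_sq_le {p q n : ℕ} (hp : p.Prime) (hq : 2 ≤ q) (hn : 3 ≤ n)
    (h : p ^ 2 ∣ ∏ j ∈ Icc 2 n, (q ^ j - 1)) : p ^ 2 * (q - 1) ≤ q ^ n - 1 := by
  obtain ⟨a, rfl⟩ : ∃ a, q = a + 1 := ⟨q - 1, by omega⟩
  have hmono : ∀ i, 1 ≤ i → i ≤ n → (a + 1) ^ i ≤ (a + 1) ^ n := fun i _ hi =>
    Nat.pow_le_pow_right (by omega) hi
  by_cases h1 : p ∣ a
  · -- `p ∣ q - 1`
    have hle : p ≤ a := Nat.le_of_dvd (by omega) h1
    have h3 : (a + 1) ^ 3 ≤ (a + 1) ^ n := hmono 3 (by norm_num) hn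
    have h4 : p ^ 2 ≤ a ^ 2 := Nat.pow_le_pow_left hle 2
    have h5 : p ^ 2 * (a + 1 - 1) ≤ a ^ 2 * a := by
      rw [Nat.add_sub_cancel]
      exact Nat.mul_le_mul_right a h4
    have h6 : a ^ 2 * a + 1 ≤ (a + 1) ^ 3 := by ring_nf; nlinarith
    omega
  · have hcp : Nat.Coprime p (a + 1 - 1) := by
      rw [Nat.add_sub_cancel]
      exact (Nat.Prime.coprime_iff_not_dvd hp).2 h1
    rcases sq_dvd_prod hp _ _ h with ⟨i, hi, hpi⟩ | ⟨i, hi, j, hj, hij, hpi, hpj⟩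
    · rw [mem_Icc] at hi
      have h2 := mul_le_of_dvd hq (by omega) hpi (Nat.Coprime.pow_left 2 hcp)
      have h3 := hmono i (by omega) hi.2
      omega
    · rw [mem_Icc] at hi hj
      have hg := dvd_gcd (by omega) hpi hpj
      have he0 : 0 < Nat.gcd i j := Nat.gcd_pos_of_pos_left _ (by omega)
      have h2e : 2 * Nat.gcd i j ≤ n := by
        obtain ⟨u, hu⟩ := Nat.gcd_dvd_left i j
        obtain ⟨v, hv⟩ := Nat.gcd_dvd_right i j
        have hu0 : u ≠ 0 := by rintro rfl; omega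
        have hv0 : v ≠ 0 := by rintro rfl; omega
        have huv : u ≠ v := by
          intro huv
          exact hij (hu.trans ((congrArg (Nat.gcd i j * ·) huv).trans hv.symm))
        rcases lt_or_gt_of_ne huv with hlt | hlt
        · have : 2 ≤ v := by omega
          have := Nat.mul_le_mul_left (Nat.gcd i j) this
          omega
        · have : 2 ≤ u := by omega
          have := Nat.mul_le_mul_left (Nat.gcd i j) this
          omega
      set e := Nat.gcd i j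
      have h2 := mul_le_of_dvd hq he0 hg hcp
      rw [Nat.add_sub_cancel] at h2 ⊢
      have h3 := hmono (2 * e) (by omega) h2e
      have h4 : 1 ≤ (a + 1) ^ e := Nat.one_le_pow _ _ (by omega)
      -- `p a ≤ Q - 1`, `p² a ≤ Q² - 1`
      obtain ⟨Q, hQ⟩ : ∃ Q, (a + 1) ^ e = Q + 1 := ⟨(a + 1) ^ e - 1, by omega⟩
      rw [hQ, Nat.add_sub_cancel] at h2
      have h5 : (a + 1) ^ (2 * e) = (Q + 1) ^ 2 := by rw [mul_comm, pow_mul, hQ]
      have hpQ : p ≤ Q := by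
        refine le_trans ?_ h2
        exact Nat.le_mul_of_pos_right _ (by omega)
      have h6 : p ^ 2 * a ≤ Q * Q := by
        calc p ^ 2 * a = p * (p * a) := by ring
          _ ≤ p * Q := Nat.mul_le_mul_left _ h2
          _ ≤ Q * Q := Nat.mul_le_mul_right _ hpQ
      have h7 : Q * Q + 1 ≤ (Q + 1) ^ 2 := by ring_nf; omega
      omega

end Cfsg.Agent.H93.PReg.Num
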