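import Cfsg.Agent.H93.PReg.Base

/-! # The row of the alternating groups (for S4883) -/

set_option autoImplicit false

namespace Cfsg.Agent.H93.PReg

open Cfsg.Agent.H92.KTools Equiv

theorem hasOrd_alt {n k : ℕ} (hk : Odd k) (h1 : 3 ≤ k) (hn : k ≤ n) : HasOrd (alternatingGroup (Fin n)) k := by
  obtain ⟨g, hg⟩ := (Equiv.Perm.exists_with_cycleType_iff (Fin n) (m := {k})).2
    ⟨by simpa using hn, by simpa using by omega⟩
  refine ⟨⟨g, ?_⟩, ?_⟩
  · rw [Equiv.Perm.mem_alternatingGroup, Equiv.Perm.sign_of_cycleType, hg]
    simp only [Multiset.sum_singleton, Multiset.card_singleton]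
    exact (Even.neg_one_pow (by
      obtain ⟨c, hc⟩ := hk
      exact ⟨c + 1, by omega⟩))
  · rw [← orderOf_injective (alternatingGroup (Fin n)).subtype (Subgroup.subtype_injective _)]
    show orderOf g = k
    rw [← Equiv.Perm.lcm_cycleType, hg, Multiset.lcm_singleton, normalize_eq]

theorem two_mul_le_of_sq_dvd {n p : ℕ} (hp : p.Prime) (h : p ^ 2 ∣ n.factorial) : 2 * p ≤ n := by
  by_contra hlt
  push Not at hlt
  have := Fact.mk hp
  have h2 := hp.two_le
  have h1 : Nat.log p n < 2 := by
    apply Nat.log_lt_of_lt_pow' (by norm_num)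
    calc n < 2 * p := hlt
      _ ≤ p * p := Nat.mul_le_mul_right _ h2
      _ = p ^ 2 := by ring
  have h3 : padicValNat p n.factorial = n / p := by
    rw [padicValNat_factorial h1]
    simp
  have h4 : 2 ≤ padicValNat p n.factorial := (padicValNat_dvd_iff_le (Nat.factorial_ne_zero n)).1 h
  rw [h3] at h4
  have h5 := (Nat.le_div_iff_mul_le hp.pos).1 h4
  omega

theorem row_alt {n : ℕ} (hn : 5 ≤ n) : Row (alternatingGroup (Fin n)) := by
  intro p hp h5 hd
  have : Nontrivial (Fin n) := Fin.nontrivial_iff_two_le.2 (by omega)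
  have hcard : 2 * Nat.card (alternatingGroup (Fin n)) = n.factorial := by
    rw [Nat.card_eq_fintype_card, two_mul_card_alternatingGroup, Fintype.card_perm, Fintype.card_fin]
  have h2p : 2 * p ≤ n := two_mul_le_of_sq_dvd hp (hd.trans ⟨2, by rw [← hcard]; ring⟩)
  classical
  let L : Finset ℕ := insert 2 (((Finset.range p).image fun i => 2 * i + 1).erase p)
  have hodd : Odd p := hp.odd_of_ne_two (by omega)
  have hL : L.card = p := by
    have h1 : ((Finset.range p).image fun i => 2 * i + 1).card = p := by
      rw [Finset.card_image_of_injective _ (fun a b h => by simpa using h), Finset.card_range]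
    have h2 : p ∈ (Finset.range p).image fun i => 2 * i + 1 := by
      obtain ⟨c, hc⟩ := hodd
      exact Finset.mem_image.2 ⟨c, Finset.mem_range.2 (by omega), hc.symm⟩
    rw [Finset.card_insert_of_notMem, Finset.card_erase_of_mem h2, h1]
    · omega
    · rw [Finset.mem_erase, Finset.mem_image]
      rintro ⟨-, i, -, hi⟩
      omega
  have h := MO.of_finset (S := alternatingGroup (Fin n)) (A := Reg p) L ?_ ?_
  · rwa [hL] at h
  · intro k hk
    rw [Finset.mem_insert, Finset.mem_erase, Finset.mem_image] at hk
    rcases hk with rfl | ⟨hkp, i, hi, rfl⟩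
    · refine hasOrd_prime Nat.prime_two ?_
      have h4 : 4 ∣ n.factorial := by
        have : (4 : ℕ).factorial ∣ n.factorial := Nat.factorial_dvd_factorial (by omega)
        exact (by decide : 4 ∣ (4 : ℕ).factorial).trans this
      omega
    · rw [Finset.mem_range] at hi
      rcases Nat.eq_zero_or_pos i with rfl | hi0
      · exact hasOrd_one _
      · exact hasOrd_alt ⟨i, rfl⟩ (by omega) (by omega)
  · intro k hk
    rw [Finset.mem_insert, Finset.mem_erase, Finset.mem_image] at hk
    rcases hk with rfl | ⟨hkp, i, hi, rfl⟩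
    · show ¬ p ∣ 2
      intro h
      have := Nat.le_of_dvd (by norm_num) h
      omega
    · rw [Finset.mem_range] at hi
      show ¬ p ∣ 2 * i + 1
      rintro ⟨c, hc⟩
      have hc2 : c < 2 := by
        by_contra hcc
        push Not at hcc
        have := Nat.mul_le_mul_left p hcc
        omega
      have : c = 0 ∨ c = 1 := by omega
      rcases this with rfl | rfl
      · omega
      · exact hkp (by omega)

end Cfsg.Agent.H93.PReg
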