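import Cfsg.Agent.H93.PReg.NumOrth

/-!
# Arithmetic for `PΩ⁺₈(q)` (for S4883)
-/

set_option autoImplicit false

namespace Cfsg.Agent.H93.PReg.NumD4

open Finset Cfsg.Agent.H93.PReg.Num

/-- the constant -/
def K4 (q f : ℕ) : ℕ := 36 * (Nat.gcd 2 (q - 1)) ^ 3 * f

/-- the inequality for one of two products of tori -/
def Ineq4 (p K q : ℕ) : Prop :=
  (¬ p ∣ q ^ 3 - 1 ∧ (p - 1) * K < (q ^ 3 - q) * (q - 1)) ∨ (¬ p ∣ q ^ 3 + 1 ∧ (p - 1) * K < (q ^ 3 - q) * (q + 1))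

theorem K4_le (q f : ℕ) : K4 q f ≤ 288 * f := by
  have h1 : Nat.gcd 2 (q - 1) ≤ 2 := Nat.gcd_le_left _ (by norm_num)
  have h2 := Nat.pow_le_pow_left h1 3
  calc K4 q f = 36 * (Nat.gcd 2 (q - 1)) ^ 3 * f := rfl
    _ ≤ 36 * 2 ^ 3 * f := Nat.mul_le_mul_right _ (Nat.mul_le_mul_left _ h2)
    _ = 288 * f := by norm_num

theorem big4 {p q f : ℕ} (hp : p.Prime) (h5 : 5 ≤ p) (hf : 1 ≤ f) (h : 18 * f ≤ q) (hle : (p - 1) ^ 2 ≤ q ^ 4) :
    Ineq4 p (K4 q f) q := by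
  have h1 : p - 1 ≤ q ^ 2 := by
    have h2 : (p - 1) ^ 2 ≤ (q ^ 2) ^ 2 := by
      calc (p - 1) ^ 2 ≤ q ^ 4 := hle
        _ = (q ^ 2) ^ 2 := by ring
    exact (Nat.pow_le_pow_iff_left two_ne_zero).1 h2
  have h18 : 18 ≤ q := by omega
  have key : (p - 1) * K4 q f < (q ^ 3 - q) * (q - 1) := by
    obtain ⟨a, rfl⟩ : ∃ a, q = a + 18 := ⟨q - 18, by omega⟩
    have h3 : (p - 1) * K4 (a + 18) f ≤ (a + 18) ^ 2 * (16 * (a + 18)) :=
      Nat.mul_le_mul h1 ((K4_le _ _).trans (by omega))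
    have h4 : (a + 18) ^ 3 - (a + 18) = (a + 18) * ((a + 18) ^ 2 - 1) := by
      rw [Nat.mul_sub]
      congr 1
      · ring
      · ring
    have h5 : (a + 18) ^ 2 - 1 = (a + 17) * (a + 19) := by
      have : (a + 18) ^ 2 = (a + 17) * (a + 19) + 1 := by ring
      omega
    rw [h4, h5, show a + 18 - 1 = a + 17 by omega]
    refine lt_of_le_of_lt h3 ?_
    nlinarith
  by_cases h2 : p ∣ q ^ 3 + 1
  · exact Or.inl ⟨not_dvd_both hp h5 h2, key⟩
  · exact Or.inr ⟨h2, key.trans_le (Nat.mul_le_mul_left _ (by omega))⟩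

/-- the small cases `(r, f)` with a bound for `p` -/
def small4 : List ((ℕ × ℕ) × ℕ) :=
  [((2,1),1), ((2,2),1), ((2,3),1), ((2,4),3), ((2,5),12), ((2,6),46), ((3,1),1), ((3,2),1), ((3,3),9), ((5,1),1),
    ((5,2),7), ((7,1),1), ((11,1),2), ((13,1),2), ((17,1),4)]

theorem finite_check4 : ((List.range 108).all fun i => (List.range 6).all fun k =>
    !isP (i + 2) || decide (18 * (k + 1) ≤ (i + 2) ^ (k + 1)) ||
      (small4.map Prod.fst).contains (i + 2, k + 1)) = true := by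
  decide +kernel

theorem f_bound4 (f : ℕ) (hf : 7 ≤ f) : 18 * f ≤ 2 ^ f := by
  induction f, hf using Nat.le_induction with
  | base => norm_num
  | succ n hn ih =>
    have h1 : 2 ^ (n + 1) = 2 * 2 ^ n := by ring
    rw [h1]
    omega

/-- **the general inequality holds up to the small cases** -/
theorem big_or_small4 {r f : ℕ} (hr : r.Prime) (hf : 1 ≤ f) :
    18 * f ≤ r ^ f ∨ ∃ P, ((r, f), P) ∈ small4 := by
  have hr2 := hr.two_le
  by_cases h7 : 7 ≤ f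
  · exact Or.inl ((f_bound4 f h7).trans (Nat.pow_le_pow_left hr2 f))
  by_cases h108 : 108 ≤ r
  · left
    calc 18 * f ≤ 108 := by omega
      _ ≤ r := h108
      _ ≤ r ^ f := Nat.le_self_pow (by omega) r
  have h1 := finite_check4
  rw [List.all_eq_true] at h1
  have h2 := h1 (r - 2) (List.mem_range.2 (by omega))
  rw [List.all_eq_true] at h2
  have h3 := h2 (f - 1) (List.mem_range.2 (by omega))
  rw [show r - 2 + 2 = r by omega, show f - 1 + 1 = f by omega, isP_of_prime hr] at h3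
  simpa using h3

/-- the inequality in a decidable form -/
def chk4 (p K q : ℕ) : Bool := ((q ^ 3 - 1) % p != 0 && Nat.blt ((p - 1) * K) ((q ^ 3 - q) * (q - 1))) ||
  ((q ^ 3 + 1) % p != 0 && Nat.blt ((p - 1) * K) ((q ^ 3 - q) * (q + 1)))

theorem chk4_sound {p K q : ℕ} (h : chk4 p K q = true) : Ineq4 p K q := by
  unfold chk4 at h
  simp only [Bool.or_eq_true, Bool.and_eq_true, bne_iff_ne, ne_eq, Nat.blt_eq] at h
  rcases h with ⟨h1, h2⟩ | ⟨h1, h2⟩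
  · exact Or.inl ⟨fun hd => h1 (Nat.mod_eq_zero_of_dvd hd), h2⟩
  · exact Or.inr ⟨fun hd => h1 (Nat.mod_eq_zero_of_dvd hd), h2⟩

/-- the exceptions -/
def exc4 : List (ℕ × ℕ × ℕ) :=
  [(2,1,5),(2,2,5),(2,2,17),(3,1,5),(3,2,41),(5,1,5),(5,1,13),(11,1,61)]

/-- the check for one `q` -/
def chkRow4 (r f P q K M : ℕ) : Bool :=
  Nat.blt (q ^ 4) ((90 * P) ^ 2) &&
  (List.range P).all fun i => (List.range 90).all fun j =>
    Nat.blt (90 * i + j) 4 || !(q % (90 * i + j + 1) == 0 || M % ((90 * i + j + 1) * (90 * i + j + 1)) == 0) ||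
      !isP (90 * i + j + 1) || exc4.contains (r, f, 90 * i + j + 1) || chk4 (90 * i + j + 1) K q

theorem chkRow4_sound {r f P q K M p : ℕ}
    (h : chkRow4 r f P q K M = true) (hp : p.Prime) (h5 : 5 ≤ p) (hle : (p - 1) ^ 2 ≤ q ^ 4)
    (hd : p ∣ q ∨ p ^ 2 ∣ M) : (r, f, p) ∈ exc4 ∨ Ineq4 p K q := by
  unfold chkRow4 at h
  simp only [Bool.and_eq_true, Nat.blt_eq, List.all_eq_true, List.mem_range] at h
  obtain ⟨h1, h2⟩ := h
  have h3 : p - 1 < 90 * P := by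
    by_contra hc
    push Not at hc
    have := Nat.pow_le_pow_left hc 2
    omega
  have h4 := h2 ((p - 1) / 90) (Nat.div_lt_of_lt_mul h3) ((p - 1) % 90) (Nat.mod_lt _ (by norm_num))
  rw [show 90 * ((p - 1) / 90) + (p - 1) % 90 = p - 1 from Nat.div_add_mod _ _, show p - 1 + 1 = p by omega] at h4
  simp only [Bool.or_eq_true, Nat.blt_eq, isP_of_prime hp, Bool.not_true, Bool.false_eq_true, or_false,
    Bool.not_eq_true', Bool.or_eq_false_iff, beq_eq_false_iff_ne, ne_eq] at h4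
  rcases h4 with ((h4 | h4) | h4) | h4
  · omega
  · exfalso
    rcases hd with hd | hd
    · exact h4.1 (Nat.mod_eq_zero_of_dvd hd)
    · rw [pow_two] at hd
      exact h4.2 (Nat.mod_eq_zero_of_dvd hd)
  · left
    simpa using h4
  · right
    exact chk4_sound h4

theorem small_check4 : (small4.all fun x => chkRow4 x.1.1 x.1.2 x.2 (x.1.1 ^ x.1.2) (K4 (x.1.1 ^ x.1.2) x.1.2)
    (((x.1.1 ^ x.1.2) ^ 4 - 1) * NS (x.1.1 ^ x.1.2) 3)) = true := by
  decide +kernel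

/-- **the small cases** -/
theorem small_case4 {r f P p : ℕ} (h : ((r, f), P) ∈ small4) (hp : p.Prime) (h5 : 5 ≤ p)
    (hle : (p - 1) ^ 2 ≤ (r ^ f) ^ 4)
    (hd : p ∣ r ^ f ∨ p ^ 2 ∣ ((r ^ f) ^ 4 - 1) * ∏ i ∈ range (4 - 1), ((r ^ f) ^ (2 * (i + 1)) - 1)) :
    (r, f, p) ∈ exc4 ∨ Ineq4 p (K4 (r ^ f) f) (r ^ f) := by
  have h1 := small_check4
  rw [List.all_eq_true] at h1
  rw [← NS_eq] at hd
  exact chkRow4_sound (h1 _ h) hp h5 hle hd

/-- **arithmetic of the row** -/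
theorem main4 {r f p : ℕ} (hr : r.Prime) (hf : 1 ≤ f) (hp : p.Prime) (h5 : 5 ≤ p) (hle : (p - 1) ^ 2 ≤ (r ^ f) ^ 4)
    (hd : p ∣ r ^ f ∨ p ^ 2 ∣ ((r ^ f) ^ 4 - 1) * ∏ i ∈ range (4 - 1), ((r ^ f) ^ (2 * (i + 1)) - 1)) :
    (r, f, p) ∈ exc4 ∨ Ineq4 p (K4 (r ^ f) f) (r ^ f) := by
  rcases big_or_small4 hr hf with h | ⟨P, h⟩
  · exact Or.inr (big4 hp h5 hf h hle)
  · exact small_case4 h hp h5 hle hd

end Cfsg.Agent.H93.PReg.NumD4
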