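import Cfsg.Agent.H93.PReg.OrthRow

/-!
# Counting with the characteristic polynomials of products of two tori (for S4883)

* `MO.of_charpoly` : an index set in which every characteristic polynomial occurs at most `c` times;
* `low_of_root`, `high_of_root` : roots of the characteristic polynomial of `f` with `f ^ N = f` and with
  `f ^ N - f` invertible;
* `Tor F n ε N` : a torus of order `N` in the isometry group of a form of sign `ε` in dimension `2n`;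
* `exists_pairs`, `MO_pairs`, `MO_pairs_s`.
-/

set_option autoImplicit false
set_option linter.unusedSectionVars false

namespace Cfsg.Agent.H93.PReg

open Cfsg.Agent.H92.KTools Polynomial Matrix

universe u

section General

variable {S : Type u} [Group S] {A : Set ℕ} {n : ℕ}
  {F : Type*} [Field F] {ι : Type*} [Fintype ι] [DecidableEq ι]
  {H : Type*} [Group H] {ρ : H →* Matrix ι ι F} {π : H →* S} {W : Type*} [Finite W]

/-- **counting** with characteristic polynomials -/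
theorem MO.of_charpoly {κ : Type*} (hC : Ctl ρ π W) (z : κ → H) (X : Finset κ)
    (hX : ∀ k ∈ X, orderOf (π (z k)) ∈ A) (c : ℕ)
    (hc : ∀ k ∈ X, ∀ Y ⊆ X, (∀ l ∈ Y, (ρ (z l)).charpoly = (ρ (z k)).charpoly) → Y.card ≤ c)
    (h : (n - 1) * (c * Nat.card W) < X.card) : MO A n S := by
  classical
  have := Fintype.ofFinite W
  obtain ⟨P, -, hP2⟩ := hC
  refine MO.of_index X (fun k => π (z k)) hX (c * Nat.card W) ?_ h
  intro k hk Y hYX hY
  have h1 : ∀ l ∈ Y, ∃ w, (ρ (z l)).charpoly = P w (z k) := fun l hl => by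
    obtain ⟨a, ha⟩ := hY l hl
    exact hP2 a _ _ ha
  obtain ⟨w₀, -⟩ := hP2 1 (z k) (z k) rfl
  have : Nonempty W := ⟨w₀⟩
  choose! w hw using h1
  have h2 : Y.card ≤ c * (Y.image w).card := by
    apply Finset.card_le_mul_card_image
    intro b hb
    obtain ⟨l₀, hl₀, rfl⟩ := Finset.mem_image.1 hb
    refine hc l₀ (hYX hl₀) _ ((Finset.filter_subset _ _).trans hYX) fun l hl => ?_
    obtain ⟨hl1, hl2⟩ := Finset.mem_filter.1 hl
    rw [hw l hl1, hw l₀ hl₀, hl2]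
  refine h2.trans (Nat.mul_le_mul_left _ ?_)
  rw [Nat.card_eq_fintype_card]
  exact Finset.card_le_univ _

end General

section Spectrum

variable {F L V : Type*} [Field F] [Field L] [Algebra F L] [AddCommGroup V] [Module F V] [FiniteDimensional F V]

theorem matrix_low {ι : Type*} [Fintype ι] [DecidableEq ι] (A : Matrix ι ι F) (N : ℕ) (z : L)
    (hz : aeval z A.charpoly = 0) :
    z ^ N - z ∈ spectrum L ((A ^ N - A).map (algebraMap F L)) := by
  rw [mem_spectrum_iff] at hz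
  have h1 := spectrum.subset_polynomial_aeval (𝕜 := L) (A.map (algebraMap F L)) (X ^ N - X)
  have h2 : z ^ N - z ∈ (fun x => eval x (X ^ N - X : L[X])) '' spectrum L (A.map (algebraMap F L)) :=
    ⟨z, hz, by simp⟩
  have h3 := h1 h2
  have h4 : aeval (A.map (algebraMap F L)) (X ^ N - X : L[X]) = (A ^ N - A).map (algebraMap F L) := by
    rw [map_sub, map_pow, aeval_X, ← RingHom.mapMatrix_apply, ← RingHom.mapMatrix_apply, map_sub, map_pow]
  rwa [h4] at h3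

theorem low_of_root (f : Module.End F V) (N : ℕ) (h : f ^ N = f) (z : L) (hz : aeval z f.charpoly = 0) :
    z ^ N = z := by
  have h0 : LinearMap.toMatrixAlgEquiv (Module.finBasis F V) f ^ N = LinearMap.toMatrixAlgEquiv (Module.finBasis F V) f := by
    rw [← map_pow, h]
  have hz' : aeval z (LinearMap.toMatrixAlgEquiv (Module.finBasis F V) f).charpoly = 0 := by
    have := LinearMap.charpoly_toMatrix f (Module.finBasis F V)
    rw [← this] at hz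
    exact hz
  have h1 := matrix_low _ N z hz'
  rw [h0, sub_self] at h1
  have h2 : ((0 : Matrix (Fin (Module.finrank F V)) (Fin (Module.finrank F V)) F).map (algebraMap F L)) = 0 :=
    Matrix.map_zero _ (map_zero _)
  rw [h2] at h1
  by_contra hne
  apply h1
  rw [spectrum.mem_resolventSet_iff, sub_zero]
  exact (IsUnit.mk0 _ (sub_ne_zero.2 hne)).map _

theorem high_of_root (f : Module.End F V) (N : ℕ) (h : IsUnit (f ^ N - f)) (z : L) (hz : aeval z f.charpoly = 0) :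
    z ^ N ≠ z := by
  have h0 : IsUnit (LinearMap.toMatrixAlgEquiv (Module.finBasis F V) f ^ N -
      LinearMap.toMatrixAlgEquiv (Module.finBasis F V) f) := by
    rw [← map_pow, ← map_sub]
    exact h.map _
  have hz' : aeval z (LinearMap.toMatrixAlgEquiv (Module.finBasis F V) f).charpoly = 0 := by
    have := LinearMap.charpoly_toMatrix f (Module.finBasis F V)
    rw [← this] at hz
    exact hz
  have h1 := matrix_low _ N z hz'
  intro heq
  rw [heq, sub_self] at h1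
  apply h1
  rw [spectrum.mem_resolventSet_iff, map_zero, zero_sub]
  rw [IsUnit.neg_iff]
  rw [← RingHom.mapMatrix_apply]
  exact h0.map _

end Spectrum

end Cfsg.Agent.H93.PReg

namespace Cfsg.Agent.H93.PReg.Orth

open QuadraticMap Cfsg.Agent.LieClassical.OrthCore Cfsg.Agent.LieClassical.OrthForms
open Polynomial Matrix Cfsg.Agent.H93.PReg Cfsg Cfsg.Agent.H92.KTools
open Cfsg.Agent.H182.Sign Cfsg.Agent.H182.Orth

/-- a torus of order `N` in the isometry group of a form of sign `ε` in dimension `2n` -/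
def Tor (F : Type) [Field F] [Finite F] (n : ℕ) (ε : ℤ) (N : ℕ) : Prop :=
  ∃ (R : Type) (_ : CommRing R) (_ : Algebra F R) (_ : Finite R) (Q : QuadraticForm F R) (y : R)
    (L : Type) (_ : Field L) (_ : Algebra F L) (φ : R →ₐ[F] L),
    Sg Q n ε ∧ (∀ v, Q (y * v) = Q v) ∧ orderOf y = N ∧ orderOf (φ y) = N ∧ ∀ k : ℕ, y ^ k ≠ 1 → IsUnit (y ^ k - 1)

section Tori

variable {F : Type} [Field F] [Fintype F]

theorem tor_plus (k : ℕ) (hk : k ≠ 0) : Tor F k 1 (Fintype.card F ^ k - 1) := by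
  obtain ⟨K, _, _, b, hKf, y, hK, hy⟩ := Singer.exists_ext F k hk
  have hrk : Module.finrank F K = k := by rw [Module.finrank_eq_card_basis b, Fintype.card_fin]
  have hs := (sg_hypForm (F := K)).res (F := F)
  rw [hrk, mul_one] at hs
  have ho : orderOf ((((y : K), ((y⁻¹ : Kˣ) : K)) : K × K)) = Fintype.card F ^ k - 1 := by
    rw [Prod.orderOf, orderOf_units, orderOf_units, orderOf_inv, Nat.lcm_self, hy]
  refine ⟨K × K, inferInstance, inferInstance, inferInstance, traceForm F (hypForm K),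
    ((y : K), ((y⁻¹ : Kˣ) : K)), K, inferInstance, inferInstance, AlgHom.fst F K K, hs, ?_, ho, ?_, ?_⟩
  · intro v
    rw [traceForm_apply, traceForm_apply]
    congr 1
    show (y : K) * v.1 * (((y⁻¹ : Kˣ) : K) * v.2) = v.1 * v.2
    have h1 : (y : K) * ((y⁻¹ : Kˣ) : K) = 1 := Units.mul_inv y
    linear_combination v.1 * v.2 * h1
  · show orderOf (y : K) = _
    rw [orderOf_units, hy]
  · intro j hj
    rw [Prod.isUnit_iff]
    have h1 : (y : K) ^ j ≠ 1 := by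
      intro h
      apply hj
      refine Prod.ext h ?_
      show ((y⁻¹ : Kˣ) : K) ^ j = 1
      have h2 : y ^ j = 1 := Units.ext (by simpa using h)
      rw [← Units.val_pow_eq_pow_val, inv_pow, h2, inv_one, Units.val_one]
    have h2 : ((y⁻¹ : Kˣ) : K) ^ j ≠ 1 := by
      intro h
      apply h1
      have h3 : (y⁻¹) ^ j = 1 := Units.ext (by simpa using h)
      rw [inv_pow, inv_eq_one] at h3
      rw [← Units.val_pow_eq_pow_val, h3, Units.val_one]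
    exact ⟨IsUnit.mk0 _ (sub_ne_zero.2 h1), IsUnit.mk0 _ (sub_ne_zero.2 h2)⟩

theorem tor_minus (k : ℕ) (hk : k ≠ 0) : Tor F k (-1) (Fintype.card F ^ k + 1) := by
  obtain ⟨K, _, _, b, hKf, -, hK, -⟩ := Singer.exists_ext F k hk
  have := Fintype.ofFinite K
  obtain ⟨L, _, _, b', hLf, g, hL, hg⟩ := Singer.exists_ext K 2 two_ne_zero
  let _ : Algebra F L := ((algebraMap K L).comp (algebraMap F K)).toAlgebra
  have : IsScalarTower F K L := IsScalarTower.of_algebraMap_eq fun _ => rfl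
  have hKc : Fintype.card K = Fintype.card F ^ k := by rw [← hK, Nat.card_eq_fintype_card]
  have hq : 2 ≤ Fintype.card K := Fintype.one_lt_card
  have hrk : Module.finrank F K = k := by rw [Module.finrank_eq_card_basis b, Fintype.card_fin]
  have hs := (sg_normQ b').res (F := F)
  rw [hrk, mul_one] at hs
  have hnorm : Algebra.norm K ((g : L) ^ (Fintype.card K - 1)) = 1 := by
    rw [map_pow]
    apply FiniteField.pow_card_sub_one_eq_one
    rw [Ne, Algebra.norm_eq_zero_iff_of_basis b']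
    exact g.ne_zero
  have ho : orderOf ((g : L) ^ (Fintype.card K - 1)) = Fintype.card F ^ k + 1 := by
    rw [← Units.val_pow_eq_pow_val, orderOf_units, orderOf_pow_of_dvd (by omega), hg, ← hKc]
    · have h1 : Fintype.card K ^ 2 - 1 = (Fintype.card K + 1) * (Fintype.card K - 1) := by
        have := Nat.sq_sub_sq (Fintype.card K) 1
        simpa using this
      rw [h1, Nat.mul_div_cancel _ (by omega)]
    · rw [hg]
      simpa using Nat.sub_dvd_pow_sub_pow (Fintype.card K) 1 2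
  refine ⟨L, inferInstance, inferInstance, inferInstance, traceForm F (normQ b'),
    (g : L) ^ (Fintype.card K - 1), L, inferInstance, inferInstance, AlgHom.id F L, hs, ?_, ho, ho, ?_⟩
  · intro v
    rw [traceForm_apply, traceForm_apply]
    congr 1
    rw [normQ_apply, normQ_apply, map_mul, hnorm, one_mul]
  · intro j hj
    exact IsUnit.mk0 _ (sub_ne_zero.2 hj)

end Tori

section Pairs

variable {ι : Type} [Fintype ι] [DecidableEq ι] {F : Type} [Field F] [Fintype F]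

/-- roots of the characteristic polynomial of a multiplication -/
theorem root_lmul {R L : Type*} [CommRing R] [Algebra F R] [Finite R] [Field L] [Algebra F L] (φ : R →ₐ[F] L) (r : R) :
    aeval (φ r) (LinearMap.charpoly (Algebra.lmul F R r)) = 0 := by
  have : Module.Finite F R := Module.Finite.of_finite
  have h1 := LinearMap.aeval_self_charpoly (Algebra.lmul F R r)
  rw [Polynomial.aeval_algHom_apply] at h1
  have h2 : aeval r (LinearMap.charpoly (Algebra.lmul F R r)) = 0 := by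
    have := LinearMap.congr_fun h1 1
    simpa using this
  rw [Polynomial.aeval_algHom_apply, h2, map_zero]

theorem lmul_prod {R R' : Type*} [CommRing R] [Algebra F R] [CommRing R'] [Algebra F R'] (a : R) (b : R') :
    Algebra.lmul F (R × R') (a, b) = (Algebra.lmul F R a).prodMap (Algebra.lmul F R' b) := by
  apply LinearMap.ext
  intro v
  rfl

theorem rho_injective (Q : (ι → F) → F) : Function.Injective (ρ Q) := fun _ _ hab =>
  Subtype.ext (Subtype.ext (Units.ext hab))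

theorem dvd_two_mul (N : ℕ) : N ∣ 2 * (N / Nat.gcd N 2) := by
  calc N = Nat.gcd N 2 * (N / Nat.gcd N 2) := (Nat.mul_div_cancel' (Nat.gcd_dvd_left _ _)).symm
    _ ∣ 2 * (N / Nat.gcd N 2) := Nat.mul_dvd_mul_right (Nat.gcd_dvd_right _ _) _

/-- two tori -/
theorem exists_pairs {Q : QuadraticForm F (ι → F)} {n₁ n₂ : ℕ} {ε₁ ε₂ : ℤ} {N₁ N₂ q' : ℕ}
    (hQ : Sg Q (n₁ + n₂) (ε₁ * ε₂)) (hm : 3 ≤ n₁ + n₂) (h1 : Tor F n₁ ε₁ N₁) (h2 : Tor F n₂ ε₂ N₂)
    (hlow : N₂ ∣ 2 * (q' - 1)) (hq' : 1 ≤ q') (hN₁ : N₁ ≠ 0) :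
    ∃ (z : ℕ × ℕ → Omega F ⇑Q) (L : Type) (_ : Field L) (_ : Algebra F L) (x : L),
      orderOf x = N₁ / Nat.gcd N₁ 2 ∧ (∀ k, aeval (x ^ k.1) (ρ ⇑Q (z k)).charpoly = 0) ∧
      (∀ k, z k ^ ((N₁ / Nat.gcd N₁ 2) * (N₂ / Nat.gcd N₂ 2)) = 1) ∧
      ∀ k, ¬ N₁ ∣ 2 * k.1 * (q' - 1) → ∀ Y : Finset (ℕ × ℕ),
        (∀ l ∈ Y, l.1 < N₁ / Nat.gcd N₁ 2 ∧ l.2 < N₂ / Nat.gcd N₂ 2 ∧ ¬ N₁ ∣ 2 * l.1 * (q' - 1) ∧
          (ρ ⇑Q (z l)).charpoly = (ρ ⇑Q (z k)).charpoly) → Y.card ≤ 2 * n₁ * (2 * n₂) := by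
  classical
  obtain ⟨R₁, _, _, _, Q₁, y₁, L₁, _, _, φ₁, hs₁, hy₁, ho₁, hφ₁, hu₁⟩ := h1
  obtain ⟨R₂, _, _, _, Q₂, y₂, L₂, _, _, φ₂, hs₂, hy₂, ho₂, hφ₂, -⟩ := h2
  have : Module.Finite F R₁ := Module.Finite.of_finite
  have : Module.Finite F R₂ := Module.Finite.of_finite
  obtain ⟨e, he⟩ := hQ.exists_equiv (hs₁.prod hs₂)
  have hpow₁ : ∀ (i : ℕ) (v : R₁), Q₁ (y₁ ^ i * v) = Q₁ v := by
    intro i
    induction i with
    | zero => intro v; simp
    | succ i ih => intro v; rw [pow_succ, mul_assoc, ih, hy₁]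
  have hpow₂ : ∀ (i : ℕ) (v : R₂), Q₂ (y₂ ^ i * v) = Q₂ v := by
    intro i
    induction i with
    | zero => intro v; simp
    | succ i ih => intro v; rw [pow_succ, mul_assoc, ih, hy₂]
  have hz : ∀ k : ℕ × ℕ, ∃ z : Omega F ⇑Q, (Matrix.toLinAlgEquiv' (ρ ⇑Q z) : Module.End F (ι → F)) =
      e.symm.conj (Algebra.lmul F (R₁ × R₂) ((y₁ ^ 2) ^ k.1, (y₂ ^ 2) ^ k.2)) := by
    intro k
    obtain ⟨z, hz⟩ := exists_omega Q hQ.nondeg (by rw [card_of_sg hQ]; omega) (⇑(prodForm Q₁ Q₂)) e 1 one_ne_zero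
      (fun u => by rw [he, one_mul]) (Algebra.lmul F (R₁ × R₂) (y₁ ^ k.1, y₂ ^ k.2)) (fun v => by
        rw [prodForm_apply, prodForm_apply]
        exact congrArg₂ (· + ·) (hpow₁ _ _) (hpow₂ _ _))
    refine ⟨z, ?_⟩
    rw [hz, ← map_pow, Prod.pow_mk, ← pow_mul, ← pow_mul, ← pow_mul, ← pow_mul, mul_comm k.1, mul_comm k.2]
  choose z hz using hz
  have hchar : ∀ k, (ρ ⇑Q (z k)).charpoly = LinearMap.charpoly (Algebra.lmul F R₁ ((y₁ ^ 2) ^ k.1)) *
      LinearMap.charpoly (Algebra.lmul F R₂ ((y₂ ^ 2) ^ k.2)) := by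
    intro k
    rw [← LinearMap.charpoly_prodMap, ← lmul_prod, ← LinearEquiv.charpoly_conj e.symm, ← hz]
    exact (Matrix.charpoly_toLin' _).symm
  have hr₁ : ∀ i, aeval ((φ₁ y₁ ^ 2) ^ i) (LinearMap.charpoly (Algebra.lmul F R₁ ((y₁ ^ 2) ^ i))) = 0 := by
    intro i
    rw [← map_pow, ← map_pow]
    exact root_lmul φ₁ _
  have hr₂ : ∀ i, aeval ((φ₂ y₂ ^ 2) ^ i) (LinearMap.charpoly (Algebra.lmul F R₂ ((y₂ ^ 2) ^ i))) = 0 := by
    intro i
    rw [← map_pow, ← map_pow]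
    exact root_lmul φ₂ _
  have hx₁ : orderOf (φ₁ y₁ ^ 2) = N₁ / Nat.gcd N₁ 2 := orderOf_sq_eq _ _ hφ₁
  have hx₂ : orderOf (φ₂ y₂ ^ 2) = N₂ / Nat.gcd N₂ 2 := orderOf_sq_eq _ _ hφ₂
  refine ⟨z, L₁, inferInstance, inferInstance, φ₁ y₁ ^ 2, hx₁, fun k => ?_, fun k => ?_, fun k hk Y hY => ?_⟩
  · rw [hchar, map_mul, hr₁, zero_mul]
  · apply rho_injective
    apply (Matrix.toLinAlgEquiv' : Matrix ι ι F ≃ₐ[F] Module.End F (ι → F)).injective
    rw [map_pow, map_pow, hz, H182.Orth.conj_pow, ← map_pow, Prod.pow_mk, map_one, map_one]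
    have e1 : ((y₁ ^ 2) ^ k.1) ^ (N₁ / Nat.gcd N₁ 2 * (N₂ / Nat.gcd N₂ 2)) = 1 := by
      rw [← pow_mul, ← pow_mul, ← orderOf_dvd_iff_pow_eq_one, ho₁]
      refine (dvd_two_mul _).trans ?_
      exact ⟨k.1 * (N₂ / Nat.gcd N₂ 2), by ring⟩
    have e2 : ((y₂ ^ 2) ^ k.2) ^ (N₁ / Nat.gcd N₁ 2 * (N₂ / Nat.gcd N₂ 2)) = 1 := by
      rw [← pow_mul, ← pow_mul, ← orderOf_dvd_iff_pow_eq_one, ho₂]
      refine (dvd_two_mul _).trans ?_
      exact ⟨k.2 * (N₁ / Nat.gcd N₁ 2), by ring⟩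
    rw [e1, e2]
    have h3 : Algebra.lmul F (R₁ × R₂) (1, 1) = 1 := map_one _
    rw [h3]
    exact H182.Orth.conj_one _
  · set c₁ := LinearMap.charpoly (Algebra.lmul F R₁ ((y₁ ^ 2) ^ k.1)) with hc₁
    set c₂ := LinearMap.charpoly (Algebra.lmul F R₂ ((y₂ ^ 2) ^ k.2)) with hc₂
    have hc₁0 : c₁ ≠ 0 := (LinearMap.charpoly_monic _).ne_zero
    have hc₂0 : c₂ ≠ 0 := (LinearMap.charpoly_monic _).ne_zero
    -- the roots of `c₂` are low, the roots of `c₁` are high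
    have hlow₂ : ∀ w : L₁, aeval w c₂ = 0 → w ^ q' = w := by
      intro w hw
      refine low_of_root (Algebra.lmul F R₂ ((y₂ ^ 2) ^ k.2)) q' ?_ w hw
      rw [← map_pow]
      congr 1
      have h3 : y₂ ^ (2 * (q' - 1)) = 1 := by
        rw [← orderOf_dvd_iff_pow_eq_one, ho₂]
        exact hlow
      have h4 : ((y₂ ^ 2) ^ k.2) ^ q' = (y₂ ^ (2 * (q' - 1))) ^ k.2 * (y₂ ^ 2) ^ k.2 := by
        obtain ⟨q'', rfl⟩ : ∃ q'', q' = q'' + 1 := ⟨q' - 1, by omega⟩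
        rw [Nat.add_sub_cancel]
        ring
      rw [h4, h3, one_pow, one_mul]
    have hhigh₁ : ∀ w : L₂, aeval w c₁ = 0 → w ^ q' ≠ w := by
      intro w hw
      refine high_of_root (Algebra.lmul F R₁ ((y₁ ^ 2) ^ k.1)) q' ?_ w hw
      rw [← map_pow, ← map_sub]
      apply IsUnit.map
      have h4 : ((y₁ ^ 2) ^ k.1) ^ q' - (y₁ ^ 2) ^ k.1 = (y₁ ^ 2) ^ k.1 * (y₁ ^ (2 * k.1 * (q' - 1)) - 1) := by
        obtain ⟨q'', rfl⟩ : ∃ q'', q' = q'' + 1 := ⟨q' - 1, by omega⟩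
        rw [Nat.add_sub_cancel]
        ring
      rw [h4]
      refine IsUnit.mul (IsUnit.pow _ (IsUnit.pow _ ?_)) (hu₁ _ ?_)
      · exact IsUnit.of_pow_eq_one (by rw [← ho₁]; exact pow_orderOf_eq_one y₁) hN₁
      · rw [Ne, ← orderOf_dvd_iff_pow_eq_one, ho₁]
        exact hk
    refine (Finset.card_le_card_of_injOn (t := ((c₁.map (algebraMap F L₁)).roots.toFinset ×ˢ
      (c₂.map (algebraMap F L₂)).roots.toFinset)) (fun l => ((φ₁ y₁ ^ 2) ^ l.1, (φ₂ y₂ ^ 2) ^ l.2)) ?_ ?_).trans ?_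
    · intro l hl
      obtain ⟨hl1, hl2, hl3, hl4⟩ := hY l hl
      rw [hchar, hchar k] at hl4
      rw [Finset.mem_coe, Finset.mem_product]
      constructor
      · rw [Multiset.mem_toFinset, mem_roots ((Polynomial.map_ne_zero_iff (algebraMap F L₁).injective).2 hc₁0),
          IsRoot.def, eval_map_algebraMap]
        have h3 : aeval ((φ₁ y₁ ^ 2) ^ l.1) (c₁ * c₂) = 0 := by
          rw [hc₁, hc₂, ← hl4, map_mul, hr₁, zero_mul]
        rw [map_mul, mul_eq_zero] at h3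
        refine h3.resolve_right fun h4 => ?_
        have h5 := hlow₂ _ h4
        apply hl3
        rw [← hφ₁]
        apply orderOf_dvd_of_pow_eq_one
        have h6 : ((φ₁ y₁ ^ 2) ^ l.1) ^ q' = φ₁ y₁ ^ (2 * l.1 * (q' - 1)) * (φ₁ y₁ ^ 2) ^ l.1 := by
          obtain ⟨q'', rfl⟩ : ∃ q'', q' = q'' + 1 := ⟨q' - 1, by omega⟩
          rw [Nat.add_sub_cancel]
          ring
        rw [h6] at h5
        have h7 : (φ₁ y₁ ^ 2) ^ l.1 ≠ 0 := by
          intro h8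
          have h9 : φ₁ y₁ = 0 := by simpa using (eq_zero_of_pow_eq_zero h8)
          have h10 := pow_orderOf_eq_one (φ₁ y₁)
          rw [h9, ← h9, hφ₁, h9, zero_pow hN₁] at h10
          exact zero_ne_one h10
        exact mul_right_cancel₀ h7 (by rw [h5, one_mul])
      · rw [Multiset.mem_toFinset, mem_roots ((Polynomial.map_ne_zero_iff (algebraMap F L₂).injective).2 hc₂0),
          IsRoot.def, eval_map_algebraMap]
        have h3 : aeval ((φ₂ y₂ ^ 2) ^ l.2) (c₁ * c₂) = 0 := by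
          rw [hc₁, hc₂, ← hl4, map_mul, hr₂, mul_zero]
        rw [map_mul, mul_eq_zero] at h3
        refine h3.resolve_left fun h4 => hhigh₁ _ h4 ?_
        have h6 : ((φ₂ y₂ ^ 2) ^ l.2) ^ q' = (φ₂ y₂ ^ (2 * (q' - 1))) ^ l.2 * (φ₂ y₂ ^ 2) ^ l.2 := by
          obtain ⟨q'', rfl⟩ : ∃ q'', q' = q'' + 1 := ⟨q' - 1, by omega⟩
          rw [Nat.add_sub_cancel]
          ring
        have h7 : φ₂ y₂ ^ (2 * (q' - 1)) = 1 := by
          rw [← orderOf_dvd_iff_pow_eq_one, hφ₂]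
          exact hlow
        rw [h6, h7, one_pow, one_mul]
    · intro a ha b hb hab
      obtain ⟨ha1, ha2, -, -⟩ := hY a ha
      obtain ⟨hb1, hb2, -, -⟩ := hY b hb
      rw [Prod.mk.injEq] at hab
      refine Prod.ext (pow_injOn_Iio_orderOf ?_ ?_ hab.1) (pow_injOn_Iio_orderOf ?_ ?_ hab.2)
      · rw [hx₁]; exact ha1
      · rw [hx₁]; exact hb1
      · rw [hx₂]; exact ha2
      · rw [hx₂]; exact hb2
    · rw [Finset.card_product]
      refine Nat.mul_le_mul ?_ ?_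
      · refine (Multiset.toFinset_card_le _).trans ((card_roots' _).trans ?_)
        rw [natDegree_map, LinearMap.charpoly_natDegree, hs₁.dim]
      · refine (Multiset.toFinset_card_le _).trans ((card_roots' _).trans ?_)
        rw [natDegree_map, LinearMap.charpoly_natDegree, hs₂.dim]

theorem two_mul_dvd_imp {N : ℕ} (hN : N ≠ 0) : N / Nat.gcd N 2 ≠ 0 :=
  (Nat.div_pos (Nat.gcd_le_left _ (Nat.pos_of_ne_zero hN)) (Nat.gcd_pos_of_pos_right _ (by norm_num))).ne'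

/-- **counting with two tori** -/
theorem MO_pairs_gen {Q : QuadraticForm F (ι → F)} {W : Type} [Finite W] {n₁ n₂ : ℕ} {ε₁ ε₂ : ℤ}
    {N₁ N₂ M₁ M₂ q' d n B : ℕ} {A : Set ℕ}
    (hQ : Sg Q (n₁ + n₂) (ε₁ * ε₂)) (hm : 3 ≤ n₁ + n₂) (hC : Ctl (ρ ⇑Q) (pr ⇑Q) W)
    (h1 : Tor F n₁ ε₁ N₁) (h2 : Tor F n₂ ε₂ N₂)
    (hlow : N₂ ∣ 2 * (q' - 1)) (hq' : 1 ≤ q') (hN₁ : N₁ ≠ 0) (hM₁ : N₁ / Nat.gcd N₁ 2 = M₁)
    (hM₂ : N₂ / Nat.gcd N₂ 2 = M₂) (hd : d ∣ M₁) (hhigh : ∀ i, ¬ d ∣ i → ¬ N₁ ∣ 2 * i * (q' - 1))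
    (hA : ∀ (z : Omega F ⇑Q) (L : Type) (_ : Field L) (_ : Algebra F L) (x : L) (i : ℕ), orderOf x = M₁ →
      aeval (x ^ i) (ρ ⇑Q z).charpoly = 0 → z ^ (M₁ * M₂) = 1 → ¬ d ∣ i → orderOf (pr ⇑Q z) ∈ A)
    (hB : Nat.card W ≤ B) (h : (n - 1) * (2 * n₁ * (2 * n₂) * B) < (M₁ - M₁ / d) * M₂) :
    MO A n (POmega F ⇑Q) := by
  classical
  obtain ⟨z, L, _, _, x, hx, hz1, hz2, hz3⟩ := exists_pairs hQ hm h1 h2 hlow hq' hN₁
  rw [hM₁] at hx hz2 hz3
  rw [hM₂] at hz2 hz3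
  refine MO.of_charpoly hC z (((Finset.range M₁).filter fun k => ¬ d ∣ k) ×ˢ Finset.range M₂) ?_
    (2 * n₁ * (2 * n₂)) ?_ ?_
  · intro k hk
    rw [Finset.mem_product, Finset.mem_filter] at hk
    exact hA _ L _ _ x k.1 hx (hz1 k) (hz2 k) hk.1.2
  · intro k hk Y hYX hY
    rw [Finset.mem_product, Finset.mem_filter] at hk
    refine hz3 k (hhigh _ hk.1.2) Y fun l hl => ?_
    have hl' := hYX hl
    rw [Finset.mem_product, Finset.mem_filter, Finset.mem_range, Finset.mem_range] at hl'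
    exact ⟨hl'.1.1, hl'.2, hhigh _ hl'.1.2, hY l hl⟩
  · rw [Finset.card_product, card_filter_dvd _ _ hd, Finset.card_range]
    exact lt_of_le_of_lt (Nat.mul_le_mul_left _ (Nat.mul_le_mul_left _ hB)) h

theorem MO_pairs {Q : QuadraticForm F (ι → F)} {W : Type} [Finite W] {n₁ n₂ : ℕ} {ε₁ ε₂ : ℤ}
    {N₁ N₂ M₁ M₂ q' d n B p : ℕ}
    (hQ : Sg Q (n₁ + n₂) (ε₁ * ε₂)) (hm : 3 ≤ n₁ + n₂) (hC : Ctl (ρ ⇑Q) (pr ⇑Q) W)
    (h1 : Tor F n₁ ε₁ N₁) (h2 : Tor F n₂ ε₂ N₂)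
    (hlow : N₂ ∣ 2 * (q' - 1)) (hq' : 1 ≤ q') (hN₁ : N₁ ≠ 0) (hM₁ : N₁ / Nat.gcd N₁ 2 = M₁)
    (hM₂ : N₂ / Nat.gcd N₂ 2 = M₂) (hd : d ∣ M₁) (hhigh : ∀ i, ¬ d ∣ i → ¬ N₁ ∣ 2 * i * (q' - 1))
    (hp : p.Prime) (hp1 : ¬ p ∣ M₁) (hp2 : ¬ p ∣ M₂)
    (hB : Nat.card W ≤ B) (h : (n - 1) * (2 * n₁ * (2 * n₂) * B) < (M₁ - M₁ / d) * M₂) :
    MO (Reg p) n (POmega F ⇑Q) := by
  refine MO_pairs_gen hQ hm hC h1 h2 hlow hq' hN₁ hM₁ hM₂ hd hhigh ?_ hB h
  intro z L _ _ x i _ _ hz _ hpz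
  have h3 : p ∣ M₁ * M₂ := hpz.trans ((orderOf_map_dvd _ _).trans (orderOf_dvd_of_pow_eq_one hz))
  rcases hp.dvd_mul.1 h3 with h4 | h4
  · exact hp1 h4
  · exact hp2 h4

theorem MO_pairs_s {Q : QuadraticForm F (ι → F)} {W : Type} [Finite W] {n₁ n₂ : ℕ} {ε₁ ε₂ : ℤ}
    {N₁ N₂ M₁ M₂ q' s n B : ℕ}
    (hQ : Sg Q (n₁ + n₂) (ε₁ * ε₂)) (hm : 3 ≤ n₁ + n₂) (hC : Ctl (ρ ⇑Q) (pr ⇑Q) W)
    (h1 : Tor F n₁ ε₁ N₁) (h2 : Tor F n₂ ε₂ N₂)
    (hlow : N₂ ∣ 2 * (q' - 1)) (hq' : 1 ≤ q') (hN₁ : N₁ ≠ 0) (hM₁ : N₁ / Nat.gcd N₁ 2 = M₁)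
    (hM₂ : N₂ / Nat.gcd N₂ 2 = M₂) (hd : s ∣ M₁) (hhigh : ∀ i, ¬ s ∣ i → ¬ N₁ ∣ 2 * i * (q' - 1))
    (hs : s.Prime) (hsc : ¬ s ∣ Nat.gcd 2 (Fintype.card F - 1))
    (hB : Nat.card W ≤ B) (h : (n - 1) * (2 * n₁ * (2 * n₂) * B) < (M₁ - M₁ / s) * M₂) :
    MO {k | s ∣ k ∧ k ∣ M₁ * M₂} n (POmega F ⇑Q) := by
  refine MO_pairs_gen hQ hm hC h1 h2 hlow hq' hN₁ hM₁ hM₂ hd hhigh ?_ hB h
  intro z L _ _ x i hx hxz hz hsi
  refine ⟨?_, (orderOf_map_dvd _ _).trans (orderOf_dvd_of_pow_eq_one hz)⟩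
  have h3 : s ∣ orderOf (x ^ i) := by
    have hi0 : i ≠ 0 := by
      rintro rfl
      exact hsi (dvd_zero _)
    rw [orderOf_pow' x hi0, hx]
    have h4 : s ∣ (M₁.gcd i) * (M₁ / M₁.gcd i) := by
      rw [Nat.mul_div_cancel' (Nat.gcd_dvd_left _ _)]
      exact hd
    exact (hs.dvd_mul.1 h4).resolve_left fun h5 => hsi (h5.trans (Nat.gcd_dvd_right _ _))
  have h4 : s ∣ orderOf z := h3.trans (orderOf_root_dvd (ρ := ρ ⇑Q) z _ hxz)
  have h5 : orderOf z ∣ orderOf (pr ⇑Q z) * Nat.gcd 2 (Fintype.card F - 1) := by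
    apply orderOf_dvd_of_pow_eq_one
    rw [pow_mul]
    apply ker_sq hQ.nondeg (by rw [card_of_sg hQ]; omega)
    rw [map_pow, pow_orderOf_eq_one]
  exact (hs.dvd_mul.1 (h4.trans h5)).resolve_right hsc

end Pairs

end Cfsg.Agent.H93.PReg.Orth
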