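import Cfsg.Agent.H93.PReg.DFourCtl
import Cfsg.Agent.H93.PReg.Pairs
import Cfsg.Agent.H93.PReg.NumDFour

/-!
# The row of `PΩ⁺₈(q)` (for S4883)
-/

set_option autoImplicit false
set_option linter.unusedSectionVars false

namespace Cfsg.Agent.H93.PReg.Orth

open QuadraticMap Cfsg.Agent.LieClassical.OrthCore Cfsg.Agent.LieClassical.OrthForms
  Cfsg.Agent.LieClassical.OrthTrans Cfsg.Agent.LieClassical.OrthSimple
open Polynomial Matrix Cfsg.Agent.H93.PReg Cfsg Cfsg.Agent.H92.KTools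
open Cfsg.Agent.H182.Sign Cfsg.Agent.H182.Orth Cfsg.Agent.AutOrth.Main

section Arith

theorem odd_plus (q : ℕ) : Nat.Coprime (q ^ 2 + q + 1) 2 := by
  rw [Nat.coprime_two_right]
  have h : Even (q * (q + 1)) := Nat.even_mul_succ_self q
  have h1 : q ^ 2 + q + 1 = q * (q + 1) + 1 := by ring
  rw [h1]
  exact h.add_one

theorem cube_sub {q : ℕ} (hq : 1 ≤ q) : q ^ 3 - 1 = (q ^ 2 + q + 1) * (q - 1) := by
  obtain ⟨a, rfl⟩ : ∃ a, q = a + 1 := ⟨q - 1, by omega⟩
  have h1 : (a + 1) ^ 3 = ((a + 1) ^ 2 + (a + 1) + 1) * a + 1 := by ring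
  rw [h1, Nat.add_sub_cancel, Nat.add_sub_cancel]

theorem cube_add {q : ℕ} (hq : 1 ≤ q) : q ^ 3 + 1 = (q ^ 2 - q + 1) * (q + 1) := by
  obtain ⟨a, rfl⟩ : ∃ a, q = a + 1 := ⟨q - 1, by omega⟩
  have h1 : (a + 1) ^ 2 - (a + 1) = a * (a + 1) := by
    have : (a + 1) ^ 2 = a * (a + 1) + (a + 1) := by ring
    omega
  rw [h1]
  ring

theorem high_plus {q : ℕ} (hq : 2 ≤ q) (i : ℕ) (hi : ¬ q ^ 2 + q + 1 ∣ i) : ¬ q ^ 3 - 1 ∣ 2 * i * (q - 1) := by
  intro h
  apply hi
  rw [cube_sub (by omega)] at h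
  have h1 : q ^ 2 + q + 1 ∣ 2 * i := Nat.dvd_of_mul_dvd_mul_right (by omega) h
  exact (odd_plus q).dvd_of_dvd_mul_left h1

theorem odd_minus {q : ℕ} (hq : 2 ≤ q) : Nat.Coprime (q ^ 2 - q + 1) (2 * (q - 1)) := by
  obtain ⟨a, rfl⟩ : ∃ a, q = a + 1 := ⟨q - 1, by omega⟩
  have h1 : (a + 1) ^ 2 - (a + 1) = a * (a + 1) := by
    have : (a + 1) ^ 2 = a * (a + 1) + (a + 1) := by ring
    omega
  rw [h1, Nat.add_sub_cancel]
  refine Nat.Coprime.mul_right ?_ ?_
  · rw [Nat.coprime_two_right]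
    exact (Nat.even_mul_succ_self a).add_one
  · have h2 : a * (a + 1) + 1 = 1 + a * (a + 1) := by ring
    rw [h2]
    exact (Nat.coprime_add_mul_left_left 1 a (a + 1)).2 (Nat.coprime_one_left a)

theorem high_minus {q : ℕ} (hq : 2 ≤ q) (i : ℕ) (hi : ¬ q ^ 2 - q + 1 ∣ i) :
    ¬ q ^ 3 + 1 ∣ 2 * i * (q ^ 2 - 1) := by
  intro h
  apply hi
  have h0 : q ^ 2 - 1 = (q - 1) * (q + 1) := by
    have := Nat.sq_sub_sq q 1
    rw [one_pow] at this
    rw [this, mul_comm]
  rw [cube_add (by omega), h0, ← mul_assoc] at h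
  have h1 : q ^ 2 - q + 1 ∣ 2 * i * (q - 1) := Nat.dvd_of_mul_dvd_mul_right (by omega) h
  have h2 : q ^ 2 - q + 1 ∣ i * (2 * (q - 1)) := by
    have : 2 * i * (q - 1) = i * (2 * (q - 1)) := by ring
    rwa [this] at h1
  exact (odd_minus hq).dvd_of_dvd_mul_right h2

end Arith

variable {F : Type} [Field F] [Fintype F]

/-- two tori, plus type -/
theorem MO_four_plus {Q : QuadraticForm F (Fin 4 ⊕ Fin 4 → F)} (hQ : Sg Q 4 1) {W : Type} [Finite W]
    (hC : Ctl (ρ ⇑Q) (pr ⇑Q) W) {q g B p n : ℕ} (hF : Fintype.card F = q) (hg : Nat.gcd 2 (q - 1) = g)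
    (hB : Nat.card W ≤ B) (hp : p.Prime) (hpq : ¬ p ∣ q ^ 3 - 1)
    (h : (n - 1) * (12 * B) * g ^ 2 < (q ^ 3 - q) * (q - 1)) : MO (Reg p) n (POmega F ⇑Q) := by
  have hq : 2 ≤ q := hF ▸ Fintype.one_lt_card
  have h1 : Tor F 3 1 (q ^ 3 - 1) := by
    have := tor_plus (F := F) 3 (by norm_num)
    rwa [hF] at this
  have h2 : Tor F 1 1 (q - 1) := by
    have := tor_plus (F := F) 1 (by norm_num)
    rwa [hF, pow_one] at this
  have hg1 : Nat.gcd (q ^ 3 - 1) 2 = g := (gcd_eq (by norm_num) hq (Or.inr rfl)).trans hg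
  have hg2 : Nat.gcd (q - 1) 2 = g := by rw [Nat.gcd_comm]; exact hg
  have hgd : g ∣ q - 1 := hg ▸ Nat.gcd_dvd_right _ _
  have hg0 : 0 < g := hg ▸ Nat.gcd_pos_of_pos_left _ (by norm_num)
  have hM₁ : (q ^ 3 - 1) / Nat.gcd (q ^ 3 - 1) 2 = (q ^ 2 + q + 1) * ((q - 1) / g) := by
    rw [hg1, cube_sub (by omega), Nat.mul_div_assoc _ hgd]
  have hdd : (q - 1) / g ∣ q - 1 := Nat.div_dvd_of_dvd hgd
  have hq3 : 1 < q ^ 3 := Nat.one_lt_pow (by norm_num) (by omega)
  refine MO_pairs (n₁ := 3) (n₂ := 1) (ε₁ := 1) (ε₂ := 1) (q' := q) (d := q ^ 2 + q + 1) (p := p)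
    hQ (by norm_num) hC h1 h2 (Dvd.intro_left _ rfl) (by omega) (by omega) hM₁
    (by rw [hg2]) (Dvd.intro _ rfl) (high_plus hq) hp ?_ ?_ hB ?_
  · intro hd
    exact hpq (hd.trans (by rw [cube_sub (by omega)]; exact Nat.mul_dvd_mul_left _ hdd))
  · intro hd
    exact hpq (hd.trans (by rw [cube_sub (by omega)]; exact hdd.mul_left _))
  · rw [Nat.mul_div_cancel_left _ (by positivity)]
    obtain ⟨t, ht⟩ := hgd
    have ht' : (q - 1) / g = t := by rw [ht, Nat.mul_div_cancel_left _ hg0]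
    rw [ht']
    have e1 : (q ^ 2 + q + 1) * t - t = (q ^ 2 + q) * t := by
      have : (q ^ 2 + q + 1) * t = (q ^ 2 + q) * t + t := by ring
      omega
    have e2 : (q ^ 3 - q) * (q - 1) = (q ^ 2 + q) * t * t * g ^ 2 := by
      have e3 : q ^ 3 - q = (q ^ 2 + q) * (q - 1) := by
        obtain ⟨a, rfl⟩ : ∃ a, q = a + 1 := ⟨q - 1, by omega⟩
        have : (a + 1) ^ 3 = ((a + 1) ^ 2 + (a + 1)) * a + (a + 1) := by ring
        rw [Nat.add_sub_cancel]
        omega
      rw [e3, ht]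
      ring
    rw [e1]
    rw [e2] at h
    exact Nat.lt_of_mul_lt_mul_right (a := g ^ 2) (by
      calc (n - 1) * (2 * 3 * (2 * 1) * B) * g ^ 2 = (n - 1) * (12 * B) * g ^ 2 := by ring
        _ < _ := h)

/-- two tori, minus type -/
theorem MO_four_minus {Q : QuadraticForm F (Fin 4 ⊕ Fin 4 → F)} (hQ : Sg Q 4 1) {W : Type} [Finite W]
    (hC : Ctl (ρ ⇑Q) (pr ⇑Q) W) {q g B p n : ℕ} (hF : Fintype.card F = q) (hg : Nat.gcd 2 (q - 1) = g)
    (hB : Nat.card W ≤ B) (hp : p.Prime) (hpq : ¬ p ∣ q ^ 3 + 1)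
    (h : (n - 1) * (12 * B) * g ^ 2 < (q ^ 3 - q) * (q + 1)) : MO (Reg p) n (POmega F ⇑Q) := by
  have hq : 2 ≤ q := hF ▸ Fintype.one_lt_card
  have h1 : Tor F 3 (-1) (q ^ 3 + 1) := by
    have := tor_minus (F := F) 3 (by norm_num)
    rwa [hF] at this
  have h2 : Tor F 1 (-1) (q + 1) := by
    have := tor_minus (F := F) 1 (by norm_num)
    rwa [hF, pow_one] at this
  have hg1 : Nat.gcd (q ^ 3 + 1) 2 = g := (gcd_eq (by norm_num) hq (Or.inl rfl)).trans hg
  have hg2 : Nat.gcd (q + 1) 2 = g := by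
    have := gcd_eq (q := q) (j := 1) (a := q + 1) one_ne_zero hq (Or.inl (by rw [pow_one]))
    exact this.trans hg
  have hgd : g ∣ q + 1 := hg2 ▸ Nat.gcd_dvd_left _ _
  have hg0 : 0 < g := hg ▸ Nat.gcd_pos_of_pos_left _ (by norm_num)
  have hM₁ : (q ^ 3 + 1) / Nat.gcd (q ^ 3 + 1) 2 = (q ^ 2 - q + 1) * ((q + 1) / g) := by
    rw [hg1, cube_add (by omega), Nat.mul_div_assoc _ hgd]
  have hdd : (q + 1) / g ∣ q + 1 := Nat.div_dvd_of_dvd hgd
  have hq1 : q ^ 2 - 1 = (q - 1) * (q + 1) := by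
    have := Nat.sq_sub_sq q 1
    rw [one_pow] at this
    rw [this, mul_comm]
  refine MO_pairs (n₁ := 3) (n₂ := 1) (ε₁ := -1) (ε₂ := -1) (q' := q ^ 2) (d := q ^ 2 - q + 1) (p := p)
    (by simpa using hQ) (by norm_num) hC h1 h2 (by rw [hq1, ← mul_assoc]; exact Dvd.intro_left _ rfl)
    (Nat.one_le_pow _ _ (by omega)) (by omega) hM₁
    (by rw [hg2]) (Dvd.intro _ rfl) (high_minus hq) hp ?_ ?_ hB ?_
  · intro hd
    exact hpq (hd.trans (by rw [cube_add (by omega)]; exact Nat.mul_dvd_mul_left _ hdd))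
  · intro hd
    exact hpq (hd.trans (by rw [cube_add (by omega)]; exact hdd.mul_left _))
  · rw [Nat.mul_div_cancel_left _ (by positivity)]
    obtain ⟨t, ht⟩ := hgd
    have ht' : (q + 1) / g = t := by rw [ht, Nat.mul_div_cancel_left _ hg0]
    rw [ht']
    have e1 : (q ^ 2 - q + 1) * t - t = (q ^ 2 - q) * t := by
      have : (q ^ 2 - q + 1) * t = (q ^ 2 - q) * t + t := by ring
      omega
    have e2 : (q ^ 3 - q) * (q + 1) = (q ^ 2 - q) * t * t * g ^ 2 := by
      have e3 : q ^ 3 - q = (q ^ 2 - q) * (q + 1) := by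
        obtain ⟨a, rfl⟩ : ∃ a, q = a + 1 := ⟨q - 1, by omega⟩
        have h1 : (a + 1) ^ 2 - (a + 1) = a * (a + 1) := by
          have : (a + 1) ^ 2 = a * (a + 1) + (a + 1) := by ring
          omega
        have h2 : (a + 1) ^ 3 - (a + 1) = a * (a + 1) * (a + 1 + 1) := by
          have : (a + 1) ^ 3 = a * (a + 1) * (a + 1 + 1) + (a + 1) := by ring
          omega
        rw [h1, h2]
      rw [e3, ht]
      ring
    rw [e1]
    rw [e2] at h
    exact Nat.lt_of_mul_lt_mul_right (a := g ^ 2) (by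
      calc (n - 1) * (2 * 3 * (2 * 1) * B) * g ^ 2 = (n - 1) * (12 * B) * g ^ 2 := by ring
        _ < _ := h)

theorem finish2 {S : Type*} [Group S] {p s a T : ℕ} (L : Finset ℕ) (hL : ∀ k ∈ L, HasOrd S k)
    (hLs : ∀ k ∈ L, ¬ s ∣ k ∧ ¬ p ∣ k) (h1 : MO {k | s ∣ k ∧ k ∣ T} a S) (hpT : ¬ p ∣ T)
    (h : p ≤ a + L.card) : MO (Reg p) p S :=
  MO.finish' L hL hLs (h1.mono (fun _ hk => ⟨hk.1, fun hpk => hpT (hpk.trans hk.2)⟩) le_rfl) h

theorem finish3 {S : Type*} [Group S] {p s a T s' a' T' : ℕ} (L : Finset ℕ) (hL : ∀ k ∈ L, HasOrd S k)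
    (hLs : ∀ k ∈ L, ¬ s ∣ k ∧ ¬ s' ∣ k ∧ ¬ p ∣ k) (h1 : MO {k | s ∣ k ∧ k ∣ T} a S) (hpT : ¬ p ∣ T)
    (h2 : MO {k | s' ∣ k ∧ k ∣ T'} a' S) (hpT' : ¬ p ∣ T') (hsT : ¬ s' ∣ T)
    (h : p ≤ a + a' + L.card) : MO (Reg p) p S := by
  have h3 := MO.of_finset (A := {m | ¬ s ∣ m ∧ ¬ s' ∣ m ∧ ¬ p ∣ m}) L hL hLs
  have h4 := MO.add (Set.disjoint_left.2 fun x hx hx' => hsT (hx'.1.trans hx.2)) h1 h2
  have h5 := MO.add (Set.disjoint_left.2 (by
    rintro x (hx | hx) hx'
    · exact hx'.1 hx.1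
    · exact hx'.2.1 hx.1)) h4 h3
  refine h5.mono ?_ h
  rintro x ((hx | hx) | hx)
  · exact fun hpk => hpT (hpk.trans hx.2)
  · exact fun hpk => hpT' (hpk.trans hx.2)
  · exact hx.2.2

/-- **the row of `PΩ⁺₈(q)`** -/
theorem row_plus_four : Row (POmega F (quadFormPlus 4 F)) := by
  obtain ⟨r, _⟩ := CharP.exists F
  obtain ⟨f, hr, hF⟩ := FiniteField.card F r
  have hf : 1 ≤ (f : ℕ) := f.2
  have hq : 2 ≤ r ^ (f : ℕ) := hF ▸ Fintype.one_lt_card
  have hcard := S0293.result hF 4 (by omega)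
  have hS : Sg (plusForm 4 F) 4 1 := sg_plusForm 4
  have hex := ctl_four (F := F)
  rw [← plusForm_eq] at hex
  obtain ⟨Γ, hΓ, hC⟩ := hex
  rw [← coe_plusForm] at hcard ⊢
  have hfin : Finite (POmega F ⇑(plusForm 4 F)) := Quotient.finite _
  have := finite_W (Q := plusForm 4 F)
  have hW : Nat.card ((Subgroup.center (Omega F ⇑(plusForm 4 F)) × (F ≃+* F)) ×
      (MulAut (POmega F ⇑(plusForm 4 F)) ⧸ Γ)) ≤ Nat.gcd 2 (r ^ (f : ℕ) - 1) * f * 3 := by
    have := Fact.mk hr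
    have hi : Nat.card (MulAut (POmega F ⇑(plusForm 4 F)) ⧸ Γ) = 3 := hΓ
    rw [Nat.card_prod, Nat.card_prod, Lib.FieldAutCard.card_ringAut hf hF, hi, ← hF]
    exact Nat.mul_le_mul_right _ (Nat.mul_le_mul_right _ (card_center_le hS.nondeg (by rw [card_of_sg hS]; norm_num)))
  intro p hp h5 hd
  rw [mul_assoc (_ ^ _)] at hcard
  have hc := cases_of_sq_dvd hp hcard hd
  have hle := Num.orth_sq_le hp h5 hq (by norm_num : 2 ≤ 4) (a := (r ^ (f : ℕ)) ^ 4 - 1) (by
    rw [mul_comm 2, pow_mul, Num.sq_sub_eq]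
    exact Dvd.intro_left _ rfl) hc
  have hK : ∀ n, n * (12 * (Nat.gcd 2 (r ^ (f : ℕ) - 1) * f * 3)) * Nat.gcd 2 (r ^ (f : ℕ) - 1) ^ 2 =
      n * NumD4.K4 (r ^ (f : ℕ)) f := by
    intro n
    unfold NumD4.K4
    ring
  rcases NumD4.main4 hr hf hp h5 hle hc with h1 | h1
  · simp only [NumD4.exc4, List.mem_cons, Prod.mk.injEq, List.not_mem_nil, or_false] at h1
    have hho : ∀ s : ℕ, s.Prime → s * Nat.gcd 4 ((r ^ (f : ℕ)) ^ 4 - 1) ∣
        (r ^ (f : ℕ)) * (((r ^ (f : ℕ)) ^ 4 - 1) * Num.NS (r ^ (f : ℕ)) 3) →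
        HasOrd (POmega F ⇑(plusForm 4 F)) s := fun s hs h =>
      ho_prime hs hcard (by norm_num) (Nat.gcd_pos_of_pos_left _ (by norm_num))
        (by rw [Num.NS_eq] at h; exact h)
    have hep : ∀ k, k ∣ ((r ^ (f : ℕ)) ^ 3 - 1) / Nat.gcd ((r ^ (f : ℕ)) ^ 3 - 1) 2 /
        Nat.gcd (((r ^ (f : ℕ)) ^ 3 - 1) / Nat.gcd ((r ^ (f : ℕ)) ^ 3 - 1) 2) (Nat.gcd 2 (r ^ (f : ℕ) - 1)) →
        HasOrd (POmega F ⇑(plusForm 4 F)) k := by
      intro k hk
      rw [← hF] at hk
      exact ho_eig hS (by omega) ((eig_plus 3 (by norm_num)).extend (by norm_num) (Or.inl rfl)) hk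
    have hem : ∀ k, k ∣ ((r ^ (f : ℕ)) ^ 3 + 1) / Nat.gcd ((r ^ (f : ℕ)) ^ 3 + 1) 2 /
        Nat.gcd (((r ^ (f : ℕ)) ^ 3 + 1) / Nat.gcd ((r ^ (f : ℕ)) ^ 3 + 1) 2) (Nat.gcd 2 (r ^ (f : ℕ) - 1)) →
        HasOrd (POmega F ⇑(plusForm 4 F)) k := by
      intro k hk
      rw [← hF] at hk
      exact ho_eig hS (by omega) ((eig_minus 3 (by norm_num)).extend (by norm_num) (Or.inl rfl)) hk
    have hef : ∀ k, k ∣ ((r ^ (f : ℕ)) ^ 4 - 1) / Nat.gcd ((r ^ (f : ℕ)) ^ 4 - 1) 2 /
        Nat.gcd (((r ^ (f : ℕ)) ^ 4 - 1) / Nat.gcd ((r ^ (f : ℕ)) ^ 4 - 1) 2) (Nat.gcd 2 (r ^ (f : ℕ) - 1)) →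
        HasOrd (POmega F ⇑(plusForm 4 F)) k := by
      intro k hk
      rw [← hF] at hk
      exact ho_eig hS (by omega) (eig_plus 4 (by omega)) hk
    have heltP : ∀ N, EltP F 4 1 N → ∀ k, k ∣ N / N.gcd 2 → HasOrd (POmega F ⇑(plusForm 4 F)) k := by
      intro N hN k hk
      obtain ⟨s, hs⟩ := exists_of_eltP hS (by norm_num) hN
      exact HasOrd.of_dvd ⟨s, rfl⟩ (hk.trans hs) (orderOf_pos _).ne'
    have hTp : Tor F 3 1 ((r ^ (f : ℕ)) ^ 3 - 1) := by
      have := tor_plus (F := F) 3 (by norm_num)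
      rwa [hF] at this
    have hTp1 : Tor F 1 1 ((r ^ (f : ℕ)) - 1) := by
      have := tor_plus (F := F) 1 (by norm_num)
      rwa [hF, pow_one] at this
    have hTm : Tor F 3 (-1) ((r ^ (f : ℕ)) ^ 3 + 1) := by
      have := tor_minus (F := F) 3 (by norm_num)
      rwa [hF] at this
    have hTm1 : Tor F 1 (-1) ((r ^ (f : ℕ)) + 1) := by
      have := tor_minus (F := F) 1 (by norm_num)
      rwa [hF, pow_one] at this
    rcases h1 with ⟨h1, h3, rfl⟩ | ⟨h1, h3, rfl⟩ | ⟨h1, h3, rfl⟩ | ⟨h1, h3, rfl⟩ | ⟨h1, h3, rfl⟩ | ⟨h1, h3, rfl⟩ |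
      ⟨h1, h3, rfl⟩ | ⟨h1, h3, rfl⟩
    · -- `q = 2`, `p = 5`
      subst h1; rw [h3] at hho hem
      refine MO.of_orders' {1, 2, 3, 7, 9} ?_ (by decide) (by decide)
      simp only [Finset.mem_insert, Finset.mem_singleton, forall_eq_or_imp, forall_eq]
      exact ⟨hasOrd_one _, hho _ (by norm_num) (by decide), hho _ (by norm_num) (by decide),
        hho _ (by norm_num) (by decide), hem _ (by decide)⟩
    · -- `q = 4`, `p = 5`
      subst h1; rw [h3] at hho
      refine MO.of_orders' {1, 2, 3, 7, 13} ?_ (by decide) (by decide)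
      simp only [Finset.mem_insert, Finset.mem_singleton, forall_eq_or_imp, forall_eq]
      exact ⟨hasOrd_one _, hho _ (by norm_num) (by decide), hho _ (by norm_num) (by decide),
        hho _ (by norm_num) (by decide), hho _ (by norm_num) (by decide)⟩
    · -- `q = 4`, `p = 17`
      subst h1; rw [h3] at hho hem hep hef hW hTp hTp1 hTm hTm1
      have hF4 : Fintype.card F = 4 := by rw [hF, h3]; norm_num
      have hF2 : (2 : F) = 0 := by
        have : CharP F 2 := inferInstance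
        exact CharTwo.two_eq_zero
      have hMO : MO {k | 13 ∣ k ∧ k ∣ 65 * 5} 5 (POmega F ⇑(plusForm 4 F)) := by
        refine MO_pairs_s (n₁ := 3) (n₂ := 1) (ε₁ := -1) (ε₂ := -1) (q' := 16) (by simpa using hS) (by norm_num) hC
          hTm hTm1 (by decide) (by decide) (by decide) (by decide) (by decide) (by decide) ?_ (by norm_num) ?_ hW
          (by decide)
        · intro i hi
          norm_num
          omega
        · rw [hF4]; decide
      have hMO' : MO {k | 7 ∣ k ∧ k ∣ 63 * 3} 3 (POmega F ⇑(plusForm 4 F)) := by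
        refine MO_pairs_s (n₁ := 3) (n₂ := 1) (ε₁ := 1) (ε₂ := 1) (q' := 4) hS (by norm_num) hC hTp hTp1
          (by decide) (by decide) (by decide) (by decide) (by decide) (by decide) ?_ (by norm_num) ?_ hW (by decide)
        · intro i hi
          norm_num
          omega
        · rw [hF4]; decide
      have hE : EltP F 4 1 60 := by
        have h1 : Elt F 2 1 15 := elt_tor_plus (by norm_num) (by rw [Nat.card_eq_fintype_card, hF4]; norm_num)
        have h2 := (elt_four (F := F) hF2 (Or.inl rfl)).prod h1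
        rw [show Nat.lcm 4 15 = 60 by decide] at h2
        exact Elt.two (by simpa using h2) hF2
      refine finish3 (s := 13) (s' := 7) (a := 5) (a' := 3) {1, 2, 3, 5, 6, 10, 15, 30, 9} ?_ (by decide) hMO
        (by decide) hMO' (by decide) (by decide) (by decide)
      simp only [Finset.mem_insert, Finset.mem_singleton, forall_eq_or_imp, forall_eq]
      have hE' := heltP _ hE
      exact ⟨hE' _ (by decide), hE' _ (by decide), hE' _ (by decide), hE' _ (by decide), hE' _ (by decide),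
        hE' _ (by decide), hE' _ (by decide), hE' _ (by decide), hep _ (by decide)⟩
    · -- `q = 3`, `p = 5`
      subst h1; rw [h3] at hho
      refine MO.of_orders' {1, 2, 3, 7, 13} ?_ (by decide) (by decide)
      simp only [Finset.mem_insert, Finset.mem_singleton, forall_eq_or_imp, forall_eq]
      exact ⟨hasOrd_one _, hho _ (by norm_num) (by decide), hho _ (by norm_num) (by decide),
        hho _ (by norm_num) (by decide), hho _ (by norm_num) (by decide)⟩
    · -- `q = 9`, `p = 41`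
      subst h1; rw [h3] at hho hem hep hef hW hTp hTp1 hTm hTm1
      have hF9 : Fintype.card F = 9 := by rw [hF, h3]; norm_num
      have hMO : MO {k | 73 ∣ k ∧ k ∣ 365 * 5} 13 (POmega F ⇑(plusForm 4 F)) := by
        refine MO_pairs_s (n₁ := 3) (n₂ := 1) (ε₁ := -1) (ε₂ := -1) (q' := 81) (by simpa using hS) (by norm_num) hC
          hTm hTm1 (by decide) (by decide) (by decide) (by decide) (by decide) (by decide) ?_ (by norm_num) ?_ hW
          (by decide)
        · intro i hi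
          norm_num
          omega
        · rw [hF9]; decide
      have hMO' : MO {k | 13 ∣ k ∧ k ∣ 364 * 4} 10 (POmega F ⇑(plusForm 4 F)) := by
        refine MO_pairs_s (n₁ := 3) (n₂ := 1) (ε₁ := 1) (ε₂ := 1) (q' := 9) hS (by norm_num) hC hTp hTp1
          (by decide) (by decide) (by decide) (by decide) (by decide) (by decide) ?_ (by norm_num) ?_ hW (by decide)
        · intro i hi
          norm_num
          omega
        · rw [hF9]; decide
      have hE : EltP F 4 1 240 := by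
        have h1 : Elt F 2 1 80 := elt_tor_plus (by norm_num) (by rw [Nat.card_eq_fintype_card, hF9]; norm_num)
        have h2 := ((elt_char (F := F) 3).odd (by decide) (by norm_num)).prod h1
        rw [show Nat.lcm 3 80 = 240 by decide] at h2
        simpa using h2
      refine finish3 (s := 73) (s' := 13) (a := 13) (a' := 10)
        {1, 2, 3, 4, 5, 6, 8, 10, 12, 15, 20, 24, 30, 40, 60, 120, 7, 14} ?_ (by decide) hMO
        (by decide) hMO' (by decide) (by decide) (by decide)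
      simp only [Finset.mem_insert, Finset.mem_singleton, forall_eq_or_imp, forall_eq]
      have hE' := heltP _ hE
      exact ⟨hE' _ (by decide), hE' _ (by decide), hE' _ (by decide), hE' _ (by decide), hE' _ (by decide),
        hE' _ (by decide), hE' _ (by decide), hE' _ (by decide), hE' _ (by decide), hE' _ (by decide),
        hE' _ (by decide), hE' _ (by decide), hE' _ (by decide), hE' _ (by decide), hE' _ (by decide),
        hE' _ (by decide), hep _ (by decide), hep _ (by decide)⟩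
    · -- `q = 5`, `p = 5`
      subst h1; rw [h3] at hho
      refine MO.of_orders' {1, 2, 3, 7, 13} ?_ (by decide) (by decide)
      simp only [Finset.mem_insert, Finset.mem_singleton, forall_eq_or_imp, forall_eq]
      exact ⟨hasOrd_one _, hho _ (by norm_num) (by decide), hho _ (by norm_num) (by decide),
        hho _ (by norm_num) (by decide), hho _ (by norm_num) (by decide)⟩
    · -- `q = 5`, `p = 13`
      subst h1; rw [h3] at hho hem hef hW hTp hTp1
      have hF5 : Fintype.card F = 5 := by rw [hF, h3]; norm_num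
      have hMO : MO {k | 31 ∣ k ∧ k ∣ 62 * 2} 2 (POmega F ⇑(plusForm 4 F)) := by
        refine MO_pairs_s (n₁ := 3) (n₂ := 1) (ε₁ := 1) (ε₂ := 1) (q' := 5) hS (by norm_num) hC hTp hTp1
          (by decide) (by decide) (by decide) (by decide) (by decide) (by decide) ?_ (by norm_num) ?_ hW (by decide)
        · intro i hi
          norm_num
          omega
        · rw [hF5]; decide
      refine finish2 (s := 31) (a := 2) {1, 2, 3, 4, 6, 12, 7, 9, 21, 63, 5} ?_ (by decide) hMO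
        (by decide) (by decide)
      simp only [Finset.mem_insert, Finset.mem_singleton, forall_eq_or_imp, forall_eq]
      exact ⟨hasOrd_one _, hef _ (by decide), hef _ (by decide), hef _ (by decide), hef _ (by decide),
        hef _ (by decide), hem _ (by decide), hem _ (by decide), hem _ (by decide), hem _ (by decide),
        hho _ (by norm_num) (by decide)⟩
    · -- `q = 11`, `p = 61`
      subst h1; rw [h3] at hho hW hTm hTm1
      have hF11 : Fintype.card F = 11 := by rw [hF, h3]; norm_num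
      have hMO : MO {k | 37 ∣ k ∧ k ∣ 666 * 6} 54 (POmega F ⇑(plusForm 4 F)) := by
        refine MO_pairs_s (n₁ := 3) (n₂ := 1) (ε₁ := -1) (ε₂ := -1) (q' := 121) (by simpa using hS) (by norm_num) hC
          hTm hTm1 (by decide) (by decide) (by decide) (by decide) (by decide) (by decide) ?_ (by norm_num) ?_ hW
          (by decide)
        · intro i hi
          norm_num
          omega
        · rw [hF11]; decide
      refine finish2 (s := 37) (a := 54) {1, 2, 3, 5, 7, 11, 19} ?_ (by decide) hMO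
        (by decide) (by decide)
      simp only [Finset.mem_insert, Finset.mem_singleton, forall_eq_or_imp, forall_eq]
      exact ⟨hasOrd_one _, hho _ (by norm_num) (by decide), hho _ (by norm_num) (by decide),
        hho _ (by norm_num) (by decide), hho _ (by norm_num) (by decide), hho _ (by norm_num) (by decide),
        hho _ (by norm_num) (by decide)⟩
  · rcases h1 with ⟨h1, h2⟩ | ⟨h1, h2⟩
    · exact MO_four_plus hS hC hF rfl hW hp h1 (by rw [hK]; exact h2)
    · exact MO_four_minus hS hC hF rfl hW hp h1 (by rw [hK]; exact h2)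

end Cfsg.Agent.H93.PReg.Orth
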