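import Cfsg.Agent.H93.PReg.OrthRow

/-!
# The rows of `PΩ⁻_2m(q)` and of `PΩ⁺_2m(q)`, `m ≥ 5` (for S4883)
-/

set_option autoImplicit false
set_option linter.unusedSectionVars false

namespace Cfsg.Agent.H93.PReg.Orth

open QuadraticMap Cfsg.Agent.LieClassical.OrthCore Cfsg.Agent.LieClassical.OrthForms
  Cfsg.Agent.LieClassical.OrthTrans Cfsg.Agent.LieClassical.OrthSimple
open Polynomial Matrix Cfsg.Agent.H93.PReg Cfsg Cfsg.Agent.H92.KTools
open Cfsg.Agent.H182.Sign Cfsg.Agent.H182.Orth Cfsg.Agent.AutOrth.Main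

variable {F : Type} [Field F] [Fintype F] {m : ℕ}

/-- **the row of `PΩ⁻_2m(q)`** -/
theorem row_minus (hm : 4 ≤ m) {a b : F} (hab : ∀ z₁ z₂ : F, z₁ ^ 2 + a * z₁ * z₂ + b * z₂ ^ 2 = 0 → z₁ = 0 ∧ z₂ = 0) :
    Row (POmega F (quadFormMinus (m - 1) F a b)) := by
  obtain ⟨r, _⟩ := CharP.exists F
  obtain ⟨f, hr, hF⟩ := FiniteField.card F r
  have hf : 1 ≤ (f : ℕ) := f.2
  have hq : 2 ≤ r ^ (f : ℕ) := hF ▸ Fintype.one_lt_card
  have hcard := S0294.result hF m hm a b hab
  have hG : Good (minusForm (m - 1) F a b) := by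
    rw [minusForm_eq]
    exact good_minus (by omega) hab
  have hall : ∀ α : MulAut (POmega F ⇑(minusForm (m - 1) F a b)), Ind ⇑(minusForm (m - 1) F a b) α := by
    rw [coe_minusForm]
    exact all_minus (by omega) hab
  have hS : Sg (minusForm (m - 1) F a b) m (-1) := by
    have := sg_minusForm (F := F) (m - 1) hab
    rwa [Nat.sub_add_cancel (by omega)] at this
  rw [← coe_minusForm] at hcard ⊢
  have hC := ctl_all hG hall
  have hW := card_W_le hr hf hF hS (by omega)
  have := finite_W (Q := minusForm (m - 1) F a b)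
  have hfin : Finite (POmega F ⇑(minusForm (m - 1) F a b)) := Quotient.finite _
  intro p hp h5 hd
  rw [mul_assoc (_ ^ _)] at hcard
  have hc := cases_of_sq_dvd hp hcard hd
  have hle := Num.orth_sq_le hp h5 hq (by omega : 2 ≤ m) (a := (r ^ (f : ℕ)) ^ m + 1) (by
    rw [mul_comm 2, pow_mul, Num.sq_sub_eq]
    exact Dvd.intro _ rfl) hc
  have hK : (m + m) * (Nat.gcd 2 (r ^ (f : ℕ) - 1) * f) * Nat.gcd 2 (Fintype.card F - 1) =
      Num.KO m (r ^ (f : ℕ)) f := by rw [hF]; rfl
  have hgen : ∀ n, ((¬ p ∣ (r ^ (f : ℕ)) ^ m + 1 ∧ (n - 1) * Num.KO m (r ^ (f : ℕ)) f < (r ^ (f : ℕ)) ^ m + 1) ∨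
      (¬ p ∣ (r ^ (f : ℕ)) ^ (m - 1) + 1 ∧ (n - 1) * Num.KO m (r ^ (f : ℕ)) f < (r ^ (f : ℕ)) ^ (m - 1) + 1) ∨
      (¬ p ∣ (r ^ (f : ℕ)) ^ (m - 1) - 1 ∧ (n - 1) * Num.KO m (r ^ (f : ℕ)) f < (r ^ (f : ℕ)) ^ (m - 1) - 1)) →
      MO (Reg p) n (POmega F ⇑(minusForm (m - 1) F a b)) := fun n h =>
    MO_of_ineq hS (by omega) hC hW hK (Or.inl rfl) (eig_minus m (by omega)) hp (by rw [hF]; exact h)
  rcases Num.big_or_smallO hm hr hf with h | ⟨P, h⟩
  · exact hgen p (Num.bigO hp h5 hq (by omega) hle h)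
  rcases Num.small_caseM h hp h5 hle hc with h1 | h1
  · simp only [Num.excM, List.mem_cons, Prod.mk.injEq, List.not_mem_nil, or_false] at h1
    have hho : ∀ s : ℕ, s.Prime → s * Nat.gcd 4 ((r ^ (f : ℕ)) ^ m + 1) ∣
        (r ^ (f : ℕ)) * (((r ^ (f : ℕ)) ^ m + 1) * Num.NS (r ^ (f : ℕ)) (m - 1)) →
        HasOrd (POmega F ⇑(minusForm (m - 1) F a b)) s := fun s hs h =>
      ho_prime hs hcard (Nat.mul_ne_zero (by omega) (by omega)) (Nat.gcd_pos_of_pos_left _ (by norm_num))
        (by rw [← Num.NS_eq]; exact h)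
    rcases h1 with ⟨h1, h2, h3, rfl⟩ | ⟨h1, h2, h3, rfl⟩
    · subst h1 h2; rw [h3] at hho
      refine MO.of_orders' {1, 2, 3, 7, 17} ?_ (by decide) (by decide)
      simp only [Finset.mem_insert, Finset.mem_singleton, forall_eq_or_imp, forall_eq]
      exact ⟨hasOrd_one _, hho _ (by norm_num) (by decide), hho _ (by norm_num) (by decide),
        hho _ (by norm_num) (by decide), hho _ (by norm_num) (by decide)⟩
    · subst h1 h2; rw [h3] at hho
      refine MO.of_orders' {1, 2, 3, 7, 11} ?_ (by decide) (by decide)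
      simp only [Finset.mem_insert, Finset.mem_singleton, forall_eq_or_imp, forall_eq]
      exact ⟨hasOrd_one _, hho _ (by norm_num) (by decide), hho _ (by norm_num) (by decide),
        hho _ (by norm_num) (by decide), hho _ (by norm_num) (by decide)⟩
  · exact hgen p h1

/-- **the row of `PΩ⁺_2m(q)`, `m ≥ 5`** -/
theorem row_plus_five (hm : 5 ≤ m) : Row (POmega F (quadFormPlus m F)) := by
  obtain ⟨r, _⟩ := CharP.exists F
  obtain ⟨f, hr, hF⟩ := FiniteField.card F r
  have hf : 1 ≤ (f : ℕ) := f.2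
  have hq : 2 ≤ r ^ (f : ℕ) := hF ▸ Fintype.one_lt_card
  have hcard := S0293.result hF m (by omega)
  have hG : Good (plusForm m F) := by
    rw [plusForm_eq]
    exact good_plus (by omega)
  have hall : ∀ α : MulAut (POmega F ⇑(plusForm m F)), Ind ⇑(plusForm m F) α := by
    rw [coe_plusForm]
    exact all_plus hm
  have hS : Sg (plusForm m F) m 1 := sg_plusForm m
  rw [← coe_plusForm] at hcard ⊢
  have hC := ctl_all hG hall
  have hW := card_W_le hr hf hF hS (by omega)
  have := finite_W (Q := plusForm m F)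
  have hfin : Finite (POmega F ⇑(plusForm m F)) := Quotient.finite _
  intro p hp h5 hd
  rw [mul_assoc (_ ^ _)] at hcard
  have hc := cases_of_sq_dvd hp hcard hd
  have hle := Num.orth_sq_le hp h5 hq (by omega : 2 ≤ m) (a := (r ^ (f : ℕ)) ^ m - 1) (by
    rw [mul_comm 2, pow_mul, Num.sq_sub_eq]
    exact Dvd.intro_left _ rfl) hc
  have hK : (m + m) * (Nat.gcd 2 (r ^ (f : ℕ) - 1) * f) * Nat.gcd 2 (Fintype.card F - 1) =
      Num.KO m (r ^ (f : ℕ)) f := by rw [hF]; rfl
  have hgen : ∀ n, ((¬ p ∣ (r ^ (f : ℕ)) ^ m - 1 ∧ (n - 1) * Num.KO m (r ^ (f : ℕ)) f < (r ^ (f : ℕ)) ^ m - 1) ∨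
      (¬ p ∣ (r ^ (f : ℕ)) ^ (m - 1) + 1 ∧ (n - 1) * Num.KO m (r ^ (f : ℕ)) f < (r ^ (f : ℕ)) ^ (m - 1) + 1) ∨
      (¬ p ∣ (r ^ (f : ℕ)) ^ (m - 1) - 1 ∧ (n - 1) * Num.KO m (r ^ (f : ℕ)) f < (r ^ (f : ℕ)) ^ (m - 1) - 1)) →
      MO (Reg p) n (POmega F ⇑(plusForm m F)) := fun n h =>
    MO_of_ineq hS (by omega) hC hW hK (Or.inr rfl) (eig_plus m (by omega)) hp (by rw [hF]; exact h)
  rcases Num.big_or_smallO (by omega : 4 ≤ m) hr hf with h | ⟨P, h⟩
  · exact hgen p (Num.bigO hp h5 hq (by omega) hle h)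
  rcases Num.small_caseP hm h hp h5 hle hc with h1 | h1
  · simp only [Num.excP, List.mem_cons, Prod.mk.injEq, List.not_mem_nil, or_false] at h1
    have hho : ∀ s : ℕ, s.Prime → s * Nat.gcd 4 ((r ^ (f : ℕ)) ^ m - 1) ∣
        (r ^ (f : ℕ)) * (((r ^ (f : ℕ)) ^ m - 1) * Num.NS (r ^ (f : ℕ)) (m - 1)) →
        HasOrd (POmega F ⇑(plusForm m F)) s := fun s hs h =>
      ho_prime hs hcard (Nat.mul_ne_zero (by omega) (by omega)) (Nat.gcd_pos_of_pos_left _ (by norm_num))
        (by rw [← Num.NS_eq]; exact h)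
    have hep : ∀ i, i ≠ 0 → i < m → ∀ k, k ∣ ((r ^ (f : ℕ)) ^ i - 1) / Nat.gcd ((r ^ (f : ℕ)) ^ i - 1) 2 /
        Nat.gcd (((r ^ (f : ℕ)) ^ i - 1) / Nat.gcd ((r ^ (f : ℕ)) ^ i - 1) 2) (Nat.gcd 2 (r ^ (f : ℕ) - 1)) →
        HasOrd (POmega F ⇑(plusForm m F)) k := by
      intro i hi him k hk
      rw [← hF] at hk
      exact ho_eig hS (by omega) ((eig_plus i hi).extend him (Or.inl rfl)) hk
    have hem : ∀ i, i ≠ 0 → i < m → ∀ k, k ∣ ((r ^ (f : ℕ)) ^ i + 1) / Nat.gcd ((r ^ (f : ℕ)) ^ i + 1) 2 /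
        Nat.gcd (((r ^ (f : ℕ)) ^ i + 1) / Nat.gcd ((r ^ (f : ℕ)) ^ i + 1) 2) (Nat.gcd 2 (r ^ (f : ℕ) - 1)) →
        HasOrd (POmega F ⇑(plusForm m F)) k := by
      intro i hi him k hk
      rw [← hF] at hk
      exact ho_eig hS (by omega) ((eig_minus i hi).extend him (Or.inl rfl)) hk
    have hef : ∀ k, k ∣ ((r ^ (f : ℕ)) ^ m - 1) / Nat.gcd ((r ^ (f : ℕ)) ^ m - 1) 2 /
        Nat.gcd (((r ^ (f : ℕ)) ^ m - 1) / Nat.gcd ((r ^ (f : ℕ)) ^ m - 1) 2) (Nat.gcd 2 (r ^ (f : ℕ) - 1)) →
        HasOrd (POmega F ⇑(plusForm m F)) k := by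
      intro k hk
      rw [← hF] at hk
      exact ho_eig hS (by omega) (eig_plus m (by omega)) hk
    rcases h1 with ⟨h1, h2, h3, rfl⟩ | ⟨h1, h2, h3, rfl⟩ | ⟨h1, h2, h3, rfl⟩ | ⟨h1, h2, h3, rfl⟩ | ⟨h1, h2, h3, rfl⟩ |
      ⟨h1, h2, h3, rfl⟩ | ⟨h1, h2, h3, rfl⟩ | ⟨h1, h2, h3, rfl⟩
    · -- `Ω⁺₁₀(2)`, `p = 5`
      subst h1 h2; rw [h3] at hho
      refine MO.of_orders' {1, 2, 3, 7, 17} ?_ (by decide) (by decide)
      simp only [Finset.mem_insert, Finset.mem_singleton, forall_eq_or_imp, forall_eq]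
      exact ⟨hasOrd_one _, hho _ (by norm_num) (by decide), hho _ (by norm_num) (by decide),
        hho _ (by norm_num) (by decide), hho _ (by norm_num) (by decide)⟩
    · -- `PΩ⁺₁₀(3)`, `p = 11`
      subst h1 h2; rw [h3] at hho hep hW
      have hMO : MO {k | 41 ∣ k ∧ ¬ 11 ∣ k} 2 (POmega F ⇑(plusForm 5 F)) := by
        refine MO_s_eig (b := 1) (N := 41) hS (by omega) hC
          ((eig_minus 4 (by norm_num)).extend (by omega) (Or.inl rfl)) ?_ (by norm_num) hp (by decide)
          (by norm_num) ?_ (by decide) (by decide) hW (by decide)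
        · rw [hF, h3]
          decide
        · rw [hF, h3]
          decide
      refine MO.finish' (s := 41) (a := 2) {1, 2, 3, 4, 5, 7, 10, 13, 20} ?_ (by decide) hMO (by decide)
      simp only [Finset.mem_insert, Finset.mem_singleton, forall_eq_or_imp, forall_eq]
      have hep' := hep 4 (by norm_num) (by omega)
      exact ⟨hasOrd_one _, hep' _ (by decide), hho _ (by norm_num) (by decide), hep' _ (by decide),
        hep' _ (by decide), hho _ (by norm_num) (by decide), hep' _ (by decide), hho _ (by norm_num) (by decide),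
        hep' _ (by decide)⟩
    · -- `Ω⁺₁₂(2)`, `p = 7`
      subst h1 h2; rw [h3] at hho
      refine MO.of_orders' {1, 2, 3, 5, 11, 17, 31} ?_ (by decide) (by decide)
      simp only [Finset.mem_insert, Finset.mem_singleton, forall_eq_or_imp, forall_eq]
      exact ⟨hasOrd_one _, hho _ (by norm_num) (by decide), hho _ (by norm_num) (by decide),
        hho _ (by norm_num) (by decide), hho _ (by norm_num) (by decide), hho _ (by norm_num) (by decide),
        hho _ (by norm_num) (by decide)⟩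
    · -- `PΩ⁺₁₂(3)`, `p = 7`
      subst h1 h2; rw [h3] at hho
      refine MO.of_orders' {1, 2, 3, 5, 11, 13, 41} ?_ (by decide) (by decide)
      simp only [Finset.mem_insert, Finset.mem_singleton, forall_eq_or_imp, forall_eq]
      exact ⟨hasOrd_one _, hho _ (by norm_num) (by decide), hho _ (by norm_num) (by decide),
        hho _ (by norm_num) (by decide), hho _ (by norm_num) (by decide), hho _ (by norm_num) (by decide),
        hho _ (by norm_num) (by decide)⟩
    · -- `PΩ⁺₁₂(3)`, `p = 13`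
      subst h1 h2; rw [h3] at hho hep hef
      refine MO.of_orders' {1, 2, 3, 4, 5, 7, 10, 11, 14, 20, 41, 61, 121} ?_ (by decide) (by decide)
      simp only [Finset.mem_insert, Finset.mem_singleton, forall_eq_or_imp, forall_eq]
      have hep4 := hep 4 (by norm_num) (by omega)
      have hep5 := hep 5 (by norm_num) (by omega)
      exact ⟨hasOrd_one _, hep4 _ (by decide), hho _ (by norm_num) (by decide), hep4 _ (by decide),
        hep4 _ (by decide), hho _ (by norm_num) (by decide), hep4 _ (by decide), hho _ (by norm_num) (by decide),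
        hef _ (by decide), hep4 _ (by decide), hho _ (by norm_num) (by decide), hho _ (by norm_num) (by decide),
        hep5 _ (by decide)⟩
    · -- `Ω⁺₁₆(2)`, `p = 17`
      subst h1 h2; rw [h3] at hho hep hem hef
      refine MO.of_orders' {1, 2, 3, 5, 7, 9, 11, 13, 15, 21, 31, 33, 43, 63, 65, 127, 129} ?_ (by decide) (by decide)
      simp only [Finset.mem_insert, Finset.mem_singleton, forall_eq_or_imp, forall_eq]
      have hep6 := hep 6 (by norm_num) (by omega)
      have hem7 := hem 7 (by norm_num) (by omega)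
      have hem6 := hem 6 (by norm_num) (by omega)
      have hem5 := hem 5 (by norm_num) (by omega)
      exact ⟨hasOrd_one _, hho _ (by norm_num) (by decide), hho _ (by norm_num) (by decide),
        hho _ (by norm_num) (by decide), hho _ (by norm_num) (by decide), hep6 _ (by decide),
        hho _ (by norm_num) (by decide), hho _ (by norm_num) (by decide), hef _ (by decide), hep6 _ (by decide),
        hho _ (by norm_num) (by decide), hem5 _ (by decide), hho _ (by norm_num) (by decide), hep6 _ (by decide),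
        hem6 _ (by decide), hho _ (by norm_num) (by decide), hem7 _ (by decide)⟩
    · -- `PΩ⁺₁₆(3)`, `p = 41`
      subst h1 h2; rw [h3] at hho hW
      have hMO : MO {k | 1093 ∣ k ∧ ¬ 41 ∣ k} 35 (POmega F ⇑(plusForm 8 F)) := by
        refine MO_s_eig (b := 1) (N := 1093) hS (by omega) hC
          ((eig_plus 7 (by norm_num)).extend (by omega) (Or.inl rfl)) ?_ (by norm_num) hp (by decide)
          (by norm_num) ?_ (by decide) (by decide) hW (by decide)
        · rw [hF, h3]
          decide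
        · rw [hF, h3]
          decide
      refine MO.finish' (s := 1093) (a := 35) {1, 2, 3, 5, 7, 11} ?_ (by decide) hMO (by decide)
      simp only [Finset.mem_insert, Finset.mem_singleton, forall_eq_or_imp, forall_eq]
      exact ⟨hasOrd_one _, hho _ (by norm_num) (by decide), hho _ (by norm_num) (by decide),
        hho _ (by norm_num) (by decide), hho _ (by norm_num) (by decide), hho _ (by norm_num) (by decide)⟩
    · -- `Ω⁺₂₀(2)`, `p = 31`
      subst h1 h2; rw [h3] at hho hW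
      have hMO : MO {k | 73 ∣ k ∧ ¬ 31 ∣ k} 26 (POmega F ⇑(plusForm 10 F)) := by
        refine MO_s_eig (b := 1) (N := 511) hS (by omega) hC
          ((eig_plus 9 (by norm_num)).extend (by omega) (Or.inl rfl)) ?_ (by norm_num) hp (by decide)
          (by norm_num) ?_ (by decide) (by decide) hW (by decide)
        · rw [hF, h3]
          decide
        · rw [hF, h3]
          decide
      refine MO.finish' (s := 73) (a := 26) {1, 2, 3, 5, 7} ?_ (by decide) hMO (by decide)
      simp only [Finset.mem_insert, Finset.mem_singleton, forall_eq_or_imp, forall_eq]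
      exact ⟨hasOrd_one _, hho _ (by norm_num) (by decide), hho _ (by norm_num) (by decide),
        hho _ (by norm_num) (by decide), hho _ (by norm_num) (by decide)⟩
  · exact hgen p h1

end Cfsg.Agent.H93.PReg.Orth
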