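import Cfsg.Agent.H93.PReg.NumOrth

/-!
# Arithmetic for `PΩ_(2m+1)(q)` (for S4883)
-/

set_option autoImplicit false

namespace Cfsg.Agent.H93.PReg.Num

open Finset

/-- the constant -/
def KD (m q f : ℕ) : ℕ := ((m + m + 1) * (Nat.gcd 2 (q - 1) * f)) * Nat.gcd 2 (q - 1)

theorem KD_sq_le {m q f : ℕ} : KD m q f ^ 2 ≤ 16 * (2 * m + 1) ^ 2 * f ^ 2 := by
  have h1 : Nat.gcd 2 (q - 1) ≤ 2 := Nat.gcd_le_left _ (by norm_num)
  have h2 : Nat.gcd 2 (q - 1) * Nat.gcd 2 (q - 1) ≤ 2 * 2 := Nat.mul_le_mul h1 h1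
  have h3 : KD m q f = ((2 * m + 1) * f) * (Nat.gcd 2 (q - 1) * Nat.gcd 2 (q - 1)) := by unfold KD; ring
  rw [h3]
  calc (((2 * m + 1) * f) * (Nat.gcd 2 (q - 1) * Nat.gcd 2 (q - 1))) ^ 2 ≤ (((2 * m + 1) * f) * (2 * 2)) ^ 2 :=
        Nat.pow_le_pow_left (Nat.mul_le_mul_left _ h2) 2
    _ = 16 * (2 * m + 1) ^ 2 * f ^ 2 := by ring

theorem baseD {m q f : ℕ} (hm : 3 ≤ m) (h4 : 4 ≤ q) (h : 784 * f ^ 2 + 2 ≤ q ^ 3) :
    16 * (2 * m + 1) ^ 2 * f ^ 2 + 2 ≤ q ^ m := by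
  induction m, hm using Nat.le_induction with
  | base => simpa using h
  | succ n hn ih =>
    rw [pow_succ q n]
    have h1 : (2 * (n + 1) + 1) ^ 2 ≤ 4 * (2 * n + 1) ^ 2 := by nlinarith
    have h2 := Nat.mul_le_mul_right (f ^ 2) (Nat.mul_le_mul_left 16 h1)
    calc 16 * (2 * (n + 1) + 1) ^ 2 * f ^ 2 + 2 ≤ 16 * (4 * (2 * n + 1) ^ 2) * f ^ 2 + 2 := by omega
      _ ≤ (16 * (2 * n + 1) ^ 2 * f ^ 2 + 2) * 4 := by
        have : 16 * (4 * (2 * n + 1) ^ 2) * f ^ 2 = 16 * (2 * n + 1) ^ 2 * f ^ 2 * 4 := by ring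
        omega
      _ ≤ q ^ n * q := Nat.mul_le_mul ih h4

theorem pow_three_bigD (m : ℕ) (hm : 8 ≤ m) : 16 * (2 * m + 1) ^ 2 + 2 ≤ 3 ^ m := by
  induction m, hm using Nat.le_induction with
  | base => norm_num
  | succ n hn ih =>
    rw [pow_succ 3 n]
    nlinarith

/-- the small cases -/
def smallD : List ((ℕ × ℕ × ℕ) × ℕ) :=
  [((3,3,1),1), ((3,3,2),1), ((3,5,1),1), ((3,7,1),1), ((4,3,1),1), ((4,5,1),1), ((5,3,1),1), ((6,3,1),1),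
    ((7,3,1),1)]

theorem finite_checkD : ((List.range 5).all fun i => (List.range 8).all fun j => (List.range 2).all fun k =>
    !isP (j + 3) || decide (KD (i + 3) ((j + 3) ^ (k + 1)) (k + 1) ^ 2 + 2 ≤ ((j + 3) ^ (k + 1)) ^ (i + 3)) ||
      (smallD.map Prod.fst).contains (i + 3, j + 3, k + 1)) = true := by
  decide +kernel

theorem big_or_smallD {m r f : ℕ} (hm : 3 ≤ m) (hr : r.Prime) (h3 : 3 ≤ r) (hf : 1 ≤ f) :
    KD m (r ^ f) f ^ 2 + 2 ≤ (r ^ f) ^ m ∨ ∃ P, ((m, r, f), P) ∈ smallD := by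
  have hK := KD_sq_le (m := m) (q := r ^ f) (f := f)
  have h3f : 3 ^ f ≤ r ^ f := Nat.pow_le_pow_left h3 f
  by_cases h11 : 11 ≤ r
  · left
    have h1 : 11 * f ≤ r ^ f := by
      obtain ⟨g, rfl⟩ : ∃ g, f = g + 1 := ⟨f - 1, by omega⟩
      have h2 : g + 1 ≤ 11 ^ g := Nat.succ_le_of_lt (Nat.lt_pow_self (by norm_num))
      calc 11 * (g + 1) ≤ 11 * 11 ^ g := Nat.mul_le_mul_left _ h2
        _ = 11 ^ (g + 1) := by ring
        _ ≤ r ^ (g + 1) := Nat.pow_le_pow_left h11 _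
    have h2 : (11 * f) ^ 3 ≤ (r ^ f) ^ 3 := Nat.pow_le_pow_left h1 3
    have h4 : 784 * f ^ 2 + 2 ≤ (11 * f) ^ 3 := by
      have h5 : f ^ 2 ≤ f ^ 3 := Nat.pow_le_pow_right hf (by norm_num)
      have h6 : 1 ≤ f ^ 3 := Nat.one_le_pow _ _ hf
      have h7 : (11 * f) ^ 3 = 1331 * f ^ 3 := by ring
      omega
    have := baseD (m := m) (q := r ^ f) (f := f) hm (by omega) (h4.trans h2)
    omega
  by_cases h5 : 3 ≤ f
  · left
    have h1 : 784 * f ^ 2 + 2 ≤ (r ^ f) ^ 3 := by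
      refine le_trans ?_ (Nat.pow_le_pow_left h3f 3)
      clear hK h3f
      induction f, h5 using Nat.le_induction with
      | base => norm_num
      | succ n hn ih =>
        have h1 : (3 ^ (n + 1)) ^ 3 = 27 * (3 ^ n) ^ 3 := by ring
        rw [h1]
        have := ih (by omega)
        nlinarith
    have h2 : 3 ^ 3 ≤ 3 ^ f := Nat.pow_le_pow_right (by norm_num) h5
    have := baseD (m := m) (q := r ^ f) (f := f) hm (by omega) h1
    omega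
  by_cases h8 : 8 ≤ m
  · left
    have h1 : (3 ^ f) ^ m = 3 ^ m * (3 ^ (f - 1)) ^ m := by
      rw [← pow_mul, ← pow_mul, ← pow_add]
      congr 1
      obtain ⟨g, rfl⟩ : ∃ g, f = g + 1 := ⟨f - 1, by omega⟩
      rw [Nat.add_sub_cancel]
      ring
    have h2 : f ^ 2 ≤ (3 ^ (f - 1)) ^ m := by
      have h3 : f ≤ 3 ^ (f - 1) := (f_le f hf).trans (Nat.pow_le_pow_left (by norm_num) _)
      exact (Nat.pow_le_pow_left h3 2).trans (Nat.pow_le_pow_right (Nat.pow_pos (by norm_num)) (by omega))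
    have h4 : 1 ≤ f ^ 2 := Nat.one_le_pow _ _ hf
    have h5 := pow_three_bigD m h8
    have h6 : 16 * (2 * m + 1) ^ 2 * f ^ 2 + 2 ≤ (r ^ f) ^ m := by
      calc 16 * (2 * m + 1) ^ 2 * f ^ 2 + 2 ≤ (16 * (2 * m + 1) ^ 2 + 2) * f ^ 2 := by nlinarith
        _ ≤ 3 ^ m * (3 ^ (f - 1)) ^ m := Nat.mul_le_mul h5 h2
        _ = (3 ^ f) ^ m := h1.symm
        _ ≤ (r ^ f) ^ m := Nat.pow_le_pow_left h3f _
    omega
  have h1 := finite_checkD
  rw [List.all_eq_true] at h1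
  have h2 := h1 (m - 3) (List.mem_range.2 (by omega))
  rw [List.all_eq_true] at h2
  have h3' := h2 (r - 3) (List.mem_range.2 (by omega))
  rw [List.all_eq_true] at h3'
  have h4 := h3' (f - 1) (List.mem_range.2 (by omega))
  rw [show r - 3 + 3 = r by omega, show f - 1 + 1 = f by omega, show m - 3 + 3 = m by omega, isP_of_prime hr] at h4
  simpa using h4

/-- the exceptions -/
def excD : List (ℕ × ℕ × ℕ × ℕ) := [(4,3,1,5),(5,3,1,11)]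

theorem small_checkD : (smallD.all fun x => chkRow excD x.1.1 x.1.2.1 x.1.2.2 x.2 (x.1.2.1 ^ x.1.2.2)
    (KD x.1.1 (x.1.2.1 ^ x.1.2.2) x.1.2.2) ((x.1.2.1 ^ x.1.2.2) ^ x.1.1 + 1)
    ((x.1.2.1 ^ x.1.2.2) ^ x.1.1 - 1) 0
    (NS (x.1.2.1 ^ x.1.2.2) x.1.1)) = true := by
  decide +kernel

/-- **the small cases** -/
theorem small_caseD {m r f P p : ℕ} (h : ((m, r, f), P) ∈ smallD) (hp : p.Prime) (h5 : 5 ≤ p)
    (hle : (p - 1) ^ 2 ≤ (r ^ f) ^ m)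
    (hd : p ∣ r ^ f ∨ p ^ 2 ∣ ∏ i ∈ range m, ((r ^ f) ^ (2 * (i + 1)) - 1)) :
    (m, r, f, p) ∈ excD ∨ IneqO p (KD m (r ^ f) f) ((r ^ f) ^ m + 1) ((r ^ f) ^ m - 1) 0 := by
  have h1 := small_checkD
  rw [List.all_eq_true] at h1
  rw [← NS_eq] at hd
  exact chkRow_sound (h1 _ h) hp h5 hle hd

end Cfsg.Agent.H93.PReg.Num
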