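import Cfsg.Agent.H93.PReg.OrthRow
import Cfsg.Agent.H93.PReg.NumOdd

/-!
# The row of `PΩ_(2m+1)(q)`, `q` odd (for S4883)
-/

set_option autoImplicit false
set_option linter.unusedSectionVars false

namespace Cfsg.Agent.H93.PReg.Orth

open QuadraticMap Cfsg.Agent.LieClassical.OrthCore Cfsg.Agent.LieClassical.OrthForms
  Cfsg.Agent.LieClassical.OrthTrans Cfsg.Agent.LieClassical.OrthSimple
open Polynomial Matrix Cfsg.Agent.H93.PReg Cfsg Cfsg.Agent.H92.KTools
open Cfsg.Agent.H182.Sign Cfsg.Agent.H182.Orth Cfsg.Agent.AutOrth.Main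

variable {F : Type} [Field F] [Fintype F] {m r f : ℕ}

/-- from an isometry in dimension `2m` to one in dimension `2m + 1` -/
theorem exists_odd (h2 : (2 : F) ≠ 0) {ε : ℤ} {a : ℕ} (h : EigElt F m ε a) :
    ∃ (V : Type) (_ : AddCommGroup V) (_ : Module F V) (R : V → F) (c : F)
      (e : (Unit ⊕ (Fin m ⊕ Fin m) → F) ≃ₗ[F] V) (T : Module.End F V) (L : Type) (_ : Field L) (_ : Algebra F L)
      (y : L), c ≠ 0 ∧ (∀ u, R (e u) = c * oddForm m F u) ∧ (∀ v, R (T v) = R v) ∧ HasEig T y ∧ orderOf y = a := by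
  obtain ⟨V, _, _, _, P, T, L, _, _, y, hs, hT, hy, ho⟩ := h
  let Q₁ : QuadraticForm F F := QuadraticMap.sq
  have hQ₁ : Nondeg Q₁ := by
    intro x hx
    have h3 := hx 1
    simp only [polar, Q₁, QuadraticMap.sq_apply] at h3
    have h4 : 2 * x = 0 := by linear_combination h3
    exact (mul_eq_zero.1 h4).resolve_left h2
  have hR : Nondeg (H377.sumQ P Q₁) := H377.sumQ_nondeg hs.nondeg hQ₁
  have : FiniteDimensional F V := Module.Finite.of_finite
  have hfr : Module.finrank F (V × F) = 2 * m + 1 := by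
    rw [Module.finrank_prod, hs.dim, Module.finrank_self]
  obtain ⟨c, e, hc, he⟩ := H377.exists_similar_odd hfr (H377.sumQ P Q₁) hR
  refine ⟨V × F, inferInstance, inferInstance, ⇑(H377.sumQ P Q₁), c, e, T.prodMap (1 : Module.End F F), L,
    inferInstance, inferInstance, y, hc, he, fun v => ?_, hy.prod _, ho⟩
  rw [H377.sumQ_apply, H377.sumQ_apply, LinearMap.prodMap_apply, hT]
  rfl

theorem two_ne_zero_of_odd (ho : Odd (Fintype.card F)) : (2 : F) ≠ 0 := by
  intro h2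
  have : ringChar F = 2 := by
    have : CharP F 2 := CharTwo.of_one_ne_zero_of_two_eq_zero one_ne_zero h2
    exact ringChar.eq F 2
  have h3 := FiniteField.even_card_of_char_two this
  rw [Nat.odd_iff] at ho
  omega

/-- one torus -/
theorem MO_odd_of_eig (hm : 3 ≤ m) (ho' : Odd (Fintype.card F)) {W : Type} [Finite W]
    (hC : Ctl (ρ ⇑(oddForm m F)) (pr ⇑(oddForm m F)) W) {ε : ℤ} {a p n B g : ℕ} (he : EigElt F m ε a)
    (hp : p.Prime) (ha : ¬ p ∣ a) (hg : Nat.gcd a 2 = g)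
    (hB : Fintype.card (Unit ⊕ (Fin m ⊕ Fin m)) * Nat.card W ≤ B) (h : (n - 1) * (B * g) < a) :
    MO (Reg p) n (POmega F ⇑(oddForm m F)) := by
  have h2 := two_ne_zero_of_odd ho'
  obtain ⟨V, _, _, R, c, e, T, L, _, _, y, hc, he, hT, hy, ho⟩ := exists_odd h2 he
  have hg0 : 0 < g := hg ▸ Nat.gcd_pos_of_pos_right _ (by norm_num)
  have hda : g ∣ a := hg ▸ Nat.gcd_dvd_left _ _
  refine MO_of_isom (N := a / g) (nondeg_oddForm m F h2) (by simp only [Fintype.card_sum, Fintype.card_fin, Fintype.card_unit]; omega) hC R e c hc he T hT hy hp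
    (by rw [orderOf_sq_eq y a ho, hg]) hB ?_
  rw [Nat.factorization_eq_zero_of_not_dvd fun hd => ha (hd.trans (Nat.div_dvd_of_dvd hda)), pow_zero, mul_one]
  rw [Nat.lt_div_iff_mul_lt' hda]
  calc g * ((n - 1) * B) = (n - 1) * (B * g) := by ring
    _ < a := h

/-- orders from tori -/
theorem ho_odd_eig (hm : 3 ≤ m) (ho' : Odd (Fintype.card F)) {ε : ℤ} {a k : ℕ} (he : EigElt F m ε a)
    (h : k ∣ a / Nat.gcd a 2 / Nat.gcd (a / Nat.gcd a 2) (Nat.gcd 2 (Fintype.card F - 1))) :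
    HasOrd (POmega F ⇑(oddForm m F)) k := by
  have : Finite (POmega F ⇑(oddForm m F)) := Quotient.finite _
  have h2 := two_ne_zero_of_odd ho'
  have h5 : 5 ≤ Fintype.card (Unit ⊕ (Fin m ⊕ Fin m)) := by
    simp only [Fintype.card_sum, Fintype.card_fin, Fintype.card_unit]; omega
  obtain ⟨V, _, _, R, c, e, T, L, _, _, y, hc, he, hT, hy, ho⟩ := exists_odd h2 he
  obtain ⟨z, hz⟩ := exists_omega (oddForm m F) (nondeg_oddForm m F h2) h5 R e c hc he T hT
  have hroot : aeval (y ^ 2) (ρ ⇑(oddForm m F) z).charpoly = 0 := by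
    apply root_of_eig
    rw [hz]
    exact hasEig_conj e.symm (hy.pow 2)
  have h1 := orderOf_root_dvd (ρ := ρ ⇑(oddForm m F)) z (y ^ 2) hroot
  rw [orderOf_sq_eq y a ho] at h1
  have h0 : orderOf z ≠ 0 := (orderOf_pos z).ne'
  obtain ⟨c', hc'⟩ := h1
  have hN0 : a / Nat.gcd a 2 ≠ 0 := by
    intro h0'
    rw [h0', zero_mul] at hc'
    exact h0 hc'
  have hc0 : c' ≠ 0 := by
    rintro rfl
    exact h0 (by rw [hc', mul_zero])
  have h3 : orderOf (z ^ c') = a / Nat.gcd a 2 := by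
    rw [orderOf_pow' z hc0, hc', Nat.gcd_eq_right (Dvd.intro_left _ rfl),
      Nat.mul_div_cancel _ (Nat.pos_of_ne_zero hc0)]
  exact hasOrd_of_ker (pr ⇑(oddForm m F)) (z ^ c') (fun g hg => ker_sq (nondeg_oddForm m F h2) h5 g hg)
    (by rw [h3]; exact hN0) (by rw [h3]; exact h)

/-- **the row of `PΩ_(2m+1)(q)`** -/
theorem row_odd (hm : 3 ≤ m) (ho : Odd (Fintype.card F)) : Row (POmega F (quadFormOdd m F)) := by
  obtain ⟨r, _⟩ := CharP.exists F
  obtain ⟨f, hr, hF⟩ := FiniteField.card F r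
  have hf : 1 ≤ (f : ℕ) := f.2
  have hq : 2 ≤ r ^ (f : ℕ) := hF ▸ Fintype.one_lt_card
  have hr3 : 3 ≤ r := by
    rcases hr.eq_two_or_odd' with h | h
    · exfalso
      rw [hF, h] at ho
      exact (Nat.not_even_iff_odd.2 ho) ((Nat.even_pow.2 ⟨even_two, f.2.ne'⟩))
    · have := hr.two_le
      obtain ⟨k, hk⟩ := h
      omega
  have h2 := two_ne_zero_of_odd ho
  have hcard := S0292.result hF (hF ▸ ho) m hm
  have hG : Good (oddForm m F) := by
    rw [oddForm_eq]
    exact good_odd (by omega) h2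
  have hall : ∀ α : MulAut (POmega F ⇑(oddForm m F)), Ind ⇑(oddForm m F) α := by
    rw [coe_oddForm]
    exact all_odd hm h2
  rw [← coe_oddForm] at hcard ⊢
  have hC := ctl_all hG hall
  have h5' : 5 ≤ Fintype.card (Unit ⊕ (Fin m ⊕ Fin m)) := by
    simp only [Fintype.card_sum, Fintype.card_fin, Fintype.card_unit]; omega
  have hW : Fintype.card (Unit ⊕ (Fin m ⊕ Fin m)) * Nat.card (Subgroup.center (Omega F ⇑(oddForm m F)) × (F ≃+* F)) ≤
      (m + m + 1) * (Nat.gcd 2 (r ^ (f : ℕ) - 1) * f) := by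
    have := Fact.mk hr
    rw [Nat.card_prod, Lib.FieldAutCard.card_ringAut hf hF, Fintype.card_sum, Fintype.card_sum, Fintype.card_fin,
      Fintype.card_unit, add_comm 1]
    refine Nat.mul_le_mul_left _ (Nat.mul_le_mul_right _ ?_)
    rw [← hF]
    exact card_center_le (nondeg_oddForm m F h2) h5'
  have := finite_W (Q := oddForm m F)
  have hfin : Finite (POmega F ⇑(oddForm m F)) := Quotient.finite _
  intro p hp h5 hd
  have hc := cases_of_sq_dvd hp hcard hd
  have hle : (p - 1) ^ 2 ≤ (r ^ (f : ℕ)) ^ m := by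
    rcases hc with hc | hc
    · exact Num.sq_le_of_dvd hq (by omega) hc
    · exact Num.psp_sq_le hp h5 hq hc
  have hq' : 2 ≤ Fintype.card F := Fintype.one_lt_card
  have hK : (m + m + 1) * (Nat.gcd 2 (r ^ (f : ℕ) - 1) * f) * Nat.gcd 2 (Fintype.card F - 1) =
      Num.KD m (r ^ (f : ℕ)) f := by rw [hF]; rfl
  have hgen : ∀ n, ((¬ p ∣ (r ^ (f : ℕ)) ^ m + 1 ∧ (n - 1) * Num.KD m (r ^ (f : ℕ)) f < (r ^ (f : ℕ)) ^ m + 1) ∨
      (¬ p ∣ (r ^ (f : ℕ)) ^ m - 1 ∧ (n - 1) * Num.KD m (r ^ (f : ℕ)) f < (r ^ (f : ℕ)) ^ m - 1)) →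
      MO (Reg p) n (POmega F ⇑(oddForm m F)) := by
    intro n h
    rw [← hK, ← hF] at h
    rcases h with ⟨h1, h2⟩ | ⟨h1, h2⟩
    · exact MO_odd_of_eig hm ho hC (eig_minus m (by omega)) hp h1 (gcd_eq (by omega) hq' (Or.inl rfl))
        (hF ▸ hW) h2
    · exact MO_odd_of_eig hm ho hC (eig_plus m (by omega)) hp h1 (gcd_eq (by omega) hq' (Or.inr rfl))
        (hF ▸ hW) h2
  rcases Num.big_or_smallD hm hr hr3 hf with h | ⟨P, h⟩
  · exact hgen p (Num.ineqS_of_lt hp h5 (Num.key_sp hle h))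
  rcases Num.small_caseD h hp h5 hle hc with h1 | h1
  · simp only [Num.excD, List.mem_cons, Prod.mk.injEq, List.not_mem_nil, or_false] at h1
    have hho : ∀ s : ℕ, s.Prime → s * 2 ∣ (r ^ (f : ℕ)) * Num.NS (r ^ (f : ℕ)) m →
        HasOrd (POmega F ⇑(oddForm m F)) s := fun s hs h =>
      ho_prime hs hcard (pow_ne_zero _ (by omega)) (by norm_num) (by rw [← Num.NS_eq]; exact h)
    have hep : ∀ i, i ≠ 0 → i < m → ∀ k, k ∣ ((r ^ (f : ℕ)) ^ i - 1) / Nat.gcd ((r ^ (f : ℕ)) ^ i - 1) 2 /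
        Nat.gcd (((r ^ (f : ℕ)) ^ i - 1) / Nat.gcd ((r ^ (f : ℕ)) ^ i - 1) 2) (Nat.gcd 2 (r ^ (f : ℕ) - 1)) →
        HasOrd (POmega F ⇑(oddForm m F)) k := by
      intro i hi him k hk
      rw [← hF] at hk
      exact ho_odd_eig hm ho ((eig_plus i hi).extend him (Or.inl rfl)) hk
    rcases h1 with ⟨h1, h2, h3, rfl⟩ | ⟨h1, h2, h3, rfl⟩
    · subst h1 h2; rw [h3] at hho
      refine MO.of_orders' {1, 2, 3, 7, 13} ?_ (by decide) (by decide)
      simp only [Finset.mem_insert, Finset.mem_singleton, forall_eq_or_imp, forall_eq]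
      exact ⟨hasOrd_one _, hho _ (by norm_num) (by decide), hho _ (by norm_num) (by decide),
        hho _ (by norm_num) (by decide), hho _ (by norm_num) (by decide)⟩
    · subst h1 h2; rw [h3] at hho hep
      refine MO.of_orders' {1, 2, 3, 4, 5, 7, 10, 13, 20, 41, 61} ?_ (by decide) (by decide)
      simp only [Finset.mem_insert, Finset.mem_singleton, forall_eq_or_imp, forall_eq]
      have hep4 := hep 4 (by norm_num) (by omega)
      exact ⟨hasOrd_one _, hep4 _ (by decide), hho _ (by norm_num) (by decide), hep4 _ (by decide),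
        hep4 _ (by decide), hho _ (by norm_num) (by decide), hep4 _ (by decide), hho _ (by norm_num) (by decide),
        hep4 _ (by decide), hho _ (by norm_num) (by decide), hho _ (by norm_num) (by decide)⟩
  · rcases h1 with h1 | h1 | ⟨h1, -⟩
    · exact hgen p (Or.inl h1)
    · exact hgen p (Or.inr h1)
    · exact absurd (dvd_zero p) h1

end Cfsg.Agent.H93.PReg.Orth
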