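import Cfsg.Agent.H93.PReg.NumPslFin

/-!
# Arithmetic for `PSL_n(q)`: the small cases (for S4883)
-/

set_option autoImplicit false

namespace Cfsg.Agent.H93.PReg.Num

open Finset

/-- `∏_{2 ≤ j ≤ n} (q ^ j - 1)` -/
def NN (q : ℕ) : ℕ → ℕ
  | 0 => 1
  | n + 1 => if n = 0 then 1 else NN q n * (q ^ (n + 1) - 1)

theorem NN_eq (q : ℕ) (n : ℕ) (hn : 1 ≤ n) : NN q n = ∏ j ∈ Icc 2 n, (q ^ j - 1) := by
  induction n, hn using Nat.le_induction with
  | base => simp [NN]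
  | succ n hn ih =>
    rw [NN, if_neg (by omega), ih, Finset.prod_Icc_succ_top (by omega)]

/-- the inequalities in a decidable form -/
def chk (n q f p : ℕ) : Bool :=
  (((q ^ n - 1) / (q - 1)) % p != 0 && Nat.blt ((p - 1) * K0 n q f) ((q ^ n - 1) / (q - 1))) ||
  ((q ^ (n - 1) - 1) % p != 0 && Nat.blt ((p - 1) * K0 n q f) (q ^ (n - 1) - 1)) ||
  (((q ^ n - 1) / (q - 1)) % (p * p) != 0 && Nat.blt ((p - 1) * K0 n q f * p) ((q ^ n - 1) / (q - 1)))

theorem chk_sound {n q f p : ℕ} (hp : p.Prime) (h : chk n q f p = true) :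
    (p - 1) * K0 n q f * p ^ ((q ^ n - 1) / (q - 1)).factorization p < (q ^ n - 1) / (q - 1) ∨
      (p - 1) * K0 n q f * p ^ (q ^ (n - 1) - 1).factorization p < q ^ (n - 1) - 1 := by
  unfold chk at h
  simp only [Bool.or_eq_true, Bool.and_eq_true, bne_iff_ne, ne_eq, Nat.blt_eq] at h
  rcases h with (⟨h1, h2⟩ | ⟨h1, h2⟩) | ⟨h1, h2⟩
  · left
    rw [Nat.factorization_eq_zero_of_not_dvd (fun hd => h1 (Nat.mod_eq_zero_of_dvd hd)), pow_zero, mul_one]
    exact h2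
  · right
    rw [Nat.factorization_eq_zero_of_not_dvd (fun hd => h1 (Nat.mod_eq_zero_of_dvd hd)), pow_zero, mul_one]
    exact h2
  · left
    refine lt_of_le_of_lt (Nat.mul_le_mul_left _ ?_) h2
    have h0 : (q ^ n - 1) / (q - 1) ≠ 0 := by
      intro h0
      rw [h0] at h1
      simp at h1
    have h3 : ((q ^ n - 1) / (q - 1)).factorization p < 2 := by
      by_contra h4
      push Not at h4
      apply h1
      apply Nat.mod_eq_zero_of_dvd
      rw [← pow_two]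
      exact (Nat.Prime.pow_dvd_iff_le_factorization hp h0).2 h4
    calc p ^ ((q ^ n - 1) / (q - 1)).factorization p ≤ p ^ 1 := Nat.pow_le_pow_right hp.pos (by omega)
      _ = p := pow_one p

/-- the exceptions `(n, r, f, p)` -/
def excL : List (ℕ × ℕ × ℕ × ℕ) :=
  [(3,7,1,7),(3,2,3,7),(3,13,1,13),(3,2,4,5),(4,2,2,5),(5,3,1,11),(6,2,1,7),(6,3,1,13),(10,2,1,31)]

theorem small_check : (smallL.all fun x => Nat.blt (((x.2.1 ^ x.2.2) ^ x.1 - 1)) (90000 * (x.2.1 ^ x.2.2 - 1)) &&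
    Nat.blt (x.2.1 ^ x.2.2) 300 &&
    (List.range 300).all fun p => Nat.blt p 5 || !isP p ||
      !((x.2.1 ^ x.2.2) % p == 0 || (NN (x.2.1 ^ x.2.2) x.1) % (p * p) == 0) ||
      excL.contains (x.1, x.2.1, x.2.2, p) || chk x.1 (x.2.1 ^ x.2.2) x.2.2 p) = true := by
  decide +kernel

/-- **the small cases** -/
theorem small_case {n r f p : ℕ} (h : (n, r, f) ∈ smallL) (hn : 3 ≤ n) (hq : 2 ≤ r ^ f) (hp : p.Prime) (h5 : 5 ≤ p)
    (hd : p ∣ r ^ f ∨ p ^ 2 ∣ ∏ j ∈ Icc 2 n, ((r ^ f) ^ j - 1)) :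
    (n, r, f, p) ∈ excL ∨
      (p - 1) * K0 n (r ^ f) f * p ^ (((r ^ f) ^ n - 1) / (r ^ f - 1)).factorization p <
        ((r ^ f) ^ n - 1) / (r ^ f - 1) ∨
      (p - 1) * K0 n (r ^ f) f * p ^ ((r ^ f) ^ (n - 1) - 1).factorization p < (r ^ f) ^ (n - 1) - 1 := by
  have h1 := small_check
  rw [List.all_eq_true] at h1
  have h2 := h1 _ h
  simp only [Bool.and_eq_true, Nat.blt_eq, List.all_eq_true, List.mem_range] at h2
  obtain ⟨⟨h3, h4⟩, h6⟩ := h2
  have hp300 : p < 300 := by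
    rcases hd with hd | hd
    · exact lt_of_le_of_lt (Nat.le_of_dvd (by omega) hd) h4
    · have h7 := psl_sq_le hp hq hn hd
      have h8 : p ^ 2 * (r ^ f - 1) < 90000 * (r ^ f - 1) := lt_of_le_of_lt h7 h3
      have h9 : p ^ 2 < 90000 := Nat.lt_of_mul_lt_mul_right h8
      by_contra hc
      push Not at hc
      have : 300 ^ 2 ≤ p ^ 2 := Nat.pow_le_pow_left hc 2
      omega
  have h7 := h6 p hp300
  simp only [Bool.or_eq_true, Nat.blt_eq, isP_of_prime hp, Bool.not_true, Bool.false_eq_true, or_false,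
    Bool.not_eq_true', Bool.or_eq_false_iff, beq_eq_false_iff_ne, ne_eq] at h7
  rcases h7 with ((h7 | h7) | h7) | h7
  · omega
  · exfalso
    rcases hd with hd | hd
    · exact h7.1 (Nat.mod_eq_zero_of_dvd hd)
    · rw [← NN_eq _ _ (by omega), pow_two] at hd
      exact h7.2 (Nat.mod_eq_zero_of_dvd hd)
  · left
    simpa using h7
  · right
    exact chk_sound hp h7

end Cfsg.Agent.H93.PReg.Num
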