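import Cfsg.Agent.H93.PReg.NumPslFin

/-!
# Arithmetic for `PSL_2(q)` (for S4883)
-/

set_option autoImplicit false

namespace Cfsg.Agent.H93.PReg.Num

/-- `2 · d · f` -/
def K2 (q f : ℕ) : ℕ := 2 * (Nat.gcd 2 (q - 1) * f)

/-- the inequalities for `PSL_2(q)` -/
def Ineq2 (q f p : ℕ) : Prop :=
  (¬ p ∣ q + 1 ∧ (p - 1) * K2 q f < q + 1) ∨ (¬ p ∣ q - 1 ∧ (p - 1) * K2 q f < q - 1)

theorem sq_cases {p q : ℕ} (hp : p.Prime) (h5 : 5 ≤ p) (hq : 1 ≤ q) (h : p ^ 2 ∣ q ^ 2 - 1) :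
    (p ^ 2 ∣ q + 1 ∧ ¬ p ∣ q - 1) ∨ (p ^ 2 ∣ q - 1 ∧ ¬ p ∣ q + 1) := by
  have h1 : q ^ 2 - 1 = (q + 1) * (q - 1) := by
    have := Nat.sq_sub_sq q 1
    rwa [one_pow] at this
  rw [h1] at h
  have h2 : ¬ (p ∣ q + 1 ∧ p ∣ q - 1) := by
    rintro ⟨ha, hb⟩
    have h3 : p ∣ (q + 1) - (q - 1) := Nat.dvd_sub ha hb
    rw [show (q + 1) - (q - 1) = 2 by omega] at h3
    have := Nat.le_of_dvd (by norm_num) h3
    omega
  by_cases ha : p ∣ q + 1
  · left
    have hb : ¬ p ∣ q - 1 := fun hb => h2 ⟨ha, hb⟩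
    refine ⟨?_, hb⟩
    exact (Nat.Coprime.pow_left 2 ((Nat.Prime.coprime_iff_not_dvd hp).2 hb)).dvd_of_dvd_mul_right h
  · right
    exact ⟨(Nat.Coprime.pow_left 2 ((Nat.Prime.coprime_iff_not_dvd hp).2 ha)).dvd_of_dvd_mul_left h, ha⟩

theorem psl2_big {p q f : ℕ} (hp : p.Prime) (h5 : 5 ≤ p) (hK : K2 q f ^ 2 + 2 ≤ q)
    (h : p ^ 2 ∣ q ∨ p ^ 2 ∣ q ^ 2 - 1) : Ineq2 q f p := by
  rcases h with h | h
  · left
    have h1 : p ∣ q := (dvd_pow_self p (by norm_num)).trans h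
    refine ⟨fun h2 => ?_, ?_⟩
    · have := (Nat.dvd_add_right h1).1 h2
      exact hp.one_lt.ne' (Nat.dvd_one.1 this)
    · have h2 : p ^ 2 ≤ q := Nat.le_of_dvd (by omega) h
      by_contra hc
      push Not at hc
      have h3 : (q + 1) ^ 2 ≤ ((p - 1) * K2 q f) ^ 2 := Nat.pow_le_pow_left hc 2
      have h4 : ((p - 1) * K2 q f) ^ 2 ≤ q * q := by
        rw [mul_pow]
        refine Nat.mul_le_mul ?_ (by omega)
        exact (Nat.pow_le_pow_left (by omega) 2).trans h2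
      nlinarith
  · have key : ∀ {T : ℕ}, p ^ 2 ≤ q + 1 → (p - 1) * K2 q f < q - 1 := by
      intro T h2
      by_contra hc
      push Not at hc
      have h3 : (q - 1) ^ 2 ≤ ((p - 1) * K2 q f) ^ 2 := Nat.pow_le_pow_left hc 2
      have h4 : (p - 1) ^ 2 + 8 ≤ q := by
        obtain ⟨a, rfl⟩ : ∃ a, p = a + 1 := ⟨p - 1, by omega⟩
        rw [Nat.add_sub_cancel]
        nlinarith
      have h5 : ((p - 1) * K2 q f) ^ 2 ≤ (q - 8) * (q - 2) := by
        rw [mul_pow]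
        exact Nat.mul_le_mul (by omega) (by omega)
      obtain ⟨u, rfl⟩ : ∃ u, q = u + 8 := ⟨q - 8, by omega⟩
      rw [show u + 8 - 8 = u by omega, show u + 8 - 2 = u + 6 by omega] at h5
      rw [show u + 8 - 1 = u + 7 by omega] at h3
      nlinarith
    rcases sq_cases hp h5 (by omega) h with ⟨h1, h2⟩ | ⟨h1, h2⟩
    · right
      exact ⟨h2, key (T := 0) (Nat.le_of_dvd (by omega) h1)⟩
    · left
      refine ⟨h2, ?_⟩
      have h3 := Nat.le_of_dvd (by omega) h1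
      have := key (T := 0) (by omega)
      omega

/-- small cases -/
def small2 : List (ℕ × ℕ) :=
  [(2,1),(2,2),(2,3),(2,4),(2,5),(2,6),(2,7),(2,8),(3,1),(3,2),(3,3),(3,4),(3,5),(5,1),(5,2),(5,3),(7,1),(7,2),
    (11,1),(13,1),(17,1)]

theorem f_bound2 (f : ℕ) (hf : 9 ≤ f) : 16 * f ^ 2 + 2 ≤ 3 ^ f := by
  induction f, hf using Nat.le_induction with
  | base => norm_num
  | succ n hn ih =>
    rw [pow_succ 3 n]
    nlinarith

theorem f_bound2' (f : ℕ) (hf : 9 ≤ f) : 4 * f ^ 2 + 2 ≤ 2 ^ f := by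
  induction f, hf using Nat.le_induction with
  | base => norm_num
  | succ n hn ih =>
    rw [pow_succ 2 n]
    nlinarith

theorem check2 : ((List.range 24).all fun j => (List.range 8).all fun k =>
    !isP (j + 2) || decide (K2 ((j + 2) ^ (k + 1)) (k + 1) ^ 2 + 2 ≤ (j + 2) ^ (k + 1)) ||
      small2.contains (j + 2, k + 1)) = true := by
  decide +kernel

theorem big_or_small2 {r f : ℕ} (hr : r.Prime) (hf : 1 ≤ f) :
    K2 (r ^ f) f ^ 2 + 2 ≤ r ^ f ∨ (r, f) ∈ small2 := by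
  have hr2 := hr.two_le
  have hd : Nat.gcd 2 (r ^ f - 1) ≤ 2 := Nat.gcd_le_left _ (by norm_num)
  have hK : K2 (r ^ f) f ^ 2 ≤ 16 * f ^ 2 := by
    unfold K2
    calc (2 * (Nat.gcd 2 (r ^ f - 1) * f)) ^ 2 ≤ (2 * (2 * f)) ^ 2 :=
          Nat.pow_le_pow_left (Nat.mul_le_mul_left _ (Nat.mul_le_mul_right _ hd)) 2
      _ = 16 * f ^ 2 := by ring
  by_cases h26 : 26 ≤ r
  · left
    have h1 : 26 * f ≤ r ^ f ∧ 26 * f ^ 2 ≤ r ^ f := by
      obtain ⟨g, rfl⟩ : ∃ g, f = g + 1 := ⟨f - 1, by omega⟩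
      have h2 : g + 1 ≤ 26 ^ g := Nat.succ_le_of_lt (Nat.lt_pow_self (by norm_num))
      have h2' : (g + 1) ^ 2 ≤ 26 ^ g := by
        have h3 : g + 1 ≤ 5 ^ g := Nat.succ_le_of_lt (Nat.lt_pow_self (by norm_num))
        calc (g + 1) ^ 2 ≤ (5 ^ g) ^ 2 := Nat.pow_le_pow_left h3 2
          _ = 25 ^ g := by rw [← pow_mul, mul_comm, pow_mul]; norm_num
          _ ≤ 26 ^ g := Nat.pow_le_pow_left (by norm_num) g
      have h4 : 26 ^ (g + 1) ≤ r ^ (g + 1) := Nat.pow_le_pow_left h26 _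
      constructor
      · calc 26 * (g + 1) ≤ 26 * 26 ^ g := Nat.mul_le_mul_left _ h2
          _ = 26 ^ (g + 1) := by ring
          _ ≤ _ := h4
      · calc 26 * (g + 1) ^ 2 ≤ 26 * 26 ^ g := Nat.mul_le_mul_left _ h2'
          _ = 26 ^ (g + 1) := by ring
          _ ≤ _ := h4
    have h5 : 1 ≤ f ^ 2 := Nat.one_le_pow _ _ hf
    omega
  push Not at h26
  by_cases h9 : 9 ≤ f
  · left
    by_cases h2 : r = 2
    · subst h2
      have hd1 : Nat.gcd 2 (2 ^ f - 1) = 1 := by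
        have : Nat.Coprime 2 (2 ^ f - 1) := by
          rw [Nat.Prime.coprime_iff_not_dvd Nat.prime_two]
          intro h3
          have h4 : 2 ∣ 2 ^ f := dvd_pow_self 2 (by omega)
          have h5 : 1 ≤ 2 ^ f := Nat.one_le_pow _ _ (by norm_num)
          omega
        exact this
      have : K2 (2 ^ f) f ^ 2 = 4 * f ^ 2 := by
        unfold K2
        rw [hd1]
        ring
      rw [this]
      exact f_bound2' f h9
    · have h3 : 3 ^ f ≤ r ^ f := Nat.pow_le_pow_left (by omega) f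
      have := f_bound2 f h9
      omega
  push Not at h9
  have h1 := check2
  simp only [List.all_eq_true, List.mem_range] at h1
  have h2 := h1 (r - 2) (by omega) (f - 1) (by omega)
  rw [show r - 2 + 2 = r by omega, show f - 1 + 1 = f by omega, isP_of_prime hr] at h2
  simpa using h2

theorem small_check2 : (small2.all fun x => Nat.blt (x.1 ^ x.2) 300 && (List.range 300).all fun p =>
    Nat.blt p 5 || !isP p || !((x.1 ^ x.2) % (p * p) == 0 || ((x.1 ^ x.2) ^ 2 - 1) % (p * p) == 0) ||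
      (Nat.beq p 5 && Nat.beq (x.1 ^ x.2) 25) ||
      ((x.1 ^ x.2 + 1) % p != 0 && Nat.blt ((p - 1) * K2 (x.1 ^ x.2) x.2) (x.1 ^ x.2 + 1)) ||
      ((x.1 ^ x.2 - 1) % p != 0 && Nat.blt ((p - 1) * K2 (x.1 ^ x.2) x.2) (x.1 ^ x.2 - 1))) = true := by
  decide +kernel

theorem small_case2 {r f p : ℕ} (h : (r, f) ∈ small2) (hq : 2 ≤ r ^ f) (hp : p.Prime) (h5 : 5 ≤ p)
    (hd : p ^ 2 ∣ r ^ f ∨ p ^ 2 ∣ (r ^ f) ^ 2 - 1) : (p = 5 ∧ r ^ f = 25) ∨ Ineq2 (r ^ f) f p := by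
  have h1 := small_check2
  rw [List.all_eq_true] at h1
  have h2 := h1 _ h
  simp only [Bool.and_eq_true, Nat.blt_eq, List.all_eq_true, List.mem_range] at h2
  obtain ⟨h3, h6⟩ := h2
  have hp300 : p < 300 := by
    rcases hd with hd | hd
    · have := Nat.le_of_dvd (by omega) ((dvd_pow_self p (by norm_num)).trans hd)
      omega
    · rcases sq_cases hp h5 (by omega) hd with ⟨h7, -⟩ | ⟨h7, -⟩
      · have := Nat.le_of_dvd (by omega) h7
        nlinarith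
      · have h8 : r ^ f - 1 ≠ 0 := by omega
        have := Nat.le_of_dvd (by omega) h7
        have h9 : p ^ 2 < 300 := by omega
        nlinarith
  have h7 := h6 p hp300
  simp only [Bool.or_eq_true, Bool.and_eq_true, Nat.blt_eq, isP_of_prime hp, Bool.not_true, Bool.false_eq_true,
    or_false, Bool.not_eq_true', Bool.or_eq_false_iff, beq_eq_false_iff_ne, ne_eq, Nat.beq_eq, bne_iff_ne] at h7
  rcases h7 with (((h7 | h7) | h7) | h7) | h7
  · omega
  · exfalso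
    rcases hd with hd | hd
    · rw [pow_two] at hd
      exact h7.1 (Nat.mod_eq_zero_of_dvd hd)
    · rw [pow_two p] at hd
      exact h7.2 (Nat.mod_eq_zero_of_dvd hd)
  · exact Or.inl h7
  · exact Or.inr (Or.inl ⟨fun hd => h7.1 (Nat.mod_eq_zero_of_dvd hd), h7.2⟩)
  · exact Or.inr (Or.inr ⟨fun hd => h7.1 (Nat.mod_eq_zero_of_dvd hd), h7.2⟩)

end Cfsg.Agent.H93.PReg.Num
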