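import Cfsg.Agent.H93.PReg.PslGen
import Cfsg.Agent.H93.PReg.NumPslSmall
import Cfsg.Agent.H93.PReg.NumPslTwo

/-!
# The row of `PSL_n(q)` (for S4883)
-/

set_option autoImplicit false
set_option linter.unusedSectionVars false

namespace Cfsg.Agent.H93.PReg

open Cfsg.Agent.H92.KTools

/-- a prime `s` and some further orders -/
theorem MO.finish {S : Type*} [Group S] {p s a : ℕ} (L : Finset ℕ) (hL : ∀ k ∈ L, HasOrd S k)
    (hLs : ∀ k ∈ L, ¬ s ∣ k ∧ ¬ p ∣ k) (hMO : MO {m | s ∣ m ∧ ¬ p ∣ m} a S) (h : p ≤ a + L.card) :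
    MO (Reg p) p S := by
  have h1 := MO.of_finset (A := {m | ¬ s ∣ m ∧ ¬ p ∣ m}) L hL hLs
  have h2 := MO.add (A := {m | s ∣ m ∧ ¬ p ∣ m}) (B := {m | ¬ s ∣ m ∧ ¬ p ∣ m})
    (Set.disjoint_left.2 fun x hx hx' => hx'.1 hx.1) hMO h1
  refine h2.mono ?_ h
  rintro x (hx | hx)
  · exact hx.2
  · exact hx.2

theorem MO.of_orders {S : Type*} [Group S] {p : ℕ} (L : Finset ℕ) (hL : ∀ k ∈ L, HasOrd S k)
    (hLs : ∀ k ∈ L, ¬ p ∣ k) (h : p ≤ L.card) : MO (Reg p) p S :=
  (MO.of_finset (A := Reg p) L hL hLs).mono subset_rfl h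

namespace Psl

open Polynomial Matrix Cfsg.Agent.H93.PReg
open Cfsg.Agent.ClassicalGeometry.AutPSL.Root

variable {F : Type} [Field F] [Fintype F] {n : ℕ}

theorem hasOrd_of_root (hn : 1 ≤ n) {K : Type} [Field K] [Algebra F K] (t : SpecialLinearGroup (Fin n) F) (x : K)
    (hx : aeval x t.1.charpoly = 0) {m : ℕ} (h0 : orderOf x ≠ 0)
    (h2 : m ∣ orderOf x / Nat.gcd (orderOf x) (Nat.gcd n (Fintype.card F - 1))) :
    HasOrd (ProjectiveSpecialLinearGroup (Fin n) F) m := by
  have : Finite (SpecialLinearGroup (Fin n) F) := PslCharpoly.finite_SL _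
  have : Finite (ProjectiveSpecialLinearGroup (Fin n) F) := Quotient.finite _
  have h3 : orderOf t ∣ orderOf (pr t) * Nat.gcd n (Fintype.card F - 1) := by
    apply orderOf_dvd_of_pow_eq_one
    rw [pow_mul]
    apply pow_gcd_of_pr_eq_one hn
    rw [map_pow, pow_orderOf_eq_one]
  have h4 : orderOf x ∣ orderOf (pr t) * Nat.gcd n (Fintype.card F - 1) :=
    (orderOf_root_dvd (ρ := ρ F n) t x hx).trans h3
  set d := Nat.gcd n (Fintype.card F - 1)
  set g := Nat.gcd (orderOf x) d
  have hg0 : 0 < g := Nat.gcd_pos_of_pos_left _ (by omega)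
  have h5 : orderOf x / g ∣ orderOf (pr t) := by
    have h6 : orderOf x / g ∣ orderOf (pr t) * (d / g) := by
      apply Nat.dvd_of_mul_dvd_mul_right hg0
      rw [mul_assoc, Nat.div_mul_cancel (Nat.gcd_dvd_left _ _), Nat.div_mul_cancel (Nat.gcd_dvd_right _ _)]
      exact h4
    exact (Nat.coprime_div_gcd_div_gcd hg0).dvd_of_dvd_mul_right h6
  exact HasOrd.of_dvd ⟨pr t, rfl⟩ (h2.trans h5) (orderOf_pos _).ne'

/-- orders from the first torus -/
theorem ho_one (hn : 2 ≤ n) {m : ℕ} (h : m ∣ ((Fintype.card F ^ n - 1) / (Fintype.card F - 1)) /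
      Nat.gcd ((Fintype.card F ^ n - 1) / (Fintype.card F - 1)) (Nat.gcd n (Fintype.card F - 1))) :
    HasOrd (ProjectiveSpecialLinearGroup (Fin n) F) m := by
  obtain ⟨K, _, _, t, x, hx, ho⟩ := Singer.sl_one (F := F) n (by omega)
  have hT := Num.T_le (q := Fintype.card F) (n := n) Fintype.one_lt_card (by omega)
  have h1 : 1 ≤ Fintype.card F ^ (n - 1) := Nat.one_le_pow _ _ Fintype.card_pos
  exact hasOrd_of_root (by omega) t x hx (by rw [ho]; omega) (by rw [ho]; exact h)

/-- orders from the second torus -/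
theorem ho_two (hn : 2 ≤ n) {m : ℕ} (h : m ∣ (Fintype.card F ^ (n - 1) - 1) /
      Nat.gcd (Fintype.card F ^ (n - 1) - 1) (Nat.gcd n (Fintype.card F - 1))) :
    HasOrd (ProjectiveSpecialLinearGroup (Fin n) F) m := by
  obtain ⟨k, rfl⟩ : ∃ k, n = k + 1 := ⟨n - 1, by omega⟩
  obtain ⟨K, _, _, t, x, hx, ho⟩ := Singer.sl_two (F := F) k (by omega)
  have hq : 2 ≤ Fintype.card F := Fintype.one_lt_card
  have h1 : 2 ^ 1 ≤ Fintype.card F ^ k := (Nat.pow_le_pow_right (by norm_num) (by omega)).trans
    (Nat.pow_le_pow_left hq k)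
  rw [Nat.add_sub_cancel] at h
  exact hasOrd_of_root (by omega) t x hx (by rw [ho]; omega) (by rw [ho]; exact h)

/-- prime orders -/
theorem ho_prime (hn : 1 ≤ n) {s : ℕ} (hs : s.Prime) (h : s * Nat.gcd n (Fintype.card F - 1) ∣
      Fintype.card F * Num.NN (Fintype.card F) n) (hn2 : 2 ≤ n) :
    HasOrd (ProjectiveSpecialLinearGroup (Fin n) F) s := by
  have : Finite (SpecialLinearGroup (Fin n) F) := PslCharpoly.finite_SL _
  have : Finite (ProjectiveSpecialLinearGroup (Fin n) F) := Quotient.finite _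
  refine hasOrd_prime hs ?_
  have h1 : Nat.card (SpecialLinearGroup (Fin n) F) =
      Nat.card (ProjectiveSpecialLinearGroup (Fin n) F) * Nat.gcd n (Fintype.card F - 1) := by
    have h2 := Subgroup.card_eq_card_quotient_mul_card_subgroup (Subgroup.center (SpecialLinearGroup (Fin n) F))
    rw [PslCharpoly.card_center (F := F) n hn, Nat.card_eq_fintype_card (α := F)] at h2
    exact h2
  have hg : 0 < Nat.gcd n (Fintype.card F - 1) := Nat.gcd_pos_of_pos_left _ (by omega)
  apply Nat.dvd_of_mul_dvd_mul_right hg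
  rw [← h1, H953.card_SL n hn, ← Num.NN_eq _ _ hn]
  refine h.trans (Nat.mul_dvd_mul_right (dvd_pow_self _ ?_) _)
  intro h0
  have h3 := Finset.single_le_sum (s := Finset.range n) (f := fun i => i) (fun i _ => Nat.zero_le _)
    (Finset.mem_range.2 (show 1 < n by omega))
  omega

/-- the exceptional pairs for `n ≥ 3` -/
theorem exc_case {r f p : ℕ} (hF : Fintype.card F = r ^ f) (hr : r.Prime) (hf : 1 ≤ f) (hp : p.Prime)
    (h : (n, r, f, p) ∈ Num.excL) : MO (Reg p) p (ProjectiveSpecialLinearGroup (Fin n) F) := by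
  simp only [Num.excL, List.mem_cons, Prod.mk.injEq, List.not_mem_nil, or_false] at h
  rcases h with ⟨rfl, rfl, rfl, rfl⟩ | ⟨rfl, rfl, rfl, rfl⟩ | ⟨rfl, rfl, rfl, rfl⟩ | ⟨rfl, rfl, rfl, rfl⟩ |
    ⟨rfl, rfl, rfl, rfl⟩ | ⟨rfl, rfl, rfl, rfl⟩ | ⟨rfl, rfl, rfl, rfl⟩ | ⟨rfl, rfl, rfl, rfl⟩ | ⟨rfl, rfl, rfl, rfl⟩
  · -- `L₃(7)`, `p = 7`
    refine MO.of_orders {1, 2, 3, 4, 8, 16, 19} ?_ (by decide) (by decide)
    simp only [Finset.mem_insert, Finset.mem_singleton, forall_eq_or_imp, forall_eq]
    exact ⟨hasOrd_one _, ho_two (by norm_num) (by rw [hF]; decide), ho_prime (by norm_num) (by norm_num)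
      (by rw [hF]; decide) (by norm_num), ho_two (by norm_num) (by rw [hF]; decide),
      ho_two (by norm_num) (by rw [hF]; decide), ho_two (by norm_num) (by rw [hF]; decide),
      ho_one (by norm_num) (by rw [hF]; decide)⟩
  · -- `L₃(8)`, `p = 7`
    refine MO.finish (s := 73) (a := 4) {1, 2, 3, 9} ?_ (by decide)
      (MO_s_one (a := 1) (N := 73) (by norm_num) hr hf hF (by norm_num) (by rw [hF]; decide) (by norm_num) hp
        (by decide) (by rw [hF]; decide) (by decide) (by decide) (by rw [hF]; decide)) (by decide)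
    simp only [Finset.mem_insert, Finset.mem_singleton, forall_eq_or_imp, forall_eq]
    exact ⟨hasOrd_one _, ho_prime (by norm_num) (by norm_num) (by rw [hF]; decide) (by norm_num),
      ho_two (by norm_num) (by rw [hF]; decide), ho_two (by norm_num) (by rw [hF]; decide)⟩
  · -- `L₃(13)`, `p = 13`
    refine MO.finish (s := 61) (a := 10) {1, 2, 7} ?_ (by decide)
      (MO_s_one (a := 1) (N := 183) (by norm_num) hr hf hF (by norm_num) (by rw [hF]; decide) (by norm_num) hp
        (by decide) (by rw [hF]; decide) (by decide) (by decide) (by rw [hF]; decide)) (by decide)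
    simp only [Finset.mem_insert, Finset.mem_singleton, forall_eq_or_imp, forall_eq]
    exact ⟨hasOrd_one _, ho_prime (by norm_num) (by norm_num) (by rw [hF]; decide) (by norm_num),
      ho_prime (by norm_num) (by norm_num) (by rw [hF]; decide) (by norm_num)⟩
  · -- `L₃(16)`, `p = 5`
    refine MO.of_orders {1, 2, 7, 13, 17} ?_ (by decide) (by decide)
    simp only [Finset.mem_insert, Finset.mem_singleton, forall_eq_or_imp, forall_eq]
    exact ⟨hasOrd_one _, ho_prime (by norm_num) (by norm_num) (by rw [hF]; decide) (by norm_num),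
      ho_prime (by norm_num) (by norm_num) (by rw [hF]; decide) (by norm_num),
      ho_prime (by norm_num) (by norm_num) (by rw [hF]; decide) (by norm_num),
      ho_prime (by norm_num) (by norm_num) (by rw [hF]; decide) (by norm_num)⟩
  · -- `L₄(4)`, `p = 5`
    refine MO.of_orders {1, 2, 3, 7, 17} ?_ (by decide) (by decide)
    simp only [Finset.mem_insert, Finset.mem_singleton, forall_eq_or_imp, forall_eq]
    exact ⟨hasOrd_one _, ho_prime (by norm_num) (by norm_num) (by rw [hF]; decide) (by norm_num),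
      ho_prime (by norm_num) (by norm_num) (by rw [hF]; decide) (by norm_num),
      ho_prime (by norm_num) (by norm_num) (by rw [hF]; decide) (by norm_num),
      ho_prime (by norm_num) (by norm_num) (by rw [hF]; decide) (by norm_num)⟩
  · -- `L₅(3)`, `p = 11`
    refine MO.of_orders {1, 2, 3, 4, 5, 8, 10, 13, 16, 20, 40, 80} ?_ (by decide) (by decide)
    simp only [Finset.mem_insert, Finset.mem_singleton, forall_eq_or_imp, forall_eq]
    exact ⟨hasOrd_one _, ho_two (by norm_num) (by rw [hF]; decide),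
      ho_prime (by norm_num) (by norm_num) (by rw [hF]; decide) (by norm_num),
      ho_two (by norm_num) (by rw [hF]; decide), ho_two (by norm_num) (by rw [hF]; decide),
      ho_two (by norm_num) (by rw [hF]; decide), ho_two (by norm_num) (by rw [hF]; decide),
      ho_prime (by norm_num) (by norm_num) (by rw [hF]; decide) (by norm_num),
      ho_two (by norm_num) (by rw [hF]; decide), ho_two (by norm_num) (by rw [hF]; decide),
      ho_two (by norm_num) (by rw [hF]; decide), ho_two (by norm_num) (by rw [hF]; decide)⟩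
  · -- `L₆(2)`, `p = 7`
    refine MO.finish (s := 31) (a := 3) {1, 2, 3, 5} ?_ (by decide)
      (MO_s_two (a := 1) (N := 31) (by norm_num) hr hf hF (by norm_num) (by rw [hF]; decide) (by norm_num) hp
        (by decide) (by rw [hF]; decide) (by decide) (by decide) (by rw [hF]; decide)) (by decide)
    simp only [Finset.mem_insert, Finset.mem_singleton, forall_eq_or_imp, forall_eq]
    exact ⟨hasOrd_one _, ho_prime (by norm_num) (by norm_num) (by rw [hF]; decide) (by norm_num),
      ho_prime (by norm_num) (by norm_num) (by rw [hF]; decide) (by norm_num),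
      ho_prime (by norm_num) (by norm_num) (by rw [hF]; decide) (by norm_num)⟩
  · -- `L₆(3)`, `p = 13`
    refine MO.finish (s := 11) (a := 10) {1, 2, 3} ?_ (by decide)
      (MO_s_two (a := 2) (N := 242) (by norm_num) hr hf hF (by norm_num) (by rw [hF]; decide) (by norm_num) hp
        (by decide) (by rw [hF]; decide) (by decide) (by decide) (by rw [hF]; decide)) (by decide)
    simp only [Finset.mem_insert, Finset.mem_singleton, forall_eq_or_imp, forall_eq]
    exact ⟨hasOrd_one _, ho_prime (by norm_num) (by norm_num) (by rw [hF]; decide) (by norm_num),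
      ho_prime (by norm_num) (by norm_num) (by rw [hF]; decide) (by norm_num)⟩
  · -- `L₁₀(2)`, `p = 31`
    refine MO.finish (s := 73) (a := 26) {1, 2, 3, 5, 7} ?_ (by decide)
      (MO_s_two (a := 1) (N := 511) (by norm_num) hr hf hF (by norm_num) (by rw [hF]; decide) (by norm_num) hp
        (by decide) (by rw [hF]; decide) (by decide) (by decide) (by rw [hF]; decide)) (by decide)
    simp only [Finset.mem_insert, Finset.mem_singleton, forall_eq_or_imp, forall_eq]
    exact ⟨hasOrd_one _, ho_prime (by norm_num) (by norm_num) (by rw [hF]; decide) (by norm_num),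
      ho_prime (by norm_num) (by norm_num) (by rw [hF]; decide) (by norm_num),
      ho_prime (by norm_num) (by norm_num) (by rw [hF]; decide) (by norm_num),
      ho_prime (by norm_num) (by norm_num) (by rw [hF]; decide) (by norm_num)⟩

/-- **the row of `PSL_n(q)`, `n ≥ 3`** -/
theorem row_three (hn : 3 ≤ n) {r f : ℕ} (hF : Fintype.card F = r ^ f) (hr : r.Prime) (hf : 1 ≤ f) :
    Row (ProjectiveSpecialLinearGroup (Fin n) F) := by
  have hq : 2 ≤ r ^ f := hF ▸ Fintype.one_lt_card
  rcases Num.big_or_small hn hr hf with h | h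
  · exact row_big hn hr hf hF (by rw [hF]; exact h)
  · intro p hp h5 hd
    have hc := cases_of_sq_dvd (by omega) hp hd
    rw [hF] at hc
    rcases Num.small_case h hn hq hp h5 hc with h1 | h1
    · exact exc_case hF hr hf hp h1
    · exact MO_of_ineq hn hr hf hF hp (by rw [hF]; exact h1)

/-- **the row of `PSL_2(q)`** -/
theorem row_two {r f : ℕ} (hF : Fintype.card F = r ^ f) (hr : r.Prime) (hf : 1 ≤ f) :
    Row (ProjectiveSpecialLinearGroup (Fin 2) F) := by
  have hq : 2 ≤ r ^ f := hF ▸ Fintype.one_lt_card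
  have hfin : Finite (SpecialLinearGroup (Fin 2) F) := PslCharpoly.finite_SL _
  have : Finite (F ≃+* F) := Finite.of_injective (fun e => (e : F → F)) DFunLike.coe_injective
  intro p hp h5 hd
  have hc : p ^ 2 ∣ r ^ f ∨ p ^ 2 ∣ (r ^ f) ^ 2 - 1 := by
    have h1 := hd.trans (card_psl_dvd (F := F) (n := 2) (by norm_num))
    rw [hF] at h1
    have h2 : (∑ i ∈ Finset.range 2, i) = 1 := by decide
    have h3 : (∏ j ∈ Finset.Icc 2 2, ((r ^ f) ^ j - 1)) = (r ^ f) ^ 2 - 1 := by simp
    rw [h2, h3, pow_one] at h1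
    by_cases h4 : p ∣ r ^ f
    · left
      refine (Nat.Coprime.pow_left 2 ((Nat.Prime.coprime_iff_not_dvd hp).2 fun h5' => ?_)).dvd_of_dvd_mul_right h1
      have h6 : p ∣ (r ^ f) ^ 2 - ((r ^ f) ^ 2 - 1) := Nat.dvd_sub (h4.trans (dvd_pow_self _ (by norm_num))) h5'
      have h7 : 1 ≤ (r ^ f) ^ 2 := Nat.one_le_pow _ _ (by omega)
      rw [show (r ^ f) ^ 2 - ((r ^ f) ^ 2 - 1) = 1 by omega] at h6
      exact hp.one_lt.ne' (Nat.dvd_one.1 h6)
    · right
      exact (Nat.Coprime.pow_left 2 ((Nat.Prime.coprime_iff_not_dvd hp).2 h4)).dvd_of_dvd_mul_left h1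
  have hI : (p = 5 ∧ r ^ f = 25) ∨ Num.Ineq2 (r ^ f) f p := by
    rcases Num.big_or_small2 hr hf with h | h
    · exact Or.inr (Num.psl2_big hp h5 h hc)
    · exact Num.small_case2 h hq hp h5 hc
  rcases hI with ⟨rfl, h25⟩ | hI
  · refine MO.of_orders {1, 2, 3, 4, 13} ?_ (by decide) (by decide)
    simp only [Finset.mem_insert, Finset.mem_singleton, forall_eq_or_imp, forall_eq]
    exact ⟨hasOrd_one _, ho_two (by norm_num) (by rw [hF, h25]; decide),
      ho_two (by norm_num) (by rw [hF, h25]; decide), ho_two (by norm_num) (by rw [hF, h25]; decide),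
      ho_one (by norm_num) (by rw [hF, h25]; decide)⟩
  · have := Fact.mk hr
    have hW : Fintype.card (Fin 2) * Nat.card (Subgroup.center (SpecialLinearGroup (Fin 2) F) × (F ≃+* F)) =
        Num.K2 (r ^ f) f := by
      rw [Nat.card_prod, PslCharpoly.card_center 2 (by norm_num), Lib.FieldAutCard.card_ringAut hf hF,
        Fintype.card_fin, Nat.card_eq_fintype_card (α := F), hF]
      rfl
    rcases hI with ⟨h1, h2⟩ | ⟨h1, h2⟩
    · obtain ⟨K, _, _, t, x, hx, ho⟩ := Singer.sl_one (F := F) 2 (by norm_num)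
      have ho' : orderOf x = r ^ f + 1 := by
        rw [ho, hF]
        have h3 := Nat.sq_sub_sq (r ^ f) 1
        rw [one_pow] at h3
        rw [h3, Nat.mul_div_cancel _ (by omega)]
      refine MO.of_root' hp ctl_two t x hx ?_
      rw [hW, ho', Nat.factorization_eq_zero_of_not_dvd h1, pow_zero, mul_one]
      exact h2
    · obtain ⟨K, _, _, t, x, hx, ho⟩ := Singer.sl_two (F := F) 1 (by norm_num)
      rw [pow_one, hF] at ho
      refine MO.of_root' hp ctl_two t x hx ?_
      rw [hW, ho, Nat.factorization_eq_zero_of_not_dvd h1, pow_zero, mul_one]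
      exact h2

/-- **the row of `PSL_n(q)`** -/
theorem row (hn : 2 ≤ n) : Row (ProjectiveSpecialLinearGroup (Fin n) F) := by
  obtain ⟨p, _⟩ := CharP.exists F
  obtain ⟨f, hpr, hf⟩ := FiniteField.card F p
  by_cases h : n = 2
  · subst h
    exact row_two hf hpr f.2
  · exact row_three (by omega) hf hpr f.2

end Psl

end Cfsg.Agent.H93.PReg
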