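import Cfsg.Agent.H93.PReg.TorusS

/-!
# Element orders in quotients, combining counts (for S4883)
-/

set_option autoImplicit false

namespace Cfsg.Agent.H93.PReg

open Cfsg.Agent.H92.KTools Polynomial

/-- orders in a quotient by a kernel of exponent `d` -/
theorem hasOrd_of_ker {S H : Type*} [Group S] [Group H] [Finite S] (π : H →* S) {d m : ℕ} (t : H)
    (hker : ∀ g : H, π g = 1 → g ^ d = 1) (h0 : orderOf t ≠ 0)
    (h : m ∣ orderOf t / Nat.gcd (orderOf t) d) : HasOrd S m := by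
  have h4 : orderOf t ∣ orderOf (π t) * d := by
    apply orderOf_dvd_of_pow_eq_one
    rw [pow_mul]
    apply hker
    rw [map_pow, pow_orderOf_eq_one]
  set g := Nat.gcd (orderOf t) d
  have hg0 : 0 < g := Nat.gcd_pos_of_pos_left _ (by omega)
  have h5 : orderOf t / g ∣ orderOf (π t) := by
    have h6 : orderOf t / g ∣ orderOf (π t) * (d / g) := by
      apply Nat.dvd_of_mul_dvd_mul_right hg0
      rw [mul_assoc, Nat.div_mul_cancel (Nat.gcd_dvd_left _ _), Nat.div_mul_cancel (Nat.gcd_dvd_right _ _)]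
      exact h4
    exact (Nat.coprime_div_gcd_div_gcd hg0).dvd_of_dvd_mul_right h6
  exact HasOrd.of_dvd ⟨π t, rfl⟩ (h.trans h5) (orderOf_pos _).ne'

/-- a prime `s` and some further orders -/
theorem MO.finish' {S : Type*} [Group S] {p s a : ℕ} (L : Finset ℕ) (hL : ∀ k ∈ L, HasOrd S k)
    (hLs : ∀ k ∈ L, ¬ s ∣ k ∧ ¬ p ∣ k) (hMO : MO {m | s ∣ m ∧ ¬ p ∣ m} a S) (h : p ≤ a + L.card) :
    MO (Reg p) p S := by
  have h1 := MO.of_finset (A := {m | ¬ s ∣ m ∧ ¬ p ∣ m}) L hL hLs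
  have h2 := MO.add (A := {m | s ∣ m ∧ ¬ p ∣ m}) (B := {m | ¬ s ∣ m ∧ ¬ p ∣ m})
    (Set.disjoint_left.2 fun x hx hx' => hx'.1 hx.1) hMO h1
  refine h2.mono ?_ h
  rintro x (hx | hx)
  · exact hx.2
  · exact hx.2

theorem MO.of_orders' {S : Type*} [Group S] {p : ℕ} (L : Finset ℕ) (hL : ∀ k ∈ L, HasOrd S k)
    (hLs : ∀ k ∈ L, ¬ p ∣ k) (h : p ≤ L.card) : MO (Reg p) p S :=
  (MO.of_finset (A := Reg p) L hL hLs).mono subset_rfl h

end Cfsg.Agent.H93.PReg
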