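import Cfsg.Agent.H93.PReg.NumPslFin

/-!
# Arithmetic for `PSp_2m(q)` (for S4883)
-/

set_option autoImplicit false

namespace Cfsg.Agent.H93.PReg.Num

open Finset

/-- the index of the semilinear automorphisms -/
def oo (m r : ℕ) : ℕ := if m = 2 ∧ r = 2 then 2 else 1

/-- the constant `K = 2 m · d · f · o` -/
def KS (m q f r : ℕ) : ℕ := (m + m) * ((Nat.gcd 2 (q - 1) * f) * oo m r)

theorem not_dvd_both {p N : ℕ} (hp : p.Prime) (h5 : 5 ≤ p) (h : p ∣ N + 1) : ¬ p ∣ N - 1 := by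
  intro h1
  have h2 := Nat.dvd_sub h h1
  have h3 : N + 1 - (N - 1) ≤ 2 := by omega
  have h4 : 0 < N + 1 - (N - 1) := by omega
  have := Nat.le_of_dvd h4 h2
  omega

theorem sq_sub_eq (Q : ℕ) : Q ^ 2 - 1 = (Q + 1) * (Q - 1) := by
  have := Nat.sq_sub_sq Q 1
  simpa using this

/-- a divisor of `Q ^ 2 - 1` -/
theorem le_of_dvd_sq_sub {p Q : ℕ} (hp : p.Prime) (hQ : 2 ≤ Q) (h : p ∣ Q ^ 2 - 1) : p ≤ Q + 1 := by
  rw [sq_sub_eq] at h
  rcases hp.dvd_mul.1 h with h | h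
  · exact Nat.le_of_dvd (by omega) h
  · have := Nat.le_of_dvd (by omega) h
    omega

theorem sq_le_of_dvd_sq_sub {p Q : ℕ} (hp : p.Prime) (h5 : 5 ≤ p) (hQ : 2 ≤ Q) (h : p ^ 2 ∣ Q ^ 2 - 1) :
    p ^ 2 ≤ Q + 1 := by
  rw [sq_sub_eq] at h
  by_cases h1 : p ∣ Q + 1
  · have h2 := not_dvd_both hp h5 h1
    have h3 : Nat.Coprime (p ^ 2) (Q - 1) := Nat.Coprime.pow_left _ ((Nat.Prime.coprime_iff_not_dvd hp).2 h2)
    exact Nat.le_of_dvd (by omega) (h3.dvd_of_dvd_mul_right h)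
  · have h3 : Nat.Coprime (p ^ 2) (Q + 1) := Nat.Coprime.pow_left _ ((Nat.Prime.coprime_iff_not_dvd hp).2 h1)
    have := Nat.le_of_dvd (by omega) (h3.dvd_of_dvd_mul_left h)
    omega

theorem sq_pred_le {p X : ℕ} (hp : 1 ≤ p) (h : p ^ 2 ≤ X + 1) : (p - 1) ^ 2 ≤ X := by
  obtain ⟨a, rfl⟩ : ∃ a, p = a + 1 := ⟨p - 1, by omega⟩
  rw [Nat.add_sub_cancel]
  nlinarith

/-- **the bound for `p`** in a product of `q ^ (2 i) - 1`, `1 ≤ i ≤ m` -/
theorem psp_sq_le {p q m : ℕ} (hp : p.Prime) (h5 : 5 ≤ p) (hq : 2 ≤ q)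
    (h : p ^ 2 ∣ ∏ i ∈ range m, (q ^ (2 * (i + 1)) - 1)) : (p - 1) ^ 2 ≤ q ^ m := by
  have hmono : ∀ i, i ≤ m → q ^ i ≤ q ^ m := fun i hi => Nat.pow_le_pow_right (by omega) hi
  rcases sq_dvd_prod hp _ _ h with ⟨i, hi, hpi⟩ | ⟨i, hi, j, hj, hij, hpi, hpj⟩
  · rw [mem_range] at hi
    rw [mul_comm 2, pow_mul] at hpi
    have h1 : q ^ 1 ≤ q ^ (i + 1) := Nat.pow_le_pow_right (by omega) (by omega)
    have h2 := sq_le_of_dvd_sq_sub hp h5 (by rw [pow_one] at h1; omega) hpi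
    have h3 := hmono (i + 1) (by omega)
    exact sq_pred_le hp.pos (by omega)
  · rw [mem_range] at hi hj
    have hg := dvd_gcd (by omega) hpi hpj
    rw [Nat.gcd_mul_left] at hg
    have he0 : 0 < Nat.gcd (i + 1) (j + 1) := Nat.gcd_pos_of_pos_left _ (by omega)
    have h2e : 2 * Nat.gcd (i + 1) (j + 1) ≤ m := by
      obtain ⟨u, hu⟩ := Nat.gcd_dvd_left (i + 1) (j + 1)
      obtain ⟨v, hv⟩ := Nat.gcd_dvd_right (i + 1) (j + 1)
      have hu0 : u ≠ 0 := by rintro rfl; omega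
      have hv0 : v ≠ 0 := by rintro rfl; omega
      have huv : u ≠ v := by
        intro huv
        have : i + 1 = j + 1 := hu.trans ((congrArg (Nat.gcd (i + 1) (j + 1) * ·) huv).trans hv.symm)
        omega
      rcases lt_or_gt_of_ne huv with hlt | hlt
      · have : 2 ≤ v := by omega
        have := Nat.mul_le_mul_left (Nat.gcd (i + 1) (j + 1)) this
        omega
      · have : 2 ≤ u := by omega
        have := Nat.mul_le_mul_left (Nat.gcd (i + 1) (j + 1)) this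
        omega
    set e := Nat.gcd (i + 1) (j + 1)
    rw [mul_comm 2, pow_mul] at hg
    have h1 : q ^ 1 ≤ q ^ e := Nat.pow_le_pow_right (by omega) he0
    have h2 := le_of_dvd_sq_sub hp (by rw [pow_one] at h1; omega) hg
    calc (p - 1) ^ 2 ≤ (q ^ e) ^ 2 := Nat.pow_le_pow_left (by omega) 2
      _ = q ^ (2 * e) := by rw [← pow_mul, mul_comm]
      _ ≤ q ^ m := hmono _ h2e

theorem sq_le_of_dvd {p q m : ℕ} (hq : 2 ≤ q) (hm : 2 ≤ m) (h : p ∣ q) : (p - 1) ^ 2 ≤ q ^ m := by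
  have h1 : p ≤ q := Nat.le_of_dvd (by omega) h
  exact (Nat.pow_le_pow_left (by omega) 2).trans (Nat.pow_le_pow_right (by omega) hm)

theorem key_sp {a K T : ℕ} (ha : a ^ 2 ≤ T) (hK : K ^ 2 + 2 ≤ T) : a * K < T - 1 := by
  by_contra h
  push Not at h
  have h1 : (T - 1) ^ 2 ≤ (a * K) ^ 2 := Nat.pow_le_pow_left h 2
  have h2 : (a * K) ^ 2 ≤ T * (T - 2) := by
    calc (a * K) ^ 2 = a ^ 2 * K ^ 2 := by ring
      _ ≤ T * K ^ 2 := Nat.mul_le_mul_right _ ha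
      _ ≤ T * (T - 2) := Nat.mul_le_mul_left _ (by omega)
  obtain ⟨u, rfl⟩ : ∃ u, T = u + 2 := ⟨T - 2, by omega⟩
  have h3 : (u + 2 - 1) ^ 2 = (u + 2) * (u + 2 - 2) + 1 := by
    rw [show u + 2 - 1 = u + 1 by omega, show u + 2 - 2 = u by omega]; ring
  omega

/-- the inequality for one of the two tori -/
def IneqS (p K Q : ℕ) : Prop := (¬ p ∣ Q + 1 ∧ (p - 1) * K < Q + 1) ∨ (¬ p ∣ Q - 1 ∧ (p - 1) * K < Q - 1)

theorem ineqS_of_lt {p K Q : ℕ} (hp : p.Prime) (h5 : 5 ≤ p) (h : (p - 1) * K < Q - 1) : IneqS p K Q := by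
  by_cases h1 : p ∣ Q + 1
  · exact Or.inr ⟨not_dvd_both hp h5 h1, h⟩
  · exact Or.inl ⟨h1, by omega⟩

/-! ### The finite check -/

theorem pow_two_big (m : ℕ) (hm : 12 ≤ m) : 16 * m ^ 2 + 2 ≤ 2 ^ m := by
  induction m, hm using Nat.le_induction with
  | base => norm_num
  | succ n hn ih =>
    rw [pow_succ 2 n]
    nlinarith

theorem f_le (f : ℕ) (hf : 1 ≤ f) : f ≤ 2 ^ (f - 1) := by
  obtain ⟨g, rfl⟩ : ∃ g, f = g + 1 := ⟨f - 1, by omega⟩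
  exact Nat.lt_pow_self (by norm_num)

theorem bigS_m {m q f : ℕ} (hm : 12 ≤ m) (hf : 1 ≤ f) (hq : 2 ^ f ≤ q) : 16 * m ^ 2 * f ^ 2 + 2 ≤ q ^ m := by
  have h1 : (2 ^ f) ^ m = 2 ^ m * (2 ^ (f - 1)) ^ m := by
    rw [← pow_mul, ← pow_mul, ← pow_add]
    congr 1
    obtain ⟨g, rfl⟩ : ∃ g, f = g + 1 := ⟨f - 1, by omega⟩
    rw [Nat.add_sub_cancel]
    ring
  have h2 : f ^ 2 ≤ (2 ^ (f - 1)) ^ m :=
    (Nat.pow_le_pow_left (f_le f hf) 2).trans (Nat.pow_le_pow_right (Nat.pow_pos (by norm_num)) (by omega))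
  have h3 := pow_two_big m hm
  have h4 : 1 ≤ f ^ 2 := Nat.one_le_pow _ _ hf
  calc 16 * m ^ 2 * f ^ 2 + 2 ≤ (16 * m ^ 2 + 2) * f ^ 2 := by nlinarith
    _ ≤ 2 ^ m * (2 ^ (f - 1)) ^ m := Nat.mul_le_mul h3 h2
    _ = (2 ^ f) ^ m := h1.symm
    _ ≤ q ^ m := Nat.pow_le_pow_left hq m

theorem bigS_base {m q f : ℕ} (hm : 2 ≤ m) (h4 : 4 ≤ q) (h : 64 * f ^ 2 + 2 ≤ q ^ 2) :
    16 * m ^ 2 * f ^ 2 + 2 ≤ q ^ m := by
  induction m, hm using Nat.le_induction with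
  | base => simpa using h
  | succ n hn ih =>
    rw [pow_succ q n]
    have h1 : (n + 1) ^ 2 ≤ 4 * n ^ 2 := by nlinarith
    have h2 := Nat.mul_le_mul_right (f ^ 2) (Nat.mul_le_mul_left 16 h1)
    calc 16 * (n + 1) ^ 2 * f ^ 2 + 2 ≤ 16 * (4 * n ^ 2) * f ^ 2 + 2 := by omega
      _ ≤ (16 * n ^ 2 * f ^ 2 + 2) * 4 := by
        have : 16 * (4 * n ^ 2) * f ^ 2 = 16 * n ^ 2 * f ^ 2 * 4 := by ring
        omega
      _ ≤ q ^ n * q := Nat.mul_le_mul ih h4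

theorem f_boundS (f : ℕ) (hf : 6 ≤ f) : 64 * f ^ 2 + 2 ≤ (2 ^ f) ^ 2 := by
  induction f, hf using Nat.le_induction with
  | base => norm_num
  | succ n hn ih =>
    have h1 : (2 ^ (n + 1)) ^ 2 = 4 * (2 ^ n) ^ 2 := by ring
    rw [h1]
    nlinarith

theorem KS_sq_le {m q f r : ℕ} (hm : 2 ≤ m) (hq : r = 2 → Nat.gcd 2 (q - 1) = 1) :
    KS m q f r ^ 2 ≤ 16 * m ^ 2 * f ^ 2 := by
  have h1 : Nat.gcd 2 (q - 1) * oo m r ≤ 2 := by
    unfold oo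
    split_ifs with h
    · rw [hq h.2]
    · rw [mul_one]
      exact Nat.gcd_le_left _ (by norm_num)
  have h2 : KS m q f r = (2 * m * f) * (Nat.gcd 2 (q - 1) * oo m r) := by
    unfold KS; ring
  rw [h2]
  calc ((2 * m * f) * (Nat.gcd 2 (q - 1) * oo m r)) ^ 2 ≤ ((2 * m * f) * 2) ^ 2 :=
        Nat.pow_le_pow_left (Nat.mul_le_mul_left _ h1) 2
    _ = 16 * m ^ 2 * f ^ 2 := by ring

/-- the small cases `(m, r, f)` -/
def smallS : List (ℕ × ℕ × ℕ) :=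
  [(2,2,1),(2,2,2),(2,2,3),(2,2,4),(2,2,5),(2,3,1),(2,3,2),(2,5,1),(2,7,1),(3,2,1),(3,2,2),(3,3,1),(3,5,1),
    (4,2,1),(4,2,2),(4,3,1),(5,2,1),(5,3,1),(6,2,1),(7,2,1),(8,2,1)]

theorem finite_checkS : ((List.range 10).all fun i => (List.range 9).all fun j => (List.range 5).all fun k =>
    !isP (j + 2) || decide (KS (i + 2) ((j + 2) ^ (k + 1)) (k + 1) (j + 2) ^ 2 + 2 ≤ ((j + 2) ^ (k + 1)) ^ (i + 2)) ||
      smallS.contains (i + 2, j + 2, k + 1)) = true := by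
  decide +kernel

/-- **the general inequality holds up to the small cases** -/
theorem big_or_smallS {m r f : ℕ} (hm : 2 ≤ m) (hr : r.Prime) (hf : 1 ≤ f) :
    KS m (r ^ f) f r ^ 2 + 2 ≤ (r ^ f) ^ m ∨ (m, r, f) ∈ smallS := by
  have hq2 : r = 2 → Nat.gcd 2 (r ^ f - 1) = 1 := by
    rintro rfl
    obtain ⟨g, rfl⟩ : ∃ g, f = g + 1 := ⟨f - 1, by omega⟩
    have h1 : 1 ≤ 2 ^ g := Nat.one_le_pow _ _ (by norm_num)
    have h2 : (2 ^ (g + 1) - 1) % 2 = 1 := by rw [pow_succ]; omega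
    rw [Nat.gcd_rec, h2]
    rfl
  have hK := KS_sq_le (m := m) (q := r ^ f) (f := f) (r := r) hm hq2
  have h2f : 2 ^ f ≤ r ^ f := Nat.pow_le_pow_left hr.two_le f
  by_cases h11 : 11 ≤ r
  · left
    have h1 : 11 * f ≤ r ^ f := by
      obtain ⟨g, rfl⟩ : ∃ g, f = g + 1 := ⟨f - 1, by omega⟩
      have h2 : g + 1 ≤ 11 ^ g := Nat.succ_le_of_lt (Nat.lt_pow_self (by norm_num))
      calc 11 * (g + 1) ≤ 11 * 11 ^ g := Nat.mul_le_mul_left _ h2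
        _ = 11 ^ (g + 1) := by ring
        _ ≤ r ^ (g + 1) := Nat.pow_le_pow_left h11 _
    have := bigS_base (m := m) (q := r ^ f) (f := f) hm (by omega) (by nlinarith)
    omega
  by_cases h6 : 6 ≤ f
  · left
    have h1 := (f_boundS f h6).trans (Nat.pow_le_pow_left h2f 2)
    have h2 : 2 ^ 6 ≤ 2 ^ f := Nat.pow_le_pow_right (by norm_num) h6
    have := bigS_base (m := m) (q := r ^ f) (f := f) hm (by omega) h1
    omega
  by_cases h12 : 12 ≤ m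
  · left
    have := bigS_m h12 hf h2f
    omega
  have h1 := finite_checkS
  rw [List.all_eq_true] at h1
  have h2 := h1 (m - 2) (List.mem_range.2 (by omega))
  rw [List.all_eq_true] at h2
  have hr2 := hr.two_le
  have h3 := h2 (r - 2) (List.mem_range.2 (by omega))
  rw [List.all_eq_true] at h3
  have h4 := h3 (f - 1) (List.mem_range.2 (by omega))
  rw [show r - 2 + 2 = r by omega, show f - 1 + 1 = f by omega, show m - 2 + 2 = m by omega, isP_of_prime hr] at h4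
  simpa using h4

/-- `∏_{1 ≤ i ≤ m} (q ^ (2 i) - 1)` -/
def NS (q : ℕ) : ℕ → ℕ
  | 0 => 1
  | m + 1 => NS q m * (q ^ (2 * (m + 1)) - 1)

theorem NS_eq (q m : ℕ) : NS q m = ∏ i ∈ range m, (q ^ (2 * (i + 1)) - 1) := by
  induction m with
  | zero => rfl
  | succ n ih => rw [NS, ih, Finset.prod_range_succ]

/-- the exceptions `(m, r, f, p)` -/
def excS : List (ℕ × ℕ × ℕ × ℕ) :=
  [(2,2,1,5),(2,2,2,5),(2,2,3,7),(2,2,4,17),(2,2,5,31),(2,5,1,5),(4,2,1,5),(5,2,1,5),(6,2,1,7)]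

/-- the inequality in a decidable form -/
def chkS (p K Q : ℕ) : Bool := ((Q + 1) % p != 0 && Nat.blt ((p - 1) * K) (Q + 1)) ||
  ((Q - 1) % p != 0 && Nat.blt ((p - 1) * K) (Q - 1))

theorem chkS_sound {p K Q : ℕ} (h : chkS p K Q = true) : IneqS p K Q := by
  unfold chkS at h
  simp only [Bool.or_eq_true, Bool.and_eq_true, bne_iff_ne, ne_eq, Nat.blt_eq] at h
  rcases h with ⟨h1, h2⟩ | ⟨h1, h2⟩
  · exact Or.inl ⟨fun hd => h1 (Nat.mod_eq_zero_of_dvd hd), h2⟩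
  · exact Or.inr ⟨fun hd => h1 (Nat.mod_eq_zero_of_dvd hd), h2⟩

theorem small_checkS : (smallS.all fun x => Nat.blt ((x.2.1 ^ x.2.2) ^ x.1) 1100 &&
    (List.range 36).all fun p => Nat.blt p 5 || !isP p ||
      !((x.2.1 ^ x.2.2) % p == 0 || (NS (x.2.1 ^ x.2.2) x.1) % (p * p) == 0) ||
      excS.contains (x.1, x.2.1, x.2.2, p) || chkS p (KS x.1 (x.2.1 ^ x.2.2) x.2.2 x.2.1)
        ((x.2.1 ^ x.2.2) ^ x.1)) = true := by
  decide +kernel

/-- **the small cases** -/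
theorem small_caseS {m r f p : ℕ} (h : (m, r, f) ∈ smallS) (hm : 2 ≤ m) (hq : 2 ≤ r ^ f) (hp : p.Prime) (h5 : 5 ≤ p)
    (hd : p ∣ r ^ f ∨ p ^ 2 ∣ ∏ i ∈ range m, ((r ^ f) ^ (2 * (i + 1)) - 1)) :
    (m, r, f, p) ∈ excS ∨ IneqS p (KS m (r ^ f) f r) ((r ^ f) ^ m) := by
  have h1 := small_checkS
  rw [List.all_eq_true] at h1
  have h2 := h1 _ h
  simp only [Bool.and_eq_true, Nat.blt_eq, List.all_eq_true, List.mem_range] at h2
  obtain ⟨h3, h6⟩ := h2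
  have hp36 : p < 36 := by
    have h7 : (p - 1) ^ 2 ≤ (r ^ f) ^ m := by
      rcases hd with hd | hd
      · exact sq_le_of_dvd hq hm hd
      · exact psp_sq_le hp h5 hq hd
    by_contra hc
    push Not at hc
    have : 35 ^ 2 ≤ (p - 1) ^ 2 := Nat.pow_le_pow_left (by omega) 2
    omega
  have h7 := h6 p hp36
  simp only [Bool.or_eq_true, Nat.blt_eq, isP_of_prime hp, Bool.not_true, Bool.false_eq_true, or_false,
    Bool.not_eq_true', Bool.or_eq_false_iff, beq_eq_false_iff_ne, ne_eq] at h7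
  rcases h7 with ((h7 | h7) | h7) | h7
  · omega
  · exfalso
    rcases hd with hd | hd
    · exact h7.1 (Nat.mod_eq_zero_of_dvd hd)
    · rw [← NS_eq, pow_two] at hd
      exact h7.2 (Nat.mod_eq_zero_of_dvd hd)
  · left
    simpa using h7
  · right
    exact chkS_sound h7

end Cfsg.Agent.H93.PReg.Num
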