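import Cfsg.Agent.H93.PReg.PspTori
import Cfsg.Agent.H93.PReg.NumPsp
import Cfsg.Agent.H93.PReg.HasOrdKer

/-!
# The row of `PSp_2m(q)` (for S4883)
-/

set_option autoImplicit false
set_option linter.unusedSectionVars false

namespace Cfsg.Agent.H93.PReg.Psp

open Polynomial Matrix Cfsg.Agent.H93.PReg Cfsg Cfsg.Agent.H92.KTools

variable {F : Type} [Field F] [Fintype F] {m r f : ℕ}

theorem ker_pow (hm : 1 ≤ m) (g : symplecticGroup (Fin m) F) (h : pr F m g = 1) :
    g ^ Nat.gcd 2 (Fintype.card F - 1) = 1 := by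
  have h1 : g ∈ Subgroup.center (symplecticGroup (Fin m) F) := (QuotientGroup.eq_one_iff g).1 h
  have h2 := LieClassical.SympCenter.card_center (F := F) (m := m) hm
  have h3 := pow_card_eq_one' (x := (⟨g, h1⟩ : Subgroup.center (symplecticGroup (Fin m) F)))
  rw [h2] at h3
  exact congrArg Subtype.val h3

theorem MO_of_ineq (hr : r.Prime) (hf : 1 ≤ f) (hF : Fintype.card F = r ^ f) (hm : 2 ≤ m)
    (h22 : m = 2 → 3 ≤ r ^ f) {p n : ℕ} (hp : p.Prime)
    (h : (¬ p ∣ (r ^ f) ^ m + 1 ∧ (n - 1) * Num.KS m (r ^ f) f r < (r ^ f) ^ m + 1) ∨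
      (¬ p ∣ (r ^ f) ^ m - 1 ∧ (n - 1) * Num.KS m (r ^ f) f r < (r ^ f) ^ m - 1)) :
    MO (Reg p) n (PSp m F) := by
  have := finite_W (F := F) (m := m)
  have hW := card_W (F := F) hr hf hF hm h22
  rcases h with ⟨h1, h2⟩ | ⟨h1, h2⟩
  · obtain ⟨K, _, _, t, x, hx, ho, -⟩ := tor_plus (F := F) m (by omega)
    refine MO.of_root' hp ctl t x hx ?_
    rw [hW, ho, hF, Nat.factorization_eq_zero_of_not_dvd h1, pow_zero, mul_one]
    exact h2
  · obtain ⟨K, _, _, t, x, hx, ho, -⟩ := tor_minus (F := F) m (by omega)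
    refine MO.of_root' hp ctl t x hx ?_
    rw [hW, ho, hF, Nat.factorization_eq_zero_of_not_dvd h1, pow_zero, mul_one]
    exact h2

/-- the elements of order divisible by `s` in the torus of order `q^m + 1` -/
theorem MO_s_plus (hr : r.Prime) (hf : 1 ≤ f) (hF : Fintype.card F = r ^ f) (hm : 2 ≤ m)
    (h22 : m = 2 → 3 ≤ r ^ f) {p n s a N : ℕ} (hs : s.Prime) (hN : (r ^ f) ^ m + 1 = N)
    (hp : p.Prime) (hpN : ¬ p ∣ N) (hsc : ¬ s ∣ Nat.gcd 2 (r ^ f - 1)) (hsa : ¬ s ^ (a + 1) ∣ N) (hsa' : s ^ a ∣ N)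
    (h : (n - 1) * Num.KS m (r ^ f) f r < N - N / s ^ a) :
    MO {k | s ∣ k ∧ ¬ p ∣ k} n (PSp m F) := by
  have := finite_W (F := F) (m := m)
  have hW := card_W (F := F) hr hf hF hm h22
  obtain ⟨K, _, _, t, x, hx, ho, -⟩ := tor_plus (F := F) m (by omega)
  rw [hF, hN] at ho
  refine MO.of_root_s' ctl t hp hpN x hx ho (by omega) hs
    (fun g hg => ker_pow (by omega) g hg) (by rw [hF]; exact hsc) hsa hsa' ?_
  rw [hW, hF]
  exact h

theorem card_psp_dvd : Nat.card (PSp m F) ∣
    Fintype.card F ^ (m ^ 2) * ∏ i ∈ Finset.range m, (Fintype.card F ^ (2 * (i + 1)) - 1) := by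
  rw [← LieClassical.SympCount.card_symplecticGroup]
  exact Subgroup.card_quotient_dvd_card _

theorem cases_of_sq_dvd {p : ℕ} (hp : p.Prime) (hd : p ^ 2 ∣ Nat.card (PSp m F)) :
    p ∣ Fintype.card F ∨ p ^ 2 ∣ ∏ i ∈ Finset.range m, (Fintype.card F ^ (2 * (i + 1)) - 1) := by
  by_cases h : p ∣ Fintype.card F
  · exact Or.inl h
  · right
    have h1 := hd.trans (card_psp_dvd (F := F))
    refine (Nat.Coprime.dvd_of_dvd_mul_left ?_ h1)
    exact Nat.Coprime.pow _ _ ((Nat.Prime.coprime_iff_not_dvd hp).2 h)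

/-! ### Element orders -/

theorem ho_plus (hm : 1 ≤ m) {k : ℕ} (h : k ∣ (Fintype.card F ^ m + 1) /
      Nat.gcd (Fintype.card F ^ m + 1) (Nat.gcd 2 (Fintype.card F - 1))) : HasOrd (PSp m F) k := by
  have : Finite (PSp m F) := Quotient.finite _
  obtain ⟨K, _, _, t, x, hx, -, ho⟩ := tor_plus (F := F) m (by omega)
  exact hasOrd_of_ker (pr F m) t (fun g hg => ker_pow hm g hg) (by rw [ho]; omega) (by rw [ho]; exact h)

theorem ho_minus (hm : 1 ≤ m) {k : ℕ} (h : k ∣ (Fintype.card F ^ m - 1) /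
      Nat.gcd (Fintype.card F ^ m - 1) (Nat.gcd 2 (Fintype.card F - 1))) : HasOrd (PSp m F) k := by
  have : Finite (PSp m F) := Quotient.finite _
  obtain ⟨K, _, _, t, x, hx, -, ho⟩ := tor_minus (F := F) m (by omega)
  have hq : 2 ≤ Fintype.card F := Fintype.one_lt_card
  have h1 : 2 ^ 1 ≤ Fintype.card F ^ m := (Nat.pow_le_pow_right (by norm_num) hm).trans
    (Nat.pow_le_pow_left hq m)
  exact hasOrd_of_ker (pr F m) t (fun g hg => ker_pow hm g hg) (by rw [ho]; omega) (by rw [ho]; exact h)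

/-- prime orders -/
theorem ho_prime (hm : 1 ≤ m) {s : ℕ} (hs : s.Prime) (h : s * Nat.gcd 2 (Fintype.card F - 1) ∣
      Fintype.card F * Num.NS (Fintype.card F) m) : HasOrd (PSp m F) s := by
  have : Finite (PSp m F) := Quotient.finite _
  refine hasOrd_prime hs ?_
  have h1 := ClassicalGeometry.AutPSpCount.card_sp (F := F) hm
  have hg : 0 < Nat.gcd 2 (Fintype.card F - 1) := Nat.gcd_pos_of_pos_left _ (by norm_num)
  apply Nat.dvd_of_mul_dvd_mul_left hg
  rw [← h1, LieClassical.SympCount.card_symplecticGroup, ← Num.NS_eq, mul_comm]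
  refine h.trans (Nat.mul_dvd_mul_right (dvd_pow_self _ ?_) _)
  have := Nat.one_le_pow 2 m hm
  omega

/-- orders of blocks, even characteristic -/
theorem ho_block {a b i j k : ℕ} (hm : 1 ≤ m) (hab : a + b ≤ m) (A : symplecticGroup (Fin a) F)
    (hA : orderOf A = i) (B : symplecticGroup (Fin b) F) (hB : orderOf B = j) (h0 : Nat.lcm i j ≠ 0)
    (h : k ∣ Nat.lcm i j / Nat.gcd (Nat.lcm i j) (Nat.gcd 2 (Fintype.card F - 1))) : HasOrd (PSp m F) k := by
  have : Finite (PSp m F) := Quotient.finite _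
  obtain ⟨C, hC⟩ := H376.SpEmb.exists_block hab A hA B hB
  exact hasOrd_of_ker (pr F m) C (fun g hg => ker_pow hm g hg) (by rw [hC]; exact h0) (by rw [hC]; exact h)

/-- an element of order four in even characteristic -/
theorem exists_order_four (h2 : (2 : F) = 0) : ∃ g : symplecticGroup (Fin 2) F, orderOf g = 2 ^ (1 + 1) := by
  have h11 : (1 : F) + 1 = 0 := by rw [one_add_one_eq_two, h2]
  have hn : (-1 : F) = 1 := neg_eq_of_add_eq_zero_left h11
  refine ⟨⟨fromBlocks !![1, 1; 0, 1] !![0, 1; 0, 1] 0 !![1, 0; 1, 1], ?_⟩, ?_⟩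
  · rw [SymplecticGroup.fromBlocks_mem_iff]
    refine ⟨by simp, ?_, ?_⟩
    · ext i j
      fin_cases i <;> fin_cases j <;> simp [Matrix.mul_apply, Fin.sum_univ_two, h11]
    · ext i j
      fin_cases i <;> fin_cases j <;> simp [Matrix.mul_apply, Fin.sum_univ_two, h11]
  · apply orderOf_eq_prime_pow
    · intro h
      rw [pow_one, pow_two] at h
      have h3 := congrArg Subtype.val h
      have h4 : (fromBlocks !![1, 1; 0, 1] !![0, 1; 0, 1] 0 !![1, 0; 1, 1] *
        fromBlocks !![1, 1; 0, 1] !![0, 1; 0, 1] 0 !![1, 0; 1, 1] :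
          Matrix (Fin 2 ⊕ Fin 2) (Fin 2 ⊕ Fin 2) F) = 1 := h3
      rw [fromBlocks_multiply, ← fromBlocks_one, fromBlocks_inj] at h4
      have h5 := congrFun (congrFun h4.2.1 0) 0
      simp at h5
    · apply Subtype.ext
      show (fromBlocks !![1, 1; 0, 1] !![0, 1; 0, 1] 0 !![1, 0; 1, 1] :
        Matrix (Fin 2 ⊕ Fin 2) (Fin 2 ⊕ Fin 2) F) ^ 4 = 1
      rw [show (4 : ℕ) = 2 * 2 from rfl, pow_mul, pow_two (fromBlocks _ _ _ _), fromBlocks_multiply, pow_two,
        fromBlocks_multiply, ← fromBlocks_one, fromBlocks_inj]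
      refine ⟨?_, ?_, ?_, ?_⟩ <;>
      · ext i j
        fin_cases i <;> fin_cases j <;> simp [h11]

/-- the exceptional pairs -/
theorem exc_case {p : ℕ} (hr : r.Prime) (hf : 1 ≤ f) (hF : Fintype.card F = r ^ f) (hm : 2 ≤ m)
    (h22 : m = 2 → 3 ≤ r ^ f) (hp : p.Prime) (h : (m, r, f, p) ∈ Num.excS) : MO (Reg p) p (PSp m F) := by
  simp only [Num.excS, List.mem_cons, Prod.mk.injEq, List.not_mem_nil, or_false] at h
  rcases h with ⟨rfl, rfl, rfl, rfl⟩ | ⟨rfl, rfl, rfl, rfl⟩ | ⟨rfl, rfl, rfl, rfl⟩ | ⟨rfl, rfl, rfl, rfl⟩ |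
    ⟨rfl, rfl, rfl, rfl⟩ | ⟨rfl, rfl, rfl, rfl⟩ | ⟨rfl, rfl, rfl, rfl⟩ | ⟨rfl, rfl, rfl, rfl⟩ | ⟨rfl, rfl, rfl, rfl⟩
  · exact absurd (h22 rfl) (by norm_num)
  · -- `PSp₄(4)`, `p = 5`
    have h2 : (2 : F) = 0 := by
      have h4 : ((4 : ℕ) : F) = 0 := by
        have := FiniteField.cast_card_eq_zero F
        rwa [hF] at this
      have : (2 : F) * 2 = 0 := by
        rw [← h4]; norm_num
      exact mul_self_eq_zero.1 this
    obtain ⟨g, hg⟩ := exists_order_four h2
    refine MO.of_orders' {1, 2, 3, 4, 17} ?_ (by decide) (by decide)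
    simp only [Finset.mem_insert, Finset.mem_singleton, forall_eq_or_imp, forall_eq]
    exact ⟨hasOrd_one _, ho_prime (by norm_num) (by norm_num) (by rw [hF]; decide),
      ho_prime (by norm_num) (by norm_num) (by rw [hF]; decide),
      hasOrd_of_ker (pr F 2) g (fun x hx => ker_pow (by norm_num) x hx) (by rw [hg]; norm_num)
        (by rw [hg, hF]; decide),
      ho_prime (by norm_num) (by norm_num) (by rw [hF]; decide)⟩
  · -- `PSp₄(8)`, `p = 7`
    refine MO.of_orders' {1, 2, 3, 9, 5, 13, 65} ?_ (by decide) (by decide)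
    simp only [Finset.mem_insert, Finset.mem_singleton, forall_eq_or_imp, forall_eq]
    exact ⟨hasOrd_one _, ho_prime (by norm_num) (by norm_num) (by rw [hF]; decide),
      ho_minus (by norm_num) (by rw [hF]; decide), ho_minus (by norm_num) (by rw [hF]; decide),
      ho_plus (by norm_num) (by rw [hF]; decide), ho_plus (by norm_num) (by rw [hF]; decide),
      ho_plus (by norm_num) (by rw [hF]; decide)⟩
  · -- `PSp₄(16)`, `p = 17`
    have h2 : (2 : F) = 0 := by
      have h4 : ((16 : ℕ) : F) = 0 := by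
        have := FiniteField.cast_card_eq_zero F
        rwa [hF] at this
      have : (2 : F) ^ 4 = 0 := by
        rw [← h4]; norm_num
      exact (pow_eq_zero_iff (by norm_num)).1 this
    obtain ⟨g, hg⟩ := exists_order_four h2
    obtain ⟨-, -, -, A, -, -, -, hA⟩ := tor_minus (F := F) 1 one_ne_zero
    have hB : HasOrd (symplecticGroup (Fin 1) F) 2 := by
      refine hasOrd_prime Nat.prime_two ?_
      rw [LieClassical.SympCount.card_symplecticGroup, hF]
      exact ⟨8 * 255, by simp⟩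
    obtain ⟨B, hB⟩ := hB
    rw [hF, pow_one] at hA
    have hblk : ∀ k, k ∣ 30 → HasOrd (PSp 2 F) k := fun k hk =>
      ho_block (F := F) (m := 2) (a := 1) (b := 1) (k := k) (by norm_num) (by norm_num) A hA B hB (by decide)
        (by rw [hF]; exact hk)
    refine MO.finish' (s := 257) (a := 8) {1, 2, 3, 4, 5, 6, 10, 15, 30} ?_ (by decide)
      (MO_s_plus (a := 1) (N := 257) hr hf hF (by norm_num) (by norm_num) (by norm_num) (by norm_num) hp
        (by decide) (by decide) (by decide) (by decide) (by decide)) (by decide)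
    simp only [Finset.mem_insert, Finset.mem_singleton, forall_eq_or_imp, forall_eq]
    exact ⟨hasOrd_one _, hblk _ (by decide), hblk _ (by decide),
      hasOrd_of_ker (pr F 2) g (fun x hx => ker_pow (by norm_num) x hx) (by rw [hg]; norm_num)
        (by rw [hg, hF]; decide), hblk _ (by decide), hblk _ (by decide), hblk _ (by decide), hblk _ (by decide),
      hblk _ (by decide)⟩
  · -- `PSp₄(32)`, `p = 31`
    refine MO.finish' (s := 41) (a := 25) {1, 2, 3, 5, 11, 25} ?_ (by decide)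
      (MO_s_plus (a := 1) (N := 1025) hr hf hF (by norm_num) (by norm_num) (by norm_num) (by norm_num) hp
        (by decide) (by decide) (by decide) (by decide) (by decide)) (by decide)
    simp only [Finset.mem_insert, Finset.mem_singleton, forall_eq_or_imp, forall_eq]
    exact ⟨hasOrd_one _, ho_prime (by norm_num) (by norm_num) (by rw [hF]; decide),
      ho_minus (by norm_num) (by rw [hF]; decide), ho_plus (by norm_num) (by rw [hF]; decide),
      ho_minus (by norm_num) (by rw [hF]; decide), ho_plus (by norm_num) (by rw [hF]; decide)⟩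
  · -- `PSp₄(5)`, `p = 5`
    refine MO.of_orders' {1, 2, 3, 4, 6} ?_ (by decide) (by decide)
    simp only [Finset.mem_insert, Finset.mem_singleton, forall_eq_or_imp, forall_eq]
    exact ⟨hasOrd_one _, ho_minus (by norm_num) (by rw [hF]; decide), ho_minus (by norm_num) (by rw [hF]; decide),
      ho_minus (by norm_num) (by rw [hF]; decide), ho_minus (by norm_num) (by rw [hF]; decide)⟩
  · -- `Sp₈(2)`, `p = 5`
    refine MO.of_orders' {1, 2, 3, 7, 17} ?_ (by decide) (by decide)
    simp only [Finset.mem_insert, Finset.mem_singleton, forall_eq_or_imp, forall_eq]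
    exact ⟨hasOrd_one _, ho_prime (by norm_num) (by norm_num) (by rw [hF]; decide),
      ho_prime (by norm_num) (by norm_num) (by rw [hF]; decide),
      ho_prime (by norm_num) (by norm_num) (by rw [hF]; decide),
      ho_prime (by norm_num) (by norm_num) (by rw [hF]; decide)⟩
  · -- `Sp₁₀(2)`, `p = 5`
    refine MO.of_orders' {1, 2, 3, 7, 17} ?_ (by decide) (by decide)
    simp only [Finset.mem_insert, Finset.mem_singleton, forall_eq_or_imp, forall_eq]
    exact ⟨hasOrd_one _, ho_prime (by norm_num) (by norm_num) (by rw [hF]; decide),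
      ho_prime (by norm_num) (by norm_num) (by rw [hF]; decide),
      ho_prime (by norm_num) (by norm_num) (by rw [hF]; decide),
      ho_prime (by norm_num) (by norm_num) (by rw [hF]; decide)⟩
  · -- `Sp₁₂(2)`, `p = 7`
    refine MO.of_orders' {1, 2, 3, 5, 11, 13, 17} ?_ (by decide) (by decide)
    simp only [Finset.mem_insert, Finset.mem_singleton, forall_eq_or_imp, forall_eq]
    exact ⟨hasOrd_one _, ho_prime (by norm_num) (by norm_num) (by rw [hF]; decide),
      ho_prime (by norm_num) (by norm_num) (by rw [hF]; decide),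
      ho_prime (by norm_num) (by norm_num) (by rw [hF]; decide),
      ho_prime (by norm_num) (by norm_num) (by rw [hF]; decide),
      ho_prime (by norm_num) (by norm_num) (by rw [hF]; decide),
      ho_prime (by norm_num) (by norm_num) (by rw [hF]; decide)⟩

/-- **the row of `PSp_2m(q)`** -/
theorem row (hm : 2 ≤ m) (h22 : m = 2 → 3 ≤ Fintype.card F) : Row (PSp m F) := by
  obtain ⟨r, _⟩ := CharP.exists F
  obtain ⟨f, hr, hF⟩ := FiniteField.card F r
  have hf : 1 ≤ (f : ℕ) := f.2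
  rw [hF] at h22
  have hq : 2 ≤ r ^ (f : ℕ) := hF ▸ Fintype.one_lt_card
  intro p hp h5 hd
  have hc := cases_of_sq_dvd hp hd
  rw [hF] at hc
  rcases Num.big_or_smallS hm hr hf with h | h
  · refine MO_of_ineq hr hf hF hm h22 hp (Num.ineqS_of_lt hp h5 (Num.key_sp ?_ h))
    rcases hc with hc | hc
    · exact Num.sq_le_of_dvd hq hm hc
    · exact Num.psp_sq_le hp h5 hq hc
  · rcases Num.small_caseS h hm hq hp h5 hc with h1 | h1
    · exact exc_case hr hf hF hm h22 hp h1
    · exact MO_of_ineq hr hf hF hm h22 hp h1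

end Cfsg.Agent.H93.PReg.Psp
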