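import Cfsg.Agent.H93.PReg.Reduce
import Cfsg.Agent.H93.PReg.DFourRow
import Cfsg.Agent.H93.PReg.OOddRow
import Cfsg.Agent.H93.PReg.OMinusRow
import Cfsg.Agent.H93.PReg.PslRow
import Cfsg.Agent.H93.PReg.PspRow
import Cfsg.Agent.H93.PReg.Alt
import Cfsg.Agent.H541.PRegG2
import Cfsg.Agent.H541.PRegTD4
import Cfsg.Agent.H541.PRegSz
import Cfsg.Agent.H541.PRegRee
import Cfsg.Agent.H541.PRegTF4
import Cfsg.Agent.H92.PRegRows
import Cfsg.Agent.H52.PRegSpor
import Cfsg.Agent.H700.PsuRow.Main
import Cfsg.Agent.H700.SUThree16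

/-!
# The rows of all simple groups and the theorem on the number of `p`-regular classes (for S4883)
-/

set_option autoImplicit false

namespace Cfsg.Agent.H93.PReg.Main

open Cfsg Cfsg.Agent.H436 Cfsg.Agent.OrdDiv Cfsg.Agent.H93.PReg

universe u

/-- **the row of a simple group** other than `PSU_3(16)` -/
theorem row_of_named {S : Type u} [Group S] [Finite S] {g : Grp} (h : IsNamed g S) (h16 : g ≠ .psu 3 16) : Row S := by
  have hr := h.real
  have hc := h.cond
  cases g with
  | alt n =>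
    obtain ⟨e⟩ := hr
    exact (row_alt hc).congr e.symm
  | psl n q =>
    obtain ⟨F, _, _, -, ⟨e⟩⟩ := hr
    exact (Psl.row hc.1).congr e.symm
  | psp m q =>
    obtain ⟨F, _, _, hF, ⟨e⟩⟩ := hr
    exact (Psp.row hc.1 (fun h => hF ▸ hc.2.1 h)).congr e.symm
  | psu n q =>
    obtain ⟨F, _, _, hF, ⟨e⟩⟩ := hr
    refine (H700.PsuRow.row_psu hF hc.1 hc.2.1 ?_).congr e.symm
    rintro ⟨rfl, rfl⟩
    exact h16 rfl
  | oodd m q =>
    obtain ⟨F, _, _, hF, ⟨e⟩⟩ := hr
    exact (Orth.row_odd hc.1 (hF ▸ hc.2.1)).congr e.symm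
  | oplus m q =>
    obtain ⟨F, _, _, hF, ⟨e⟩⟩ := hr
    rcases Nat.lt_or_ge 4 m with h4 | h4
    · exact (Orth.row_plus_five h4).congr e.symm
    · obtain rfl : m = 4 := le_antisymm h4 hc.1
      exact Orth.row_plus_four.congr e.symm
  | ominus m q =>
    obtain ⟨F, _, _, a, b, hF, hab, ⟨e⟩⟩ := hr
    exact (Orth.row_minus hc.1 hab).congr e.symm
  | g2 q => exact H541.PRegG2.row_g2 h
  | f4 q => exact H92.PRegRows.row_f4 h
  | e6 q => exact H92.PRegRows.row_e6 h
  | e7 q => exact H92.PRegRows.row_e7 h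
  | e8 q => exact H92.PRegRows.row_e8 h
  | te6 q => exact H92.PRegRows.row_te6 h
  | td4 q => exact H541.PRegTD4.row_td4 h
  | sz q => exact H541.PRegSz.row_sz h
  | ree q => exact H541.PRegRee.row_ree h
  | tf4 q => exact H541.PRegTF4.row_tf4 h
  | tits => exact H52.PRegSpor.row_tits hr
  | _ => exact H52.PRegSpor.row_spor (by unfold IsSporadicGroup; simp only [OrdDiv.Real] at hr; tauto)

/-- **S4883** -/
theorem main {S : Type u} [Group S] [Finite S] [IsSimpleGroup S] (hS : ¬ IsMulCommutative S) (p : ℕ) [hp : Fact p.Prime]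
    (P : Sylow p S) (hP : ¬ IsCyclic (P : Subgroup S)) (G : Subgroup (MulAut S))
    (hG : (MulAut.conj : S →* MulAut S).range ≤ G) {g : Grp} (h : IsNamed g S) :
    p ≤ Nat.card {c : ConjClasses ↥G // ∃ g : ↥G, ConjClasses.mk g = c ∧ ¬ p ∣ orderOf g} := by
  by_cases h16 : g = .psu 3 16
  · subst h16
    obtain ⟨F, _, _, hF, ⟨e⟩⟩ := h.real
    by_cases h17 : p = 17
    · subst h17
      exact H700.SUThree16.main hF e G hG
    · by_cases h5 : 5 ≤ p
      · have hd := sq_dvd P hP
        have hmo := H700.PsuRow.mo_psu hF h.cond.1 h.cond.2.1 hp.out h5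
          (by rwa [← Nat.card_congr e.toEquiv]) (fun h => h17 h.2.2)
        have hZ : Subgroup.center S = ⊥ := by
          rcases (inferInstance : (Subgroup.center S).Normal).eq_bot_or_eq_top with h | h
          · exact h
          · exact absurd ⟨⟨fun a b => (Subgroup.mem_center_iff.1 (h ▸ Subgroup.mem_top b : b ∈ Subgroup.center S) a)⟩⟩ hS
        exact classes_of_MO hZ (hmo.congr e.symm) G hG
      · have hZ : Subgroup.center S = ⊥ := by
          rcases (inferInstance : (Subgroup.center S).Normal).eq_bot_or_eq_top with h | h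
          · exact h
          · exact absurd ⟨⟨fun a b => (Subgroup.mem_center_iff.1 (h ▸ Subgroup.mem_top b : b ∈ Subgroup.center S) a)⟩⟩ hS
        have h2 := hp.out.two_le
        have h4 : p ≠ 4 := by
          rintro rfl
          exact absurd hp.out (by norm_num)
        have h3 : p = 2 ∨ p = 3 := by omega
        rcases h3 with rfl | rfl
        · exact classes_of_MO hZ (MO_two hS) G hG
        · exact classes_of_MO hZ (MO_three hS) G hG
  · exact PReg.main hS (row_of_named h h16) p P hP G hG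

end Cfsg.Agent.H93.PReg.Main
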