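import Cfsg.Agent.H93.PReg.OrthCtl
import Cfsg.Agent.ClassicalGeometry.TrialityFinal

/-!
# Control of the automorphisms of `PΩ⁺₈(q)` (for S4883)
-/

set_option autoImplicit false
set_option linter.unusedSectionVars false

namespace Cfsg.Agent.H93.PReg.Orth

open QuadraticMap Cfsg.Agent.LieClassical.OrthCore Cfsg.Agent.LieClassical.OrthTrans
  Cfsg.Agent.LieClassical.OrthSimple Cfsg.Agent.AutOrth.SemiSim Cfsg.Agent.AutOrth.Main
  Cfsg.Agent.ClassicalGeometry.OrthAut1 Cfsg.Agent.LieClassical.QuadForms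
  Cfsg.Agent.LieClassical.OrthFinite Cfsg.Agent.LieClassical
open Polynomial Matrix Cfsg.Agent.H93.PReg Cfsg

variable {F : Type} [Field F] [Fintype F]

/-- **control** for `PΩ⁺₈(q)` -/
theorem ctl_four : ∃ B : Subgroup (MulAut (POmega F ⇑(plusForm 4 F))), B.index = 3 ∧
    Ctl (ρ ⇑(plusForm 4 F)) (pr ⇑(plusForm 4 F))
      ((Subgroup.center (Omega F ⇑(plusForm 4 F)) × (F ≃+* F)) × (MulAut (POmega F ⇑(plusForm 4 F)) ⧸ B)) := by
  have hG : Good (plusForm 4 F) := good_plus (by norm_num)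
  obtain ⟨Γ, hΓ, hind⟩ := Cfsg.Agent.ClassicalGeometry.TrialityFinal.exists_index_three hG
    fun α x hx hx0 => by
      rcases Cfsg.Agent.ClassicalGeometry.OrthAut3.dichotomy hG (by simp) α hx hx0 with h | h
      · exact Or.inl h
      · exact Or.inr h.2
  refine ⟨Γ.comap (MulAut.congr (pe hG)).toMonoidHom, ?_, ?_⟩
  · rw [Subgroup.index_comap_of_surjective _ (MulAut.congr (pe hG)).surjective, hind]
  · refine ctl_of_index _ (pr_surjective _)
      (fun w g => (ρ ⇑(plusForm 4 F) (g * w.1.1)).charpoly.map (w.2 : F →+* F)) charpoly_ok fun a ha g g' h => ?_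
    refine ctl_ind hG a ?_ g g' h
    rw [ind_iff_pt hG (by simp)]
    exact (hΓ _).1 ha

end Cfsg.Agent.H93.PReg.Orth
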