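import Cfsg.Agent.H93.PReg.NumPsp

/-!
# Arithmetic for the orthogonal groups in even dimension (for S4883)
-/

set_option autoImplicit false

namespace Cfsg.Agent.H93.PReg.Num

open Finset

/-- the constant `2 m · d · f · d` -/
def KO (m q f : ℕ) : ℕ := ((m + m) * (Nat.gcd 2 (q - 1) * f)) * Nat.gcd 2 (q - 1)

/-- the inequality for one of three tori -/
def IneqO (p K a b c : ℕ) : Prop :=
  (¬ p ∣ a ∧ (p - 1) * K < a) ∨ (¬ p ∣ b ∧ (p - 1) * K < b) ∨ (¬ p ∣ c ∧ (p - 1) * K < c)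

/-- **the big case** -/
theorem bigO {p K q m a : ℕ} (hp : p.Prime) (h5 : 5 ≤ p) (hq : 2 ≤ q) (hm : 2 ≤ m) (h : (p - 1) ^ 2 ≤ q ^ m)
    (hK : K ^ 2 + 2 ≤ q ^ (m - 2)) : IneqO p K a (q ^ (m - 1) + 1) (q ^ (m - 1) - 1) := by
  have key : (p - 1) * K < q ^ (m - 1) - 1 := by
    have h1 : q ^ (m - 2) * q ^ m = (q ^ (m - 1)) ^ 2 := by
      rw [← pow_add, ← pow_mul]
      congr 1
      omega
    have h2 : q ^ m = q * q ^ (m - 1) := by
      obtain ⟨n, rfl⟩ : ∃ n, m = n + 1 := ⟨m - 1, by omega⟩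
      rw [Nat.add_sub_cancel, pow_succ, mul_comm]
    set Q := q ^ (m - 1) with hQ
    have hQ1 : 2 ≤ Q := by
      calc 2 ≤ q ^ 1 := by rw [pow_one]; exact hq
        _ ≤ Q := Nat.pow_le_pow_right (by omega) (by omega)
    by_contra hcon
    push Not at hcon
    have h3 : (Q - 1) ^ 2 ≤ ((p - 1) * K) ^ 2 := Nat.pow_le_pow_left hcon 2
    have h4 : ((p - 1) * K) ^ 2 + 2 * q ^ m ≤ Q ^ 2 := by
      calc ((p - 1) * K) ^ 2 + 2 * q ^ m = (p - 1) ^ 2 * K ^ 2 + 2 * q ^ m := by ring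
        _ ≤ q ^ m * K ^ 2 + 2 * q ^ m := by
          have := Nat.mul_le_mul_right (K ^ 2) h
          omega
        _ = (K ^ 2 + 2) * q ^ m := by ring
        _ ≤ q ^ (m - 2) * q ^ m := Nat.mul_le_mul_right _ hK
        _ = Q ^ 2 := h1
    obtain ⟨R, hR⟩ : ∃ R, Q = R + 1 := ⟨Q - 1, by omega⟩
    rw [hR, Nat.add_sub_cancel] at h3
    rw [h2, hR] at h4
    have h5 : 2 * (2 * (R + 1)) ≤ 2 * (q * (R + 1)) :=
      Nat.mul_le_mul_left 2 (Nat.mul_le_mul_right _ hq)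
    nlinarith
  by_cases h1 : p ∣ q ^ (m - 1) + 1
  · exact Or.inr (Or.inr ⟨not_dvd_both hp h5 h1, key⟩)
  · exact Or.inr (Or.inl ⟨h1, by omega⟩)

/-! ### The finite check -/

theorem baseO {m q f c : ℕ} (hm : 4 ≤ m) (h4 : 4 ≤ q) (h : c * 16 * f ^ 2 + 2 ≤ q ^ 2) :
    c * m ^ 2 * f ^ 2 + 2 ≤ q ^ (m - 2) := by
  induction m, hm using Nat.le_induction with
  | base => simpa using h
  | succ n hn ih =>
    have h3 : q ^ (n + 1 - 2) = q ^ (n - 2) * q := by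
      obtain ⟨k, rfl⟩ : ∃ k, n = k + 2 := ⟨n - 2, by omega⟩
      rw [show k + 2 + 1 - 2 = k + 1 by omega, show k + 2 - 2 = k by omega, pow_succ]
    rw [h3]
    have h1 : (n + 1) ^ 2 ≤ 4 * n ^ 2 := by nlinarith
    have h2 := Nat.mul_le_mul_right (f ^ 2) (Nat.mul_le_mul_left c h1)
    calc c * (n + 1) ^ 2 * f ^ 2 + 2 ≤ c * (4 * n ^ 2) * f ^ 2 + 2 := by omega
      _ ≤ (c * n ^ 2 * f ^ 2 + 2) * 4 := by
        have : c * (4 * n ^ 2) * f ^ 2 = c * n ^ 2 * f ^ 2 * 4 := by ring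
        omega
      _ ≤ q ^ (n - 2) * q := Nat.mul_le_mul ih h4

theorem pow_three_bigO (m : ℕ) (hm : 10 ≤ m) : 64 * m ^ 2 + 2 ≤ 3 ^ (m - 2) := by
  induction m, hm using Nat.le_induction with
  | base => norm_num
  | succ n hn ih =>
    have h3 : 3 ^ (n + 1 - 2) = 3 ^ (n - 2) * 3 := by
      obtain ⟨k, rfl⟩ : ∃ k, n = k + 2 := ⟨n - 2, by omega⟩
      rw [show k + 2 + 1 - 2 = k + 1 by omega, show k + 2 - 2 = k by omega, pow_succ]
    rw [h3]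
    nlinarith

theorem pow_two_bigO (m : ℕ) (hm : 11 ≤ m) : 4 * m ^ 2 + 2 ≤ 2 ^ (m - 2) := by
  induction m, hm using Nat.le_induction with
  | base => norm_num
  | succ n hn ih =>
    have h3 : 2 ^ (n + 1 - 2) = 2 ^ (n - 2) * 2 := by
      obtain ⟨k, rfl⟩ : ∃ k, n = k + 2 := ⟨n - 2, by omega⟩
      rw [show k + 2 + 1 - 2 = k + 1 by omega, show k + 2 - 2 = k by omega, pow_succ]
    rw [h3]
    nlinarith

theorem bigO_m {m q f c s : ℕ} (hs : 2 ≤ s) (hm : 4 ≤ m) (hf : 1 ≤ f) (hq : s ^ f ≤ q)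
    (h : c * m ^ 2 + 2 ≤ s ^ (m - 2)) : c * m ^ 2 * f ^ 2 + 2 ≤ q ^ (m - 2) := by
  have h1 : (s ^ f) ^ (m - 2) = s ^ (m - 2) * (s ^ (f - 1)) ^ (m - 2) := by
    rw [← pow_mul, ← pow_mul, ← pow_add]
    congr 1
    obtain ⟨g, rfl⟩ : ∃ g, f = g + 1 := ⟨f - 1, by omega⟩
    rw [Nat.add_sub_cancel]
    ring
  have h2 : f ^ 2 ≤ (s ^ (f - 1)) ^ (m - 2) := by
    have h3 : f ≤ s ^ (f - 1) := (f_le f hf).trans (Nat.pow_le_pow_left hs _)
    exact (Nat.pow_le_pow_left h3 2).trans (Nat.pow_le_pow_right (Nat.pow_pos (by omega)) (by omega))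
  have h4 : 1 ≤ f ^ 2 := Nat.one_le_pow _ _ hf
  calc c * m ^ 2 * f ^ 2 + 2 ≤ (c * m ^ 2 + 2) * f ^ 2 := by nlinarith
    _ ≤ s ^ (m - 2) * (s ^ (f - 1)) ^ (m - 2) := Nat.mul_le_mul h h2
    _ = (s ^ f) ^ (m - 2) := h1.symm
    _ ≤ q ^ (m - 2) := Nat.pow_le_pow_left hq _

theorem KO_sq_le {m q f : ℕ} : KO m q f ^ 2 ≤ 64 * m ^ 2 * f ^ 2 := by
  have h1 : Nat.gcd 2 (q - 1) ≤ 2 := Nat.gcd_le_left _ (by norm_num)
  have h2 : Nat.gcd 2 (q - 1) * Nat.gcd 2 (q - 1) ≤ 2 * 2 := Nat.mul_le_mul h1 h1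
  have h3 : KO m q f = (2 * m * f) * (Nat.gcd 2 (q - 1) * Nat.gcd 2 (q - 1)) := by unfold KO; ring
  rw [h3]
  calc ((2 * m * f) * (Nat.gcd 2 (q - 1) * Nat.gcd 2 (q - 1))) ^ 2 ≤ ((2 * m * f) * (2 * 2)) ^ 2 :=
        Nat.pow_le_pow_left (Nat.mul_le_mul_left _ h2) 2
    _ = 64 * m ^ 2 * f ^ 2 := by ring

theorem gcd_two_pow {f : ℕ} (hf : 1 ≤ f) : Nat.gcd 2 (2 ^ f - 1) = 1 := by
  obtain ⟨g, rfl⟩ : ∃ g, f = g + 1 := ⟨f - 1, by omega⟩
  have h1 : 1 ≤ 2 ^ g := Nat.one_le_pow _ _ (by norm_num)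
  have h2 : (2 ^ (g + 1) - 1) % 2 = 1 := by rw [pow_succ]; omega
  rw [Nat.gcd_rec, h2]
  rfl

theorem KO_sq_two {m f : ℕ} (hf : 1 ≤ f) : KO m (2 ^ f) f ^ 2 = 4 * m ^ 2 * f ^ 2 := by
  unfold KO
  rw [gcd_two_pow hf]
  ring

theorem f_bound3 (f : ℕ) (hf : 5 ≤ f) : 64 * 16 * f ^ 2 + 2 ≤ (3 ^ f) ^ 2 := by
  induction f, hf using Nat.le_induction with
  | base => norm_num
  | succ n hn ih =>
    have h1 : (3 ^ (n + 1)) ^ 2 = 9 * (3 ^ n) ^ 2 := by ring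
    rw [h1]
    nlinarith

theorem f_bound2O (f : ℕ) (hf : 6 ≤ f) : 4 * 16 * f ^ 2 + 2 ≤ (2 ^ f) ^ 2 := by
  induction f, hf using Nat.le_induction with
  | base => norm_num
  | succ n hn ih =>
    have h1 : (2 ^ (n + 1)) ^ 2 = 4 * (2 ^ n) ^ 2 := by ring
    rw [h1]
    nlinarith

/-- the small cases `(m, r, f)` with a bound for `p` -/
def smallO : List ((ℕ × ℕ × ℕ) × ℕ) :=
  [((4,2,1),1), ((4,2,2),1), ((4,2,3),1), ((4,2,4),3), ((4,2,5),12), ((4,3,1),1), ((4,3,2),1), ((4,3,3),9),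
    ((4,3,4),73), ((4,5,1),1), ((4,5,2),7), ((4,7,1),1), ((4,7,2),27), ((4,11,1),2), ((4,13,1),2),
    ((4,17,1),4), ((4,19,1),5), ((4,23,1),6), ((4,29,1),10), ((4,31,1),11), ((5,2,1),1), ((5,2,2),1),
    ((5,2,3),3), ((5,3,1),1), ((5,3,2),3), ((5,5,1),1), ((5,7,1),2), ((5,11,1),5), ((6,2,1),1), ((6,2,2),1),
    ((6,3,1),1), ((6,3,2),9), ((6,5,1),2), ((7,2,1),1), ((7,3,1),1), ((7,5,1),4), ((8,2,1),1), ((8,3,1),1),
    ((9,2,1),1), ((9,3,1),2), ((10,2,1),1)]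

theorem finite_checkO : ((List.range 7).all fun i => (List.range 35).all fun j => (List.range 5).all fun k =>
    !isP (j + 2) || decide (KO (i + 4) ((j + 2) ^ (k + 1)) (k + 1) ^ 2 + 2 ≤ ((j + 2) ^ (k + 1)) ^ (i + 4 - 2)) ||
      (smallO.map Prod.fst).contains (i + 4, j + 2, k + 1)) = true := by
  decide +kernel

/-- **the general inequality holds up to the small cases** -/
theorem big_or_smallO {m r f : ℕ} (hm : 4 ≤ m) (hr : r.Prime) (hf : 1 ≤ f) :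
    KO m (r ^ f) f ^ 2 + 2 ≤ (r ^ f) ^ (m - 2) ∨ ∃ P, ((m, r, f), P) ∈ smallO := by
  have hK := KO_sq_le (m := m) (q := r ^ f) (f := f)
  by_cases h37 : 37 ≤ r
  · left
    have h1 : 37 * f ≤ r ^ f := by
      obtain ⟨g, rfl⟩ : ∃ g, f = g + 1 := ⟨f - 1, by omega⟩
      have h2 : g + 1 ≤ 37 ^ g := Nat.succ_le_of_lt (Nat.lt_pow_self (by norm_num))
      calc 37 * (g + 1) ≤ 37 * 37 ^ g := Nat.mul_le_mul_left _ h2
        _ = 37 ^ (g + 1) := by ring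
        _ ≤ r ^ (g + 1) := Nat.pow_le_pow_left h37 _
    have := baseO (m := m) (q := r ^ f) (f := f) (c := 64) hm (by omega) (by nlinarith)
    omega
  by_cases h2 : r = 2
  · subst h2
    have hK2 := KO_sq_two (m := m) hf
    by_cases h6 : 6 ≤ f
    · left
      have h3 : 2 ^ 6 ≤ 2 ^ f := Nat.pow_le_pow_right (by norm_num) h6
      have := baseO (m := m) (q := 2 ^ f) (f := f) (c := 4) hm (by omega) (f_bound2O f h6)
      omega
    by_cases h11 : 11 ≤ m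
    · left
      have := bigO_m (m := m) (q := 2 ^ f) (f := f) (c := 4) (s := 2) le_rfl hm hf le_rfl (pow_two_bigO m h11)
      omega
    have h1 := finite_checkO
    rw [List.all_eq_true] at h1
    have h2 := h1 (m - 4) (List.mem_range.2 (by omega))
    rw [List.all_eq_true] at h2
    have h3 := h2 (2 - 2) (List.mem_range.2 (by omega))
    rw [List.all_eq_true] at h3
    have h4 := h3 (f - 1) (List.mem_range.2 (by omega))
    rw [show f - 1 + 1 = f by omega, show m - 4 + 4 = m by omega, show 2 - 2 + 2 = 2 from rfl, isP_of_prime hr] at h4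
    simpa using h4
  · have hr3 : 3 ≤ r := by
      have := hr.two_le
      omega
    have h3f : 3 ^ f ≤ r ^ f := Nat.pow_le_pow_left hr3 f
    by_cases h5 : 5 ≤ f
    · left
      have h1 := (f_bound3 f h5).trans (Nat.pow_le_pow_left h3f 2)
      have h2 : 3 ^ 5 ≤ 3 ^ f := Nat.pow_le_pow_right (by norm_num) h5
      have := baseO (m := m) (q := r ^ f) (f := f) (c := 64) hm (by omega) h1
      omega
    by_cases h11 : 10 ≤ m
    · left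
      have := bigO_m (m := m) (q := r ^ f) (f := f) (c := 64) (s := 3) (by norm_num) hm hf h3f (pow_three_bigO m h11)
      omega
    have h1 := finite_checkO
    rw [List.all_eq_true] at h1
    have h2 := h1 (m - 4) (List.mem_range.2 (by omega))
    rw [List.all_eq_true] at h2
    have h3 := h2 (r - 2) (List.mem_range.2 (by omega))
    rw [List.all_eq_true] at h3
    have h4 := h3 (f - 1) (List.mem_range.2 (by omega))
    rw [show r - 2 + 2 = r by omega, show f - 1 + 1 = f by omega, show m - 4 + 4 = m by omega, isP_of_prime hr] at h4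
    simpa using h4

/-- the inequality in a decidable form -/
def chkO (p K a b c : ℕ) : Bool := (a % p != 0 && Nat.blt ((p - 1) * K) a) ||
  (b % p != 0 && Nat.blt ((p - 1) * K) b) || (c % p != 0 && Nat.blt ((p - 1) * K) c)

theorem chkO_sound {p K a b c : ℕ} (h : chkO p K a b c = true) : IneqO p K a b c := by
  unfold chkO at h
  simp only [Bool.or_eq_true, Bool.and_eq_true, bne_iff_ne, ne_eq, Nat.blt_eq] at h
  rcases h with (⟨h1, h2⟩ | ⟨h1, h2⟩) | ⟨h1, h2⟩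
  · exact Or.inl ⟨fun hd => h1 (Nat.mod_eq_zero_of_dvd hd), h2⟩
  · exact Or.inr (Or.inl ⟨fun hd => h1 (Nat.mod_eq_zero_of_dvd hd), h2⟩)
  · exact Or.inr (Or.inr ⟨fun hd => h1 (Nat.mod_eq_zero_of_dvd hd), h2⟩)

/-- the exceptions, minus type -/
def excM : List (ℕ × ℕ × ℕ × ℕ) := [(5,2,1,5),(6,2,1,5)]

/-- the exceptions, plus type, `m ≥ 5` -/
def excP : List (ℕ × ℕ × ℕ × ℕ) :=
  [(5,2,1,5),(5,3,1,11),(6,2,1,7),(6,3,1,7),(6,3,1,13),(8,2,1,17),(8,3,1,41),(10,2,1,31)]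

/-- the check for one `q` -/
def chkRow (exc : List (ℕ × ℕ × ℕ × ℕ)) (m r f P q K a b c M : ℕ) : Bool :=
  Nat.blt (q ^ m) ((90 * P) ^ 2) &&
  (List.range P).all fun i => (List.range 90).all fun j =>
    Nat.blt (90 * i + j) 4 || !(q % (90 * i + j + 1) == 0 || M % ((90 * i + j + 1) * (90 * i + j + 1)) == 0) ||
      !isP (90 * i + j + 1) || exc.contains (m, r, f, 90 * i + j + 1) || chkO (90 * i + j + 1) K a b c

theorem chkRow_sound {exc : List (ℕ × ℕ × ℕ × ℕ)} {m r f P q K a b c M p : ℕ}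
    (h : chkRow exc m r f P q K a b c M = true) (hp : p.Prime) (h5 : 5 ≤ p) (hle : (p - 1) ^ 2 ≤ q ^ m)
    (hd : p ∣ q ∨ p ^ 2 ∣ M) : (m, r, f, p) ∈ exc ∨ IneqO p K a b c := by
  unfold chkRow at h
  simp only [Bool.and_eq_true, Nat.blt_eq, List.all_eq_true, List.mem_range] at h
  obtain ⟨h1, h2⟩ := h
  have h3 : p - 1 < 90 * P := by
    by_contra hc
    push Not at hc
    have := Nat.pow_le_pow_left hc 2
    omega
  have h4 := h2 ((p - 1) / 90) (Nat.div_lt_of_lt_mul h3) ((p - 1) % 90) (Nat.mod_lt _ (by norm_num))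
  rw [show 90 * ((p - 1) / 90) + (p - 1) % 90 = p - 1 from Nat.div_add_mod _ _, show p - 1 + 1 = p by omega] at h4
  simp only [Bool.or_eq_true, Nat.blt_eq, isP_of_prime hp, Bool.not_true, Bool.false_eq_true, or_false,
    Bool.not_eq_true', Bool.or_eq_false_iff, beq_eq_false_iff_ne, ne_eq] at h4
  rcases h4 with ((h4 | h4) | h4) | h4
  · omega
  · exfalso
    rcases hd with hd | hd
    · exact h4.1 (Nat.mod_eq_zero_of_dvd hd)
    · rw [pow_two] at hd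
      exact h4.2 (Nat.mod_eq_zero_of_dvd hd)
  · left
    simpa using h4
  · right
    exact chkO_sound h4

theorem small_checkM : (smallO.all fun x => chkRow excM x.1.1 x.1.2.1 x.1.2.2 x.2 (x.1.2.1 ^ x.1.2.2)
    (KO x.1.1 (x.1.2.1 ^ x.1.2.2) x.1.2.2) ((x.1.2.1 ^ x.1.2.2) ^ x.1.1 + 1)
    ((x.1.2.1 ^ x.1.2.2) ^ (x.1.1 - 1) + 1) ((x.1.2.1 ^ x.1.2.2) ^ (x.1.1 - 1) - 1)
    (((x.1.2.1 ^ x.1.2.2) ^ x.1.1 + 1) * NS (x.1.2.1 ^ x.1.2.2) (x.1.1 - 1))) = true := by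
  decide +kernel

theorem small_checkP : (smallO.all fun x => Nat.beq x.1.1 4 || chkRow excP x.1.1 x.1.2.1 x.1.2.2 x.2
    (x.1.2.1 ^ x.1.2.2)
    (KO x.1.1 (x.1.2.1 ^ x.1.2.2) x.1.2.2) ((x.1.2.1 ^ x.1.2.2) ^ x.1.1 - 1)
    ((x.1.2.1 ^ x.1.2.2) ^ (x.1.1 - 1) + 1) ((x.1.2.1 ^ x.1.2.2) ^ (x.1.1 - 1) - 1)
    (((x.1.2.1 ^ x.1.2.2) ^ x.1.1 - 1) * NS (x.1.2.1 ^ x.1.2.2) (x.1.1 - 1))) = true := by
  decide +kernel

/-- **the small cases, minus type** -/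
theorem small_caseM {m r f P p : ℕ} (h : ((m, r, f), P) ∈ smallO) (hp : p.Prime) (h5 : 5 ≤ p)
    (hle : (p - 1) ^ 2 ≤ (r ^ f) ^ m)
    (hd : p ∣ r ^ f ∨ p ^ 2 ∣ ((r ^ f) ^ m + 1) * ∏ i ∈ range (m - 1), ((r ^ f) ^ (2 * (i + 1)) - 1)) :
    (m, r, f, p) ∈ excM ∨ IneqO p (KO m (r ^ f) f) ((r ^ f) ^ m + 1) ((r ^ f) ^ (m - 1) + 1)
      ((r ^ f) ^ (m - 1) - 1) := by
  have h1 := small_checkM
  rw [List.all_eq_true] at h1
  rw [← NS_eq] at hd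
  exact chkRow_sound (h1 _ h) hp h5 hle hd

/-- **the small cases, plus type** -/
theorem small_caseP {m r f P p : ℕ} (hm : 5 ≤ m) (h : ((m, r, f), P) ∈ smallO) (hp : p.Prime) (h5 : 5 ≤ p)
    (hle : (p - 1) ^ 2 ≤ (r ^ f) ^ m)
    (hd : p ∣ r ^ f ∨ p ^ 2 ∣ ((r ^ f) ^ m - 1) * ∏ i ∈ range (m - 1), ((r ^ f) ^ (2 * (i + 1)) - 1)) :
    (m, r, f, p) ∈ excP ∨ IneqO p (KO m (r ^ f) f) ((r ^ f) ^ m - 1) ((r ^ f) ^ (m - 1) + 1)
      ((r ^ f) ^ (m - 1) - 1) := by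
  have h1 := small_checkP
  rw [List.all_eq_true] at h1
  rw [← NS_eq] at hd
  have h2 := h1 _ h
  simp only [Bool.or_eq_true] at h2
  rcases h2 with h2 | h2
  · have : m = 4 := Nat.eq_of_beq_eq_true h2
    omega
  · exact chkRow_sound h2 hp h5 hle hd

/-- **the bound for `p`** -/
theorem orth_sq_le {p q m a : ℕ} (hp : p.Prime) (h5 : 5 ≤ p) (hq : 2 ≤ q) (hm : 2 ≤ m) (ha : a ∣ q ^ (2 * m) - 1)
    (h : p ∣ q ∨ p ^ 2 ∣ a * ∏ i ∈ range (m - 1), (q ^ (2 * (i + 1)) - 1)) : (p - 1) ^ 2 ≤ q ^ m := by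
  rcases h with h | h
  · exact sq_le_of_dvd hq hm h
  · refine psp_sq_le hp h5 hq (h.trans ?_)
    obtain ⟨n, rfl⟩ : ∃ n, m = n + 1 := ⟨m - 1, by omega⟩
    rw [Nat.add_sub_cancel, Finset.prod_range_succ, mul_comm]
    exact Nat.mul_dvd_mul_left _ ha

end Cfsg.Agent.H93.PReg.Num
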