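import Cfsg.Agent.H93.PReg.Num

/-!
# Arithmetic for `PSL_n(q)` (for S4883)
-/

set_option autoImplicit false

namespace Cfsg.Agent.H93.PReg.Num

open Finset

theorem key {a K T : ℕ} (ha : a ^ 2 ≤ 2 * T) (hK : 2 * K ^ 2 + 2 ≤ T) : a * K < T - 1 := by
  by_contra h
  push Not at h
  have h1 : (T - 1) ^ 2 ≤ (a * K) ^ 2 := Nat.pow_le_pow_left h 2
  have h2 : (a * K) ^ 2 ≤ T * (T - 2) := by
    calc (a * K) ^ 2 = a ^ 2 * K ^ 2 := by ring
      _ ≤ 2 * T * K ^ 2 := Nat.mul_le_mul_right _ ha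
      _ = T * (2 * K ^ 2) := by ring
      _ ≤ T * (T - 2) := Nat.mul_le_mul_left _ (by omega)
  obtain ⟨u, rfl⟩ : ∃ u, T = u + 2 := ⟨T - 2, by omega⟩
  have h3 : (u + 2 - 1) ^ 2 = (u + 2) * (u + 2 - 2) + 1 := by
    rw [show u + 2 - 1 = u + 1 by omega, show u + 2 - 2 = u by omega]; ring
  omega

theorem geom_mul {q n : ℕ} (hq : 2 ≤ q) : (q ^ n - 1) / (q - 1) * (q - 1) = q ^ n - 1 :=
  Nat.div_mul_cancel (by simpa using Nat.sub_dvd_pow_sub_pow q 1 n)

theorem geom_eq {q n : ℕ} (hq : 2 ≤ q) : (q ^ n - 1) / (q - 1) = ∑ i ∈ range n, q ^ i :=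
  (Nat.geomSum_eq hq n).symm

theorem geom_mod {p q n : ℕ} (hq : 2 ≤ q) (hp : p ∣ q - 1) : p ∣ (q ^ n - 1) / (q - 1) ↔ p ∣ n := by
  rw [geom_eq hq, ← ZMod.natCast_eq_zero_iff, ← ZMod.natCast_eq_zero_iff]
  push_cast
  have h1 : (q : ZMod p) = 1 := by
    have : ((q - 1 : ℕ) : ZMod p) = 0 := (ZMod.natCast_eq_zero_iff _ _).2 hp
    rw [Nat.cast_sub (by omega), Nat.cast_one, sub_eq_zero] at this
    exact this
  simp [h1]

theorem T_le {q n : ℕ} (hq : 2 ≤ q) (hn : 1 ≤ n) : q ^ (n - 1) ≤ (q ^ n - 1) / (q - 1) := by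
  rw [geom_eq hq]
  exact single_le_sum (f := fun i => q ^ i) (fun i _ => Nat.zero_le _) (mem_range.2 (by omega))

theorem le_two_T {q n : ℕ} (hq : 2 ≤ q) (hn : 1 ≤ n) : q ^ n - 1 ≤ 2 * q ^ (n - 1) * (q - 1) := by
  obtain ⟨m, rfl⟩ : ∃ m, n = m + 1 := ⟨n - 1, by omega⟩
  obtain ⟨a, rfl⟩ : ∃ a, q = a + 2 := ⟨q - 2, by omega⟩
  rw [Nat.add_sub_cancel, pow_succ, show a + 2 - 1 = a + 1 by omega]
  have : (a + 2) ^ m * (a + 2) ≤ 2 * (a + 2) ^ m * (a + 1) := by
    calc (a + 2) ^ m * (a + 2) ≤ (a + 2) ^ m * (2 * (a + 1)) := Nat.mul_le_mul_left _ (by omega)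
      _ = _ := by ring
  omega

/-- **the inequality for `PSL_n(q)`** -/
theorem psl_big {p q n K : ℕ} (hp : p.Prime) (h5 : 5 ≤ p) (hq : 2 ≤ q) (hn : 3 ≤ n)
    (h : p ∣ q ∨ p ^ 2 * (q - 1) ≤ q ^ n - 1) (hK : 2 * K ^ 2 + 2 ≤ q ^ (n - 1)) :
    (p - 1) * K * p ^ ((q ^ n - 1) / (q - 1)).factorization p < (q ^ n - 1) / (q - 1) ∨
      (p - 1) * K * p ^ (q ^ (n - 1) - 1).factorization p < q ^ (n - 1) - 1 := by
  have hT := T_le hq (show 1 ≤ n by omega)
  have hM := geom_mul (n := n) hq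
  set M := (q ^ n - 1) / (q - 1) with hMd
  have hpK : (p - 1) * K ≤ p * K := Nat.mul_le_mul_right _ (by omega)
  rcases h with h | h
  · -- the defining characteristic
    left
    have h1 : ¬ p ∣ M := by
      intro h1
      have h2 : p ∣ q ^ n - 1 := hM ▸ h1.mul_right _
      have h3 : p ∣ q ^ n := dvd_pow h (by omega)
      have h4 : p ∣ q ^ n - (q ^ n - 1) := Nat.dvd_sub h3 h2
      have h5 : 1 ≤ q ^ n := Nat.one_le_pow _ _ (by omega)
      rw [show q ^ n - (q ^ n - 1) = 1 by omega] at h4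
      exact hp.one_lt.ne' (Nat.dvd_one.1 h4)
    rw [Nat.factorization_eq_zero_of_not_dvd h1, pow_zero, mul_one]
    have h2 : p ≤ q := Nat.le_of_dvd (by omega) h
    have h3 : p ^ 2 ≤ 2 * q ^ (n - 1) := by
      have : p ^ 2 ≤ q ^ 2 := Nat.pow_le_pow_left h2 2
      have : q ^ 2 ≤ q ^ (n - 1) := Nat.pow_le_pow_right (by omega) (by omega)
      omega
    have := key h3 hK
    omega
  have hp2 : p ^ 2 ≤ 2 * q ^ (n - 1) := by
    have h1 := le_two_T hq (show 1 ≤ n by omega)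
    exact Nat.le_of_mul_le_mul_right (h.trans h1) (by omega)
  have hk := key hp2 hK
  by_cases hA : p ∣ M
  · right
    by_cases hB : p ∣ q ^ (n - 1) - 1
    · -- `p ∣ q - 1`, `p ∣ n`
      have h1 : p ∣ q ^ n - 1 := hM ▸ hA.mul_right _
      have h2 := dvd_gcd (by omega) h1 hB
      have h3 : Nat.gcd n (n - 1) = 1 := by
        obtain ⟨m, rfl⟩ : ∃ m, n = m + 1 := ⟨n - 1, by omega⟩
        simp
      rw [h3, pow_one] at h2
      have h4 : p ∣ n := (geom_mod hq h2).1 hA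
      have hn5 : 5 ≤ n := h5.trans (Nat.le_of_dvd (by omega) h4)
      have hZ : ¬ p ∣ (q ^ (n - 1) - 1) / (q - 1) := by
        rw [geom_mod hq h2]
        intro h6
        have h7 : p ∣ n - (n - 1) := Nat.dvd_sub h4 h6
        rw [show n - (n - 1) = 1 by omega] at h7
        exact hp.one_lt.ne' (Nat.dvd_one.1 h7)
      have hY := geom_mul (q := q) (n := n - 1) hq
      have hpq : p ≤ q - 1 := Nat.le_of_dvd (by omega) h2
      have hq1 : q ^ 1 ≤ q ^ (n - 1) := Nat.pow_le_pow_right (by omega) (by omega)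
      rw [pow_one] at hq1
      have hfac : (q ^ (n - 1) - 1).factorization p = (q - 1).factorization p := by
        have h0 : (q ^ (n - 1) - 1) / (q - 1) ≠ 0 := by
          intro h0
          rw [h0, zero_mul] at hY
          omega
        rw [← hY, Nat.factorization_mul h0 (by omega), Finsupp.add_apply,
          Nat.factorization_eq_zero_of_not_dvd hZ, zero_add]
      rw [hfac]
      have hle : p ^ (q - 1).factorization p ≤ q - 1 := Nat.ordProj_le _ (by omega)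
      have hU : ((q - 2) * (q - 1)) ^ 2 ≤ 2 * q ^ (n - 1) := by
        have h6 : (q - 2) * (q - 1) ≤ q * q := Nat.mul_le_mul (by omega) (by omega)
        have h7 : ((q - 2) * (q - 1)) ^ 2 ≤ (q * q) ^ 2 := Nat.pow_le_pow_left h6 2
        have h8 : (q * q) ^ 2 = q ^ 4 := by ring
        have h9 : q ^ 4 ≤ q ^ (n - 1) := Nat.pow_le_pow_right (by omega) (by omega)
        omega
      have h6 := key hU hK
      calc (p - 1) * K * p ^ (q - 1).factorization p ≤ (q - 2) * K * (q - 1) :=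
            Nat.mul_le_mul (Nat.mul_le_mul_right _ (by omega)) hle
        _ = (q - 2) * (q - 1) * K := by ring
        _ < _ := h6
    · rw [Nat.factorization_eq_zero_of_not_dvd hB, pow_zero, mul_one]
      omega
  · left
    rw [Nat.factorization_eq_zero_of_not_dvd hA, pow_zero, mul_one]
    omega

end Cfsg.Agent.H93.PReg.Num
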