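import Cfsg.Agent.H93.PReg.NumPsl

/-!
# Arithmetic for `PSL_n(q)`: the finite check (for S4883)
-/

set_option autoImplicit false

namespace Cfsg.Agent.H93.PReg.Num

/-- `n · d · 2 f` -/
def K0 (n q f : ℕ) : ℕ := n * (Nat.gcd n (q - 1) * (f * 2))

theorem sq_le_two_mul (f : ℕ) : f ^ 2 ≤ 2 * 2 ^ f := by
  by_cases h : f < 6
  · interval_cases f <;> norm_num
  · push Not at h
    induction f, h using Nat.le_induction with
    | base => norm_num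
    | succ n hn ih =>
      rw [pow_succ 2 n]
      nlinarith

theorem f_bound (f : ℕ) (hf : 8 ≤ f) : 648 * f ^ 2 + 2 ≤ (2 ^ f) ^ 2 := by
  induction f, hf using Nat.le_induction with
  | base => norm_num
  | succ n hn ih =>
    have h1 : (2 ^ (n + 1)) ^ 2 = 4 * (2 ^ n) ^ 2 := by ring
    rw [h1]
    nlinarith

theorem big_one {n r f : ℕ} (hn : 3 ≤ n) (hr : 2 ≤ r) (hf : 1 ≤ f) (h : 26 ≤ r ∨ 8 ≤ f) :
    8 * f ^ 2 * n ^ 4 + 2 ≤ (r ^ f) ^ (n - 1) := by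
  have hbase : 648 * f ^ 2 + 2 ≤ (r ^ f) ^ 2 ∧ 26 ≤ r ^ f := by
    rcases h with h | h
    · have h1 : 26 * f ≤ r ^ f := by
        obtain ⟨g, rfl⟩ : ∃ g, f = g + 1 := ⟨f - 1, by omega⟩
        have h2 : g + 1 ≤ 26 ^ g := Nat.succ_le_of_lt (Nat.lt_pow_self (by norm_num))
        calc 26 * (g + 1) ≤ 26 * 26 ^ g := Nat.mul_le_mul_left _ h2
          _ = 26 ^ (g + 1) := by ring
          _ ≤ r ^ (g + 1) := Nat.pow_le_pow_left h _
      constructor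
      · nlinarith
      · omega
    · have h1 : 2 ^ f ≤ r ^ f := Nat.pow_le_pow_left hr f
      have h2 : 2 ^ 8 ≤ 2 ^ f := Nat.pow_le_pow_right (by norm_num) h
      constructor
      · exact (f_bound f h).trans (Nat.pow_le_pow_left h1 2)
      · omega
  obtain ⟨hb1, hb2⟩ := hbase
  induction n, hn using Nat.le_induction with
  | base =>
    show 8 * f ^ 2 * 3 ^ 4 + 2 ≤ (r ^ f) ^ 2
    omega
  | succ n hn ih =>
    have h1 : (n + 1) ^ 4 ≤ 4 * n ^ 4 := by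
      have : 3 * (n + 1) ≤ 4 * n := by omega
      have h2 : (3 * (n + 1)) ^ 4 ≤ (4 * n) ^ 4 := Nat.pow_le_pow_left this 4
      rw [mul_pow, mul_pow] at h2
      omega
    have h3 : (r ^ f) ^ (n + 1 - 1) = r ^ f * (r ^ f) ^ (n - 1) := by
      obtain ⟨m, rfl⟩ : ∃ m, n = m + 1 := ⟨n - 1, by omega⟩
      rw [Nat.add_sub_cancel, Nat.add_sub_cancel, pow_succ, mul_comm]
    rw [h3]
    calc 8 * f ^ 2 * (n + 1) ^ 4 + 2 ≤ 8 * f ^ 2 * (4 * n ^ 4) + 2 := by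
          have := Nat.mul_le_mul_left (8 * f ^ 2) h1
          omega
      _ ≤ 26 * (8 * f ^ 2 * n ^ 4 + 2) := by
          have : 8 * f ^ 2 * (4 * n ^ 4) = 4 * (8 * f ^ 2 * n ^ 4) := by ring
          omega
      _ ≤ r ^ f * (r ^ f) ^ (n - 1) := Nat.mul_le_mul hb2 ih

theorem big_two_aux (n : ℕ) (hn : 20 ≤ n) : 16 * n ^ 3 ≤ 2 ^ (n - 3) := by
  induction n, hn using Nat.le_induction with
  | base => norm_num
  | succ n hn ih =>
    have h3 : 2 ^ (n + 1 - 3) = 2 * 2 ^ (n - 3) := by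
      obtain ⟨m, rfl⟩ : ∃ m, n = m + 3 := ⟨n - 3, by omega⟩
      rw [show m + 3 + 1 - 3 = m + 1 by omega, show m + 3 - 3 = m by omega, pow_succ, mul_comm]
    rw [h3]
    have h1 : (n + 1) ^ 3 ≤ 2 * n ^ 3 := by
      have : 20 * (n + 1) ≤ 21 * n := by omega
      have h2 : (20 * (n + 1)) ^ 3 ≤ (21 * n) ^ 3 := Nat.pow_le_pow_left this 3
      rw [mul_pow, mul_pow] at h2
      omega
    omega

theorem K0_sq (n q f : ℕ) : 2 * K0 n q f ^ 2 + 2 = 8 * f ^ 2 * (Nat.gcd n (q - 1)) ^ 2 * n ^ 2 + 2 := by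
  unfold K0
  ring

theorem big_two {n q f : ℕ} (hn : 20 ≤ n) (hq : 2 ≤ q) (hf : f ^ 2 ≤ 2 * q) :
    2 * K0 n q f ^ 2 + 2 ≤ q ^ (n - 1) := by
  rw [K0_sq]
  have hd1 : Nat.gcd n (q - 1) ≤ n := Nat.gcd_le_left _ (by omega)
  have hd2 : Nat.gcd n (q - 1) ≤ q - 1 := Nat.gcd_le_right _ (by omega)
  have hd : (Nat.gcd n (q - 1)) ^ 2 ≤ n * (q - 1) := by
    rw [pow_two]
    exact Nat.mul_le_mul hd1 hd2
  have h1 := (big_two_aux n hn).trans (Nat.pow_le_pow_left hq (n - 3))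
  have h2 : q ^ (n - 1) = q ^ (n - 3) * q ^ 2 := by
    rw [← pow_add]
    congr 1
    omega
  rw [h2]
  have h3 : 8 * f ^ 2 * (Nat.gcd n (q - 1)) ^ 2 * n ^ 2 ≤ 8 * (2 * q) * (n * (q - 1)) * n ^ 2 :=
    Nat.mul_le_mul_right _ (Nat.mul_le_mul (Nat.mul_le_mul_left _ hf) hd)
  have h4 : 8 * (2 * q) * (n * (q - 1)) * n ^ 2 + 2 ≤ 16 * n ^ 3 * q ^ 2 := by
    obtain ⟨a, rfl⟩ : ∃ a, q = a + 1 := ⟨q - 1, by omega⟩
    rw [Nat.add_sub_cancel]
    have h5 : 16 * n ^ 3 * (a + 1) ^ 2 = 8 * (2 * (a + 1)) * (n * a) * n ^ 2 + 16 * n ^ 3 * (a + 1) := by ring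
    rw [h5]
    have h6 : 1 ≤ n ^ 3 := Nat.one_le_pow _ _ (by omega)
    nlinarith
  have h7 : 16 * n ^ 3 * q ^ 2 ≤ q ^ (n - 3) * q ^ 2 := Nat.mul_le_mul_right _ h1
  omega

/-- the small cases `(n, r, f)` -/
def smallL : List (ℕ × ℕ × ℕ) :=
  [(3,2,1),(3,3,1),(3,2,2),(3,5,1),(3,7,1),(3,2,3),(3,3,2),(3,13,1),(3,2,4),(3,19,1),(3,5,2),(3,2,5),(3,7,2),
    (3,2,6),(4,2,1),(4,3,1),(4,2,2),(4,5,1),(4,7,1),(4,2,3),(4,3,2),(5,2,1),(5,3,1),(5,2,2),(5,2,4),(6,2,1),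
    (6,3,1),(6,2,2),(7,2,1),(8,2,1),(9,2,1),(10,2,1)]

/-- bounded primality -/
def isP (p : ℕ) : Bool := (List.range p).all fun m => m < 2 || p % m != 0

theorem isP_of_prime {p : ℕ} (hp : p.Prime) : isP p = true := by
  unfold isP
  rw [List.all_eq_true]
  intro m hm
  rw [List.mem_range] at hm
  by_cases h : m < 2
  · simp [h]
  · have : p % m ≠ 0 := by
      intro h0
      rcases (Nat.dvd_prime hp).1 (Nat.dvd_of_mod_eq_zero h0) with h1 | h1 <;> omega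
    simp [this]

theorem finite_check : ((List.range 17).all fun i => (List.range 24).all fun j => (List.range 7).all fun k =>
    !isP (j + 2) || decide (2 * K0 (i + 3) ((j + 2) ^ (k + 1)) (k + 1) ^ 2 + 2 ≤ ((j + 2) ^ (k + 1)) ^ (i + 3 - 1)) ||
      smallL.contains (i + 3, j + 2, k + 1)) = true := by
  decide +kernel

/-- **the general inequality holds up to the small cases** -/
theorem big_or_small {n r f : ℕ} (hn : 3 ≤ n) (hr : r.Prime) (hf : 1 ≤ f) :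
    2 * K0 n (r ^ f) f ^ 2 + 2 ≤ (r ^ f) ^ (n - 1) ∨ (n, r, f) ∈ smallL := by
  by_cases h : 26 ≤ r ∨ 8 ≤ f
  · left
    refine le_trans ?_ (big_one hn hr.two_le hf h)
    rw [K0_sq]
    have hd1 : Nat.gcd n (r ^ f - 1) ≤ n := Nat.gcd_le_left _ (by omega)
    have h1 : (Nat.gcd n (r ^ f - 1)) ^ 2 * n ^ 2 ≤ n ^ 4 := by
      calc (Nat.gcd n (r ^ f - 1)) ^ 2 * n ^ 2 ≤ n ^ 2 * n ^ 2 := Nat.mul_le_mul_right _ (Nat.pow_le_pow_left hd1 2)
        _ = n ^ 4 := by ring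
    have h2 := Nat.mul_le_mul_left (8 * f ^ 2) h1
    rw [← mul_assoc] at h2
    omega
  push Not at h
  by_cases h20 : 20 ≤ n
  · left
    have h2 : 2 ^ f ≤ r ^ f := Nat.pow_le_pow_left hr.two_le f
    have h3 : 2 ^ 1 ≤ 2 ^ f := Nat.pow_le_pow_right (by norm_num) hf
    refine big_two h20 (by omega) ?_
    have := sq_le_two_mul f
    omega
  push Not at h20
  have h1 := finite_check
  rw [List.all_eq_true] at h1
  have h2 := h1 (n - 3) (List.mem_range.2 (by omega))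
  rw [List.all_eq_true] at h2
  have hr2 := hr.two_le
  have h3 := h2 (r - 2) (List.mem_range.2 (by omega))
  rw [List.all_eq_true] at h3
  have h4 := h3 (f - 1) (List.mem_range.2 (by omega))
  rw [show r - 2 + 2 = r by omega, show f - 1 + 1 = f by omega, show n - 3 + 3 = n by omega, isP_of_prime hr] at h4
  simpa using h4

end Cfsg.Agent.H93.PReg.Num
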