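import Cfsg.Agent.H93.PReg.Semi
import Cfsg.Agent.AutOrth.Main
import Cfsg.Agent.LieClassical.OrthCenter
import Cfsg.Agent.LieClassical.SympCenter
import Cfsg.Agent.LieClassical.OmegaReindex
import Cfsg.Agent.Lib.FieldAutCard

/-!
# Orthogonal groups: automorphisms and characteristic polynomials (for S4883)
-/

set_option autoImplicit false
set_option linter.unusedSectionVars false

namespace Cfsg.Agent.H93.PReg.Orth

open QuadraticMap Cfsg.Agent.LieClassical.OrthCore Cfsg.Agent.LieClassical.OrthTrans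
  Cfsg.Agent.LieClassical.OrthSimple Cfsg.Agent.AutOrth.SemiSim Cfsg.Agent.AutOrth.Main
  Cfsg.Agent.ClassicalGeometry.OrthAut1 Cfsg.Agent.LieClassical.QuadForms
  Cfsg.Agent.LieClassical.OrthFinite Cfsg.Agent.LieClassical
open Polynomial Matrix Cfsg.Agent.H93.PReg Cfsg

variable {ι : Type} [Fintype ι] [DecidableEq ι] {F : Type} [Field F] [Fintype F]

/-- the inclusion of `Ω` in the matrices -/
def ρ (Q : (ι → F) → F) : Omega F Q →* Matrix ι ι F :=
  (Units.coeHom (Matrix ι ι F)).comp ((isometryGroup F Q).subtype.comp (Omega F Q).subtype)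

theorem ρ_apply (Q : (ι → F) → F) (g : Omega F Q) :
    ρ Q g = (((g : isometryGroup F Q) : Matrix.GeneralLinearGroup ι F) : Matrix ι ι F) := rfl

/-- the projection -/
def pr (Q : (ι → F) → F) : Omega F Q →* POmega F Q := QuotientGroup.mk' _

theorem pr_surjective (Q : (ι → F) → F) : Function.Surjective (pr Q) := QuotientGroup.mk'_surjective _

theorem exists_center {Q : (ι → F) → F} {x y : Omega F Q} (h : pr Q x = pr Q y) :
    ∃ z : Subgroup.center (Omega F Q), y = x * z.1 := by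
  have h1 : x⁻¹ * y ∈ Subgroup.center (Omega F Q) := QuotientGroup.eq.1 h
  exact ⟨⟨x⁻¹ * y, h1⟩, (mul_inv_cancel_left _ _).symm⟩

/-- **control** for the automorphisms induced by semisimilarities -/
theorem ctl_ind {Q : QuadraticForm F (ι → F)} (hG : Good Q) (α : MulAut (POmega F ⇑Q)) (hα : Ind ⇑Q α)
    (g g' : Omega F ⇑Q) (h : α (pr ⇑Q g) = pr ⇑Q g') :
    ∃ w : Subgroup.center (Omega F ⇑Q) × (F ≃+* F),
      (ρ ⇑Q g').charpoly = (ρ ⇑Q (g * w.1.1)).charpoly.map (w.2 : F →+* F) := by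
  obtain ⟨σ, μ, T, ⟨hμ, hs, hQ⟩, hT⟩ := hα
  have hM : IsSemi Q T σ μ := ⟨hμ, hs, hQ⟩
  let C : MulAut (Omega F ⇑Q) := MulAut.congr (oe hG).symm (conjE hM)
  have hC : ∀ (x : Omega F ⇑Q) (v : ι → F), (ρ ⇑Q (C x)) *ᵥ T v = T ((ρ ⇑Q x) *ᵥ v) := by
    intro x v
    have h1 : oe hG (C x) = conjE hM (oe hG x) := (oe hG).apply_symm_apply _
    rw [ρ_apply, ρ_apply, ← oe_apply hG, ← oe_apply hG, h1, conjE_apply]
  have h1 : pr ⇑Q (C g) = pr ⇑Q g' := by
    rw [← h]
    exact (hT g (C g) (hC g)).symm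
  obtain ⟨z, hz⟩ := exists_center h1
  have hz' : C.symm z.1 ∈ Subgroup.center (Omega F ⇑Q) := by
    rw [Subgroup.mem_center_iff]
    intro x
    apply C.injective
    rw [map_mul, map_mul, MulEquiv.apply_symm_apply]
    exact Subgroup.mem_center_iff.1 z.2 _
  refine ⟨(⟨_, hz'⟩, σ), ?_⟩
  have h2 : g' = C (g * C.symm z.1) := by
    rw [map_mul, MulEquiv.apply_symm_apply, ← hz]
  rw [h2]
  exact charpoly_semi T T.surjective σ T.map_add hs _ _ fun v => hC _ v

theorem charpoly_ok {Q : (ι → F) → F} (w : Subgroup.center (Omega F Q) × (F ≃+* F)) (g : Omega F Q) :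
    (ρ Q (g * w.1.1)).charpoly.map (w.2 : F →+* F) ≠ 0 ∧
      ((ρ Q (g * w.1.1)).charpoly.map (w.2 : F →+* F)).natDegree ≤ Fintype.card ι := by
  have h1 := charpoly_monic (ρ Q (g * w.1.1))
  refine ⟨(h1.map _).ne_zero, ?_⟩
  rw [h1.natDegree_map]
  exact (charpoly_natDegree_eq_dim _).le

/-- **control** if all automorphisms are induced by semisimilarities -/
theorem ctl_all {Q : QuadraticForm F (ι → F)} (hG : Good Q) (hall : ∀ α, Ind ⇑Q α) :
    Ctl (ρ ⇑Q) (pr ⇑Q) (Subgroup.center (Omega F ⇑Q) × (F ≃+* F)) :=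
  ⟨fun w g => (ρ ⇑Q (g * w.1.1)).charpoly.map (w.2 : F →+* F), charpoly_ok,
    fun a g g' h => ctl_ind hG a (hall a) g g' h⟩

/-- the centre -/
theorem card_center_le {Q : QuadraticForm F (ι → F)} (hQ : Nondeg Q) (h5 : 5 ≤ Fintype.card ι) :
    Nat.card (Subgroup.center (Omega F ⇑Q)) ≤ Nat.gcd 2 (Fintype.card F - 1) := by
  have hs : ∃ u : ι → F, u ≠ 0 ∧ Q u = 0 := by
    obtain ⟨w, -, h1, h2⟩ := Cfsg.Agent.LieClassical.OrthFinite.exists_sing_mem (Q := Q) (⊤ : Submodule F (ι → F)) (by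
      rw [finrank_top, Module.finrank_fintype_fun_eq_card]
      omega)
    exact ⟨w, h1, h2⟩
  have hne : Nonempty ι := by
    rw [← Fintype.card_pos_iff]
    omega
  have hnd : (polarBilin Q).Nondegenerate := OmegaReindex.nondegenerate_of_left Q hQ
  have key : ∀ z : Subgroup.center (Omega F ⇑Q), ∃ a : {a : F // a * a = 1}, ρ ⇑Q z.1 = (a : F) • 1 := by
    intro z
    rcases (OrthCenter.mem_center_omega_iff hnd (by omega) hs z.1).1 z.2 with h | h
    · exact ⟨⟨1, by ring⟩, by rw [one_smul]; exact h⟩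
    · exact ⟨⟨-1, by ring⟩, by rw [neg_smul, one_smul]; exact h⟩
  choose f hf using key
  rw [← SympCenter.card_sqrt_one (F := F)]
  apply Nat.card_le_card_of_injective f
  intro z z' h
  apply Subtype.ext
  apply Subtype.ext
  apply Subtype.ext
  apply Units.ext
  have h1 := hf z
  rw [h, ← hf z'] at h1
  exact h1

end Cfsg.Agent.H93.PReg.Orth
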