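import Cfsg.Agent.H93.PReg.OrthTori
import Cfsg.Agent.H93.PReg.HasOrdKer

/-!
# Orthogonal groups: counting in `POmega` from isometries (for S4883)
-/

set_option autoImplicit false
set_option linter.unusedSectionVars false

namespace Cfsg.Agent.H93.PReg.Orth

open QuadraticMap Cfsg.Agent.LieClassical.OrthCore Cfsg.Agent.LieClassical.OrthForms
open Polynomial Matrix Cfsg.Agent.H93.PReg Cfsg Cfsg.Agent.H92.KTools
open Cfsg.Agent.H182.Sign Cfsg.Agent.H182.Orth

variable {ι : Type} [Fintype ι] [DecidableEq ι] {F : Type} [Field F] [Fintype F]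

/-- elements of `Ω` from isometries -/
theorem exists_omega (Q : QuadraticForm F (ι → F)) (hQ : Nondeg Q) (h5 : 5 ≤ Fintype.card ι) {V : Type*}
    [AddCommGroup V] [Module F V] (Q' : V → F) (e : (ι → F) ≃ₗ[F] V) (c : F) (hc : c ≠ 0)
    (he : ∀ u, Q' (e u) = c * Q u) (T : Module.End F V) (hT : ∀ v, Q' (T v) = Q' v) :
    ∃ z : Omega F ⇑Q, (Matrix.toLinAlgEquiv' (ρ ⇑Q z) : Module.End F (ι → F)) = e.symm.conj (T ^ 2) := by
  let M₀ : Matrix ι ι F := LinearMap.toMatrixAlgEquiv' (e.symm.conj T)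
  have hφ : ∀ x : ι → F, M₀.mulVec x = e.symm (T (e x)) := by
    intro x
    show (LinearMap.toMatrix' (e.symm.conj T)).mulVec x = _
    rw [LinearMap.toMatrix'_mulVec]
    rfl
  have hM : ∀ x, Q (M₀.mulVec x) = Q x := by
    intro x
    apply mul_left_cancel₀ hc
    rw [← he, ← he, hφ, e.apply_symm_apply, hT]
  have hinj : ∀ x, M₀.mulVec x = 0 → x = 0 := by
    intro x hx
    apply hQ
    intro y
    have h1 : polar Q (M₀.mulVec x) (M₀.mulVec y) = polar Q x y := by
      rw [polar, polar, ← Matrix.mulVec_add, hM, hM, hM]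
    rw [← h1, hx]
    simp [polar]
  have hunit : IsUnit M₀ := by
    rw [← Matrix.mulVec_injective_iff_isUnit]
    intro x y hxy
    have h1 : M₀.mulVec (x - y) = 0 := by
      rw [Matrix.mulVec_sub]
      exact sub_eq_zero.2 hxy
    exact sub_eq_zero.1 (hinj _ h1)
  obtain ⟨M, hM'⟩ := hunit
  have hmem : M ∈ isometryGroup F ⇑Q := by
    rw [Cfsg.Agent.LieClassical.OrthFinite.mem_isometryGroup_iff]
    intro x
    rw [hM']
    exact hM x
  let g : isometryGroup F ⇑Q := ⟨M, hmem⟩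
  refine ⟨⟨g * g, H377.mul_self_mem_Omega Q hQ h5 g⟩, ?_⟩
  have h1 : ρ ⇑Q ⟨g * g, H377.mul_self_mem_Omega Q hQ h5 g⟩ = M₀ * M₀ := by
    rw [← hM']
    rfl
  rw [h1, map_mul]
  have h2 : (Matrix.toLinAlgEquiv' M₀ : Module.End F (ι → F)) = e.symm.conj T :=
    Matrix.toLinAlgEquiv'_toMatrixAlgEquiv' _
  rw [h2, pow_two]
  exact (map_mul (LinearEquiv.conjRingEquiv e.symm) T T).symm

theorem hasEig_conj {V W L : Type*} [AddCommGroup V] [Module F V] [AddCommGroup W] [Module F W] [Field L] [Algebra F L]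
    (e : V ≃ₗ[F] W) {g : Module.End F V} {y : L} (h : HasEig g y) : HasEig (e.conj g) y := by
  obtain ⟨j, hj, h1⟩ := h
  refine ⟨e.toLinearMap.comp j, e.injective.comp hj, fun z => ?_⟩
  show e (g (e.symm (e (j z)))) = e (j (y * z))
  rw [e.symm_apply_apply, h1]

theorem orderOf_sq_eq {L : Type*} [Field L] (y : L) (N : ℕ) (h : orderOf y = N) :
    orderOf (y ^ 2) = N / Nat.gcd N 2 := by
  rw [orderOf_pow' y two_ne_zero, h]

/-- **counting**, `y` of order `N`, `M = N / gcd (N, 2)` -/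
theorem MO_of_isom {Q : QuadraticForm F (ι → F)} (hQ : Nondeg Q) (h5 : 5 ≤ Fintype.card ι) {W : Type} [Finite W]
    (hC : Ctl (ρ ⇑Q) (pr ⇑Q) W) {V : Type*} [AddCommGroup V] [Module F V] (Q' : V → F) (e : (ι → F) ≃ₗ[F] V) (c : F)
    (hc : c ≠ 0) (he : ∀ u, Q' (e u) = c * Q u) (T : Module.End F V) (hT : ∀ v, Q' (T v) = Q' v)
    {L : Type*} [Field L] [Algebra F L] {y : L} (hy : HasEig T y) {p n N B : ℕ} (hp : p.Prime)
    (hN : orderOf (y ^ 2) = N) (hB : Fintype.card ι * Nat.card W ≤ B)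
    (h : (n - 1) * B * p ^ N.factorization p < N) : MO (Reg p) n (POmega F ⇑Q) := by
  obtain ⟨z, hz⟩ := exists_omega Q hQ h5 Q' e c hc he T hT
  have hroot : aeval (y ^ 2) (ρ ⇑Q z).charpoly = 0 := by
    apply root_of_eig
    rw [hz]
    exact hasEig_conj e.symm (hy.pow 2)
  refine MO.of_root' hp hC z (y ^ 2) hroot ?_
  rw [hN]
  refine lt_of_le_of_lt ?_ h
  exact Nat.mul_le_mul_right _ (Nat.mul_le_mul_left _ hB)

/-- the kernel -/
theorem ker_sq {Q : QuadraticForm F (ι → F)} (hQ : Nondeg Q) (h5 : 5 ≤ Fintype.card ι) (g : Omega F ⇑Q)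
    (h : pr ⇑Q g = 1) : g ^ Nat.gcd 2 (Fintype.card F - 1) = 1 := by
  have hs : ∃ u : ι → F, u ≠ 0 ∧ Q u = 0 := by
    obtain ⟨w, -, h1, h2⟩ := Cfsg.Agent.LieClassical.OrthFinite.exists_sing_mem (Q := Q) (⊤ : Submodule F (ι → F)) (by
      rw [finrank_top, Module.finrank_fintype_fun_eq_card]
      omega)
    exact ⟨w, h1, h2⟩
  have hnd : (polarBilin Q).Nondegenerate := LieClassical.OmegaReindex.nondegenerate_of_left Q hQ
  have h1 : g ∈ Subgroup.center (Omega F ⇑Q) := (QuotientGroup.eq_one_iff g).1 h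
  have hinj : Function.Injective (ρ ⇑Q) := by
    intro a b hab
    exact Subtype.ext (Subtype.ext (Units.ext hab))
  rcases (LieClassical.OrthCenter.mem_center_omega_iff hnd (by omega) hs g).1 h1 with h2 | h2
  · have h3 : g = 1 := hinj (by rw [map_one]; exact h2)
    rw [h3, one_pow]
  · have h2' : ρ ⇑Q g = -1 := h2
    apply hinj
    rw [map_pow, map_one, h2']
    rcases Nat.even_or_odd (Fintype.card F) with he | ho
    · have hF2 : (2 : F) = 0 := by
        have : CharP F 2 := by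
          have h4 : ringChar F = 2 := (FiniteField.even_card_iff_char_two (F := F)).2 (Nat.even_iff.1 he)
          exact h4 ▸ ringChar.charP F
        exact CharTwo.two_eq_zero
      have h4 : (-1 : Matrix ι ι F) = 1 := by
        have h8 : (-1 : F) = 1 := by linear_combination -hF2
        rw [← one_smul F (1 : Matrix ι ι F), ← neg_smul, h8]
      rw [h4, one_pow]
    · have h5 : Nat.gcd 2 (Fintype.card F - 1) = 2 := by
        apply Nat.gcd_eq_left
        obtain ⟨k, hk⟩ := ho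
        exact ⟨k, by omega⟩
      rw [h5]
      simp

end Cfsg.Agent.H93.PReg.Orth
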