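import Cfsg.Agent.H93.PReg.OrthGen
import Cfsg.Agent.H93.PReg.NumOrth
import Cfsg.Agent.S0292
import Cfsg.Agent.S0293
import Cfsg.Agent.S0294

/-!
# The rows of the orthogonal groups in even dimension: generalities (for S4883)
-/

set_option autoImplicit false
set_option linter.unusedSectionVars false

namespace Cfsg.Agent.H93.PReg.Orth

open QuadraticMap Cfsg.Agent.LieClassical.OrthCore Cfsg.Agent.LieClassical.OrthForms
open Polynomial Matrix Cfsg.Agent.H93.PReg Cfsg Cfsg.Agent.H92.KTools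
open Cfsg.Agent.H182.Sign Cfsg.Agent.H182.Orth Cfsg.Agent.AutOrth.Main

variable {ι : Type} [Fintype ι] [DecidableEq ι] {F : Type} [Field F] [Fintype F] {m r f : ℕ}

theorem card_of_sg {Q : QuadraticForm F (ι → F)} {ε : ℤ} (hQ : Sg Q m ε) : Fintype.card ι = 2 * m := by
  rw [← Module.finrank_fintype_fun_eq_card F, hQ.dim]

theorem finite_W {Q : QuadraticForm F (ι → F)} : Finite (Subgroup.center (Omega F ⇑Q) × (F ≃+* F)) := by
  have : Finite (F ≃+* F) := Finite.of_injective (fun e => (e : F → F)) DFunLike.coe_injective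
  infer_instance

theorem card_W_le (hr : r.Prime) (hf : 1 ≤ f) (hF : Fintype.card F = r ^ f) {Q : QuadraticForm F (ι → F)} {ε : ℤ}
    (hQ : Sg Q m ε) (hm : 3 ≤ m) : Fintype.card ι * Nat.card (Subgroup.center (Omega F ⇑Q) × (F ≃+* F)) ≤
      (m + m) * (Nat.gcd 2 (r ^ f - 1) * f) := by
  have := Fact.mk hr
  have hc := card_of_sg hQ
  rw [Nat.card_prod, Lib.FieldAutCard.card_ringAut hf hF, hc, two_mul]
  refine Nat.mul_le_mul_left _ (Nat.mul_le_mul_right _ ?_)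
  rw [← hF]
  exact card_center_le hQ.nondeg (by omega)

/-- parity -/
theorem gcd_eq {q j a : ℕ} (hj : j ≠ 0) (hq : 2 ≤ q) (ha : a = q ^ j + 1 ∨ a = q ^ j - 1) :
    Nat.gcd a 2 = Nat.gcd 2 (q - 1) := by
  rcases Nat.even_or_odd q with he | ho
  · have h1 : Even (q ^ j) := he.pow_of_ne_zero hj
    have h2 : 1 ≤ q ^ j := Nat.one_le_pow _ _ (by omega)
    have h3 : a % 2 = 1 := by
      rw [Nat.even_iff] at h1
      omega
    rw [Nat.even_iff] at he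
    rw [Nat.gcd_comm, Nat.gcd_rec, h3, Nat.gcd_rec 2 (q - 1), show (q - 1) % 2 = 1 by omega]
  · have h1 : Odd (q ^ j) := ho.pow
    have h3 : a % 2 = 0 := by
      rw [Nat.odd_iff] at h1
      omega
    rw [Nat.odd_iff] at ho
    rw [Nat.gcd_comm, Nat.gcd_rec, h3, Nat.gcd_rec 2 (q - 1), show (q - 1) % 2 = 0 by omega]

/-- one torus -/
theorem MO_of_eig {Q : QuadraticForm F (ι → F)} {ε : ℤ} (hQ : Sg Q m ε) (hm : 3 ≤ m) {W : Type} [Finite W]
    (hC : Ctl (ρ ⇑Q) (pr ⇑Q) W) {a p n B g : ℕ} (he : EigElt F m ε a) (hp : p.Prime) (ha : ¬ p ∣ a)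
    (hg : Nat.gcd a 2 = g) (hB : Fintype.card ι * Nat.card W ≤ B) (h : (n - 1) * (B * g) < a) :
    MO (Reg p) n (POmega F ⇑Q) := by
  obtain ⟨V, _, _, _, P, T, L, _, _, y, hs, hT, hy, ho⟩ := he
  obtain ⟨e, he⟩ := hQ.exists_equiv hs
  have hc := card_of_sg hQ
  have ha0 : a ≠ 0 := by
    rintro rfl
    exact ha (dvd_zero _)
  have hg0 : 0 < g := hg ▸ Nat.gcd_pos_of_pos_right _ (by norm_num)
  have hda : g ∣ a := hg ▸ Nat.gcd_dvd_left _ _
  refine MO_of_isom (N := a / g) hQ.nondeg (by omega) hC (⇑P) e 1 one_ne_zero (fun u => by rw [he, one_mul]) T hT hy hp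
    (by rw [orderOf_sq_eq y a ho, hg]) hB ?_
  rw [Nat.factorization_eq_zero_of_not_dvd fun hd => ha (hd.trans (Nat.div_dvd_of_dvd hda)), pow_zero, mul_one]
  rw [Nat.lt_div_iff_mul_lt' hda]
  calc g * ((n - 1) * B) = (n - 1) * (B * g) := by ring
    _ < a := h

/-- **from the inequality** -/
theorem MO_of_ineq {Q : QuadraticForm F (ι → F)} {ε : ℤ} (hQ : Sg Q m ε) (hm : 3 ≤ m) {W : Type} [Finite W]
    (hC : Ctl (ρ ⇑Q) (pr ⇑Q) W) {B p n a K : ℕ} (hB : Fintype.card ι * Nat.card W ≤ B)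
    (hK : B * Nat.gcd 2 (Fintype.card F - 1) = K)
    (ha : a = Fintype.card F ^ m + 1 ∨ a = Fintype.card F ^ m - 1) (hea : EigElt F m ε a)
    (hp : p.Prime)
    (h : (¬ p ∣ a ∧ (n - 1) * K < a) ∨
      (¬ p ∣ Fintype.card F ^ (m - 1) + 1 ∧ (n - 1) * K < Fintype.card F ^ (m - 1) + 1) ∨
      (¬ p ∣ Fintype.card F ^ (m - 1) - 1 ∧ (n - 1) * K < Fintype.card F ^ (m - 1) - 1)) :
    MO (Reg p) n (POmega F ⇑Q) := by
  have hq : 2 ≤ Fintype.card F := Fintype.one_lt_card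
  rcases h with ⟨h1, h2⟩ | ⟨h1, h2⟩ | ⟨h1, h2⟩
  · exact MO_of_eig hQ hm hC hea hp h1 (gcd_eq (by omega) hq ha) hB (by rw [hK]; exact h2)
  · exact MO_of_eig hQ hm hC ((eig_minus (m - 1) (by omega)).extend (by omega) hQ.eps) hp h1
      (gcd_eq (by omega) hq (Or.inl rfl)) hB (by rw [hK]; exact h2)
  · exact MO_of_eig hQ hm hC ((eig_plus (m - 1) (by omega)).extend (by omega) hQ.eps) hp h1
      (gcd_eq (by omega) hq (Or.inr rfl)) hB (by rw [hK]; exact h2)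

/-- prime divisors -/
theorem cases_of_sq_dvd {S : Type*} [Group S] {p q c M e : ℕ} (hp : p.Prime)
    (hcard : c * Nat.card S = q ^ e * M) (hd : p ^ 2 ∣ Nat.card S) : p ∣ q ∨ p ^ 2 ∣ M := by
  by_cases h : p ∣ q
  · exact Or.inl h
  · right
    have h1 : p ^ 2 ∣ q ^ e * M := hcard ▸ hd.mul_left c
    exact Nat.Coprime.dvd_of_dvd_mul_left (Nat.Coprime.pow _ _ ((Nat.Prime.coprime_iff_not_dvd hp).2 h)) h1

/-- prime orders -/
theorem ho_prime {S : Type*} [Group S] [Finite S] {s q c M e : ℕ} (hs : s.Prime)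
    (hcard : c * Nat.card S = q ^ e * M) (he : e ≠ 0) (hc : 0 < c) (h : s * c ∣ q * M) : HasOrd S s := by
  refine hasOrd_prime hs ?_
  apply Nat.dvd_of_mul_dvd_mul_left hc
  rw [hcard, mul_comm c]
  exact h.trans (Nat.mul_dvd_mul_right (dvd_pow_self _ he) _)

/-- orders from tori -/
theorem ho_eig {Q : QuadraticForm F (ι → F)} {ε : ℤ} (hQ : Sg Q m ε) (hm : 3 ≤ m) {a k : ℕ}
    (he : EigElt F m ε a)
    (h : k ∣ a / Nat.gcd a 2 / Nat.gcd (a / Nat.gcd a 2) (Nat.gcd 2 (Fintype.card F - 1))) :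
    HasOrd (POmega F ⇑Q) k := by
  have : Finite (POmega F ⇑Q) := Quotient.finite _
  obtain ⟨V, _, _, _, P, T, L, _, _, y, hs, hT, hy, ho⟩ := he
  obtain ⟨e, he⟩ := hQ.exists_equiv hs
  have hc := card_of_sg hQ
  obtain ⟨z, hz⟩ := exists_omega Q hQ.nondeg (by omega) (⇑P) e 1 one_ne_zero (fun u => by rw [he, one_mul]) T hT
  have hroot : aeval (y ^ 2) (ρ ⇑Q z).charpoly = 0 := by
    apply root_of_eig
    rw [hz]
    exact hasEig_conj e.symm (hy.pow 2)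
  have h1 := orderOf_root_dvd (ρ := ρ ⇑Q) z (y ^ 2) hroot
  rw [orderOf_sq_eq y a ho] at h1
  have h0 : orderOf z ≠ 0 := (orderOf_pos z).ne'
  obtain ⟨c, hc⟩ := h1
  have hN0 : a / Nat.gcd a 2 ≠ 0 := by
    intro h0'
    rw [h0', zero_mul] at hc
    exact h0 hc
  have hc0 : c ≠ 0 := by
    rintro rfl
    exact h0 (by rw [hc, mul_zero])
  have h2 : orderOf (z ^ c) = a / Nat.gcd a 2 := by
    rw [orderOf_pow' z hc0, hc, Nat.gcd_eq_right (Dvd.intro_left _ rfl), Nat.mul_div_cancel _ (Nat.pos_of_ne_zero hc0)]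
  exact hasOrd_of_ker (pr ⇑Q) (z ^ c) (fun g hg => ker_sq hQ.nondeg (by omega) g hg) (by rw [h2]; exact hN0)
    (by rw [h2]; exact h)

/-- the elements of order divisible by `s` in one torus -/
theorem MO_s_eig {Q : QuadraticForm F (ι → F)} {ε : ℤ} (hQ : Sg Q m ε) (hm : 3 ≤ m) {W : Type} [Finite W]
    (hC : Ctl (ρ ⇑Q) (pr ⇑Q) W) {a p n B N s b : ℕ} (he : EigElt F m ε a) (hN : a / Nat.gcd a 2 = N)
    (hN0 : N ≠ 0) (hp : p.Prime) (hpN : ¬ p ∣ N) (hs : s.Prime) (hsc : ¬ s ∣ Nat.gcd 2 (Fintype.card F - 1))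
    (hsa : ¬ s ^ (b + 1) ∣ N) (hsa' : s ^ b ∣ N) (hB : Fintype.card ι * Nat.card W ≤ B)
    (h : (n - 1) * B < N - N / s ^ b) : MO {k | s ∣ k ∧ ¬ p ∣ k} n (POmega F ⇑Q) := by
  obtain ⟨V, _, _, _, P, T, L, _, _, y, hs', hT, hy, ho⟩ := he
  obtain ⟨e, he⟩ := hQ.exists_equiv hs'
  have hc := card_of_sg hQ
  obtain ⟨z, hz⟩ := exists_omega Q hQ.nondeg (by omega) (⇑P) e 1 one_ne_zero (fun u => by rw [he, one_mul]) T hT
  have hroot : aeval (y ^ 2) (ρ ⇑Q z).charpoly = 0 := by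
    apply root_of_eig
    rw [hz]
    exact hasEig_conj e.symm (hy.pow 2)
  refine MO.of_root_s' hC z hp hpN (y ^ 2) hroot (by rw [orderOf_sq_eq y a ho, hN]) hN0 hs
    (fun g hg => ker_sq hQ.nondeg (by omega) g hg) hsc hsa hsa' ?_
  exact lt_of_le_of_lt (Nat.mul_le_mul_left _ hB) h

end Cfsg.Agent.H93.PReg.Orth
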