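import Cfsg.Agent.H93.PReg.Torus
import Cfsg.Agent.H93.PslCharpoly
import Cfsg.Agent.ClassicalGeometry.AutPSL.Main

/-!
# `PSL_n(q)`: automorphisms and characteristic polynomials, the cyclic tori (for S4883)
-/

set_option autoImplicit false
set_option linter.unusedSectionVars false

namespace Cfsg.Agent.H93.PReg.Psl

open Polynomial Matrix Cfsg.Agent.H93.PReg
open Cfsg.Agent.ClassicalGeometry.AutPSL.Root Cfsg.Agent.ClassicalGeometry.AutPSL.Auto
open Cfsg.Agent.ClassicalGeometry.AutPSL.Main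

variable {F : Type} [Field F] [Fintype F] {n : ℕ}

/-- the inclusion of `SL` in the matrices -/
def ρ (F : Type) [Field F] (n : ℕ) : SpecialLinearGroup (Fin n) F →* Matrix (Fin n) (Fin n) F where
  toFun g := g.1
  map_one' := rfl
  map_mul' _ _ := rfl

theorem ρ_apply (g : SpecialLinearGroup (Fin n) F) : ρ F n g = g.1 := rfl

theorem charpoly_ok (g : SpecialLinearGroup (Fin n) F) :
    g.1.charpoly ≠ 0 ∧ g.1.charpoly.natDegree ≤ Fintype.card (Fin n) :=
  ⟨(charpoly_monic _).ne_zero, (charpoly_natDegree_eq_dim _).le⟩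

theorem charpoly_cj (A : GL (Fin n) F) (g : SpecialLinearGroup (Fin n) F) :
    (cj A g).1.charpoly = g.1.charpoly := by
  have h : (cj A g).1 = (A : Matrix (Fin n) (Fin n) F) * g.1 * ((A⁻¹ : GL (Fin n) F) : Matrix (Fin n) (Fin n) F) := rfl
  rw [h, Matrix.coe_units_inv]
  exact charpoly_units_conj A g.1

theorem exists_center {x y : SpecialLinearGroup (Fin n) F} (h : pr x = pr y) :
    ∃ z : Subgroup.center (SpecialLinearGroup (Fin n) F), y = z.1 * x := by
  have h1 : x⁻¹ * y ∈ Subgroup.center (SpecialLinearGroup (Fin n) F) := QuotientGroup.eq.1 h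
  refine ⟨⟨x⁻¹ * y, h1⟩, ?_⟩
  show y = x⁻¹ * y * x
  have := Subgroup.mem_center_iff.1 h1 x
  rw [← this]
  group

theorem charpoly_of_pr {A : GL (Fin n) F} {g g' : SpecialLinearGroup (Fin n) F} (h : pr (cj A g) = pr g') :
    ∃ z : Subgroup.center (SpecialLinearGroup (Fin n) F), (ρ F n g').charpoly = (z.1 * g).1.charpoly := by
  obtain ⟨z, hz⟩ := exists_center h
  refine ⟨z, ?_⟩
  rw [ρ_apply, hz, ← charpoly_cj A (z.1 * g), map_mul]
  have h2 : cj A z.1 = z.1 := by
    apply Subtype.ext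
    rw [coe_cj]
    have h3 := Matrix.SpecialLinearGroup.mem_center_iff.1 z.2
    obtain ⟨r, -, hr⟩ := h3
    rw [← hr]
    rw [← (scalar_commute (n := Fin n) r (Commute.all r) (A : Matrix (Fin n) (Fin n) F)).eq, mul_assoc,
      ← Units.val_mul, mul_inv_cancel, Units.val_one, mul_one]
  rw [h2]

/-- **control** for `n ≥ 3` -/
theorem ctl_three (hn : 3 ≤ n) : Ctl (ρ F n) (pr : SpecialLinearGroup (Fin n) F →* _)
    (Subgroup.center (SpecialLinearGroup (Fin n) F) × (F ≃+* F) × Bool) := by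
  obtain ⟨p, hp⟩ := CharP.exists F
  have : Fact p.Prime := ⟨CharP.char_is_prime F p⟩
  refine ⟨fun w g => (w.1.1 * fld w.2.1 (if w.2.2 then itr g else g)).1.charpoly, fun w g => charpoly_ok _, ?_⟩
  intro a g g' hag
  rcases surj_three p hn a with ⟨A, σ, rfl⟩ | ⟨A, σ, rfl⟩
  · rw [lift_pr, MulAut.mul_apply] at hag
    obtain ⟨z, hz⟩ := charpoly_of_pr hag
    exact ⟨(z, σ, false), hz⟩
  · rw [lift_pr, MulAut.mul_apply, MulAut.mul_apply] at hag
    obtain ⟨z, hz⟩ := charpoly_of_pr hag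
    exact ⟨(z, σ, true), hz⟩

/-- **control** for `n = 2` -/
theorem ctl_two : Ctl (ρ F 2) (pr : SpecialLinearGroup (Fin 2) F →* _)
    (Subgroup.center (SpecialLinearGroup (Fin 2) F) × (F ≃+* F)) := by
  obtain ⟨p, hp⟩ := CharP.exists F
  have : Fact p.Prime := ⟨CharP.char_is_prime F p⟩
  refine ⟨fun w g => (w.1.1 * fld w.2 g).1.charpoly, fun w g => charpoly_ok _, ?_⟩
  intro a g g' hag
  obtain ⟨A, σ, rfl⟩ := surj_two p a
  rw [lift_pr, MulAut.mul_apply] at hag
  obtain ⟨z, hz⟩ := charpoly_of_pr hag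
  exact ⟨(z, σ), hz⟩

end Cfsg.Agent.H93.PReg.Psl
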