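import Cfsg.Agent.H93.PReg.Psl
import Cfsg.Agent.H93.PReg.Singer
import Cfsg.Agent.H93.PReg.NumPsl
import Cfsg.Agent.H93.PReg.TorusS
import Cfsg.Agent.Lib.FieldAutCard
import Cfsg.Agent.H953.Index

/-!
# The row of `PSL_n(q)`, `n ≥ 3`: the general case (for S4883)

* `MO_of_ineq` : from the inequalities for one of the two tori;
* `row_big` : `2 K ^ 2 + 2 ≤ q ^ (n - 1)`, `K = 2 f d n`;
* `MO_s_one`, `MO_s_two` : the elements of order divisible by a prime `s` in the two tori.
-/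

set_option autoImplicit false
set_option linter.unusedSectionVars false

namespace Cfsg.Agent.H93.PReg.Psl

open Polynomial Matrix Cfsg.Agent.H93.PReg
open Cfsg.Agent.ClassicalGeometry.AutPSL.Root

variable {F : Type} [Field F] [Fintype F] {n : ℕ} {r f : ℕ}

/-- the constant `K = n · d · 2 f` -/
def KK (n q f : ℕ) : ℕ := n * (Nat.gcd n (q - 1) * (f * 2))

theorem card_W (hn : 1 ≤ n) (hr : r.Prime) (hf : 1 ≤ f) (hF : Fintype.card F = r ^ f) :
    Fintype.card (Fin n) * Nat.card (Subgroup.center (SpecialLinearGroup (Fin n) F) × (F ≃+* F) × Bool) =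
      KK n (Fintype.card F) f := by
  have := Fact.mk hr
  rw [Nat.card_prod, Nat.card_prod, PslCharpoly.card_center n hn, Lib.FieldAutCard.card_ringAut hf hF,
    Nat.card_eq_fintype_card (α := Bool), Fintype.card_bool, Fintype.card_fin, Nat.card_eq_fintype_card (α := F)]
  rfl

theorem finite_W : Finite (Subgroup.center (SpecialLinearGroup (Fin n) F) × (F ≃+* F) × Bool) := by
  have : Finite (SpecialLinearGroup (Fin n) F) := PslCharpoly.finite_SL _
  have : Finite (F ≃+* F) := Finite.of_injective (fun e => (e : F → F)) DFunLike.coe_injective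
  infer_instance

/-- **from the inequalities** -/
theorem MO_of_ineq (hn : 3 ≤ n) (hr : r.Prime) (hf : 1 ≤ f) (hF : Fintype.card F = r ^ f) {p m : ℕ} (hp : p.Prime)
    (h : (m - 1) * KK n (Fintype.card F) f *
        p ^ ((Fintype.card F ^ n - 1) / (Fintype.card F - 1)).factorization p <
          (Fintype.card F ^ n - 1) / (Fintype.card F - 1) ∨
      (m - 1) * KK n (Fintype.card F) f * p ^ (Fintype.card F ^ (n - 1) - 1).factorization p <
        Fintype.card F ^ (n - 1) - 1) :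
    MO (Reg p) m (ProjectiveSpecialLinearGroup (Fin n) F) := by
  have h1 : Finite (SpecialLinearGroup (Fin n) F) := PslCharpoly.finite_SL _
  have h2 := finite_W (F := F) (n := n)
  have hW := card_W (F := F) (by omega : 1 ≤ n) hr hf hF
  rcases h with h | h
  · obtain ⟨K, _, _, t, x, hx, ho⟩ := Singer.sl_one (F := F) n (by omega)
    refine MO.of_root' hp (ctl_three hn) t x hx ?_
    rw [hW, ho]
    exact h
  · obtain ⟨k, rfl⟩ : ∃ k, n = k + 1 := ⟨n - 1, by omega⟩
    obtain ⟨K, _, _, t, x, hx, ho⟩ := Singer.sl_two (F := F) k (by omega)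
    refine MO.of_root' hp (ctl_three hn) t x hx ?_
    rw [hW, ho]
    exact h

theorem card_psl_dvd (hn : 1 ≤ n) : Nat.card (ProjectiveSpecialLinearGroup (Fin n) F) ∣
    Fintype.card F ^ (∑ i ∈ Finset.range n, i) * ∏ j ∈ Finset.Icc 2 n, (Fintype.card F ^ j - 1) := by
  have : Finite (SpecialLinearGroup (Fin n) F) := PslCharpoly.finite_SL _
  rw [← H953.card_SL n hn]
  exact Subgroup.card_quotient_dvd_card _

theorem cases_of_sq_dvd (hn : 1 ≤ n) {p : ℕ} (hp : p.Prime)
    (hd : p ^ 2 ∣ Nat.card (ProjectiveSpecialLinearGroup (Fin n) F)) :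
    p ∣ Fintype.card F ∨ p ^ 2 ∣ ∏ j ∈ Finset.Icc 2 n, (Fintype.card F ^ j - 1) := by
  by_cases h : p ∣ Fintype.card F
  · exact Or.inl h
  · right
    have h1 := hd.trans (card_psl_dvd (F := F) hn)
    refine (Nat.Coprime.dvd_of_dvd_mul_left ?_ h1)
    exact Nat.Coprime.pow _ _ ((Nat.Prime.coprime_iff_not_dvd hp).2 h)

/-- **the general case** -/
theorem row_big (hn : 3 ≤ n) (hr : r.Prime) (hf : 1 ≤ f) (hF : Fintype.card F = r ^ f)
    (hK : 2 * KK n (Fintype.card F) f ^ 2 + 2 ≤ Fintype.card F ^ (n - 1)) :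
    Row (ProjectiveSpecialLinearGroup (Fin n) F) := by
  intro p hp h5 hd
  have hq : 2 ≤ Fintype.card F := Fintype.one_lt_card
  refine MO_of_ineq hn hr hf hF hp (Num.psl_big hp h5 hq hn ?_ hK)
  exact (cases_of_sq_dvd (by omega) hp hd).imp id fun h => Num.psl_sq_le hp hq hn h

theorem pow_gcd_of_pr_eq_one (hn : 1 ≤ n) (g : SpecialLinearGroup (Fin n) F) (h : pr g = 1) :
    g ^ Nat.gcd n (Fintype.card F - 1) = 1 := by
  have h1 : g ∈ Subgroup.center (SpecialLinearGroup (Fin n) F) := (QuotientGroup.eq_one_iff g).1 h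
  have h2 := PslCharpoly.card_center (F := F) n hn
  rw [Nat.card_eq_fintype_card (α := F)] at h2
  have : Finite (SpecialLinearGroup (Fin n) F) := PslCharpoly.finite_SL _
  have h3 := pow_card_eq_one' (x := (⟨g, h1⟩ : Subgroup.center (SpecialLinearGroup (Fin n) F)))
  rw [h2] at h3
  exact congrArg Subtype.val h3

/-- elements of order divisible by `s` in the first torus -/
theorem MO_s_one (hn : 3 ≤ n) (hr : r.Prime) (hf : 1 ≤ f) (hF : Fintype.card F = r ^ f) {p m s a N : ℕ}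
    (hs : s.Prime) (hN : (Fintype.card F ^ n - 1) / (Fintype.card F - 1) = N) (hN0 : N ≠ 0) (hp : p.Prime)
    (hpN : ¬ p ∣ N) (hsc : ¬ s ∣ Nat.gcd n (Fintype.card F - 1)) (hsa : ¬ s ^ (a + 1) ∣ N) (hsa' : s ^ a ∣ N)
    (h : (m - 1) * KK n (Fintype.card F) f < N - N / s ^ a) :
    MO {m | s ∣ m ∧ ¬ p ∣ m} m (ProjectiveSpecialLinearGroup (Fin n) F) := by
  have h1 : Finite (SpecialLinearGroup (Fin n) F) := PslCharpoly.finite_SL _
  have h2 := finite_W (F := F) (n := n)
  have hW := card_W (F := F) (by omega : 1 ≤ n) hr hf hF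
  obtain ⟨K, _, _, t, x, hx, ho⟩ := Singer.sl_one (F := F) n (by omega)
  refine MO.of_root_s' (ctl_three hn) t hp hpN x hx (ho.trans hN) hN0 hs
    (fun g hg => pow_gcd_of_pr_eq_one (by omega) g hg) hsc hsa hsa' ?_
  rw [hW]
  exact h

/-- elements of order divisible by `s` in the second torus -/
theorem MO_s_two (hn : 3 ≤ n) (hr : r.Prime) (hf : 1 ≤ f) (hF : Fintype.card F = r ^ f) {p m s a N : ℕ}
    (hs : s.Prime) (hN : Fintype.card F ^ (n - 1) - 1 = N) (hN0 : N ≠ 0) (hp : p.Prime)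
    (hpN : ¬ p ∣ N) (hsc : ¬ s ∣ Nat.gcd n (Fintype.card F - 1)) (hsa : ¬ s ^ (a + 1) ∣ N) (hsa' : s ^ a ∣ N)
    (h : (m - 1) * KK n (Fintype.card F) f < N - N / s ^ a) :
    MO {m | s ∣ m ∧ ¬ p ∣ m} m (ProjectiveSpecialLinearGroup (Fin n) F) := by
  have h1 : Finite (SpecialLinearGroup (Fin n) F) := PslCharpoly.finite_SL _
  have h2 := finite_W (F := F) (n := n)
  have hW := card_W (F := F) (by omega : 1 ≤ n) hr hf hF
  obtain ⟨k, rfl⟩ : ∃ k, n = k + 1 := ⟨n - 1, by omega⟩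
  obtain ⟨K, _, _, t, x, hx, ho⟩ := Singer.sl_two (F := F) k (by omega)
  refine MO.of_root_s' (ctl_three hn) t hp hpN x hx (ho.trans hN) hN0 hs
    (fun g hg => pow_gcd_of_pr_eq_one (by omega) g hg) hsc hsa hsa' ?_
  rw [hW]
  exact h

end Cfsg.Agent.H93.PReg.Psl
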