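import Cfsg.Agent.H93.PReg.Semi
import Cfsg.Agent.H93.PReg.Singer
import Cfsg.Agent.S0814
import Cfsg.Agent.H376.SpEmb
import Cfsg.Agent.LieClassical.SympCount
import Cfsg.Agent.Lib.FieldAutCard

/-!
# `PSp_2m(q)`: automorphisms and characteristic polynomials, the cyclic tori (for S4883)
-/

set_option autoImplicit false
set_option linter.unusedSectionVars false

namespace Cfsg.Agent.H93.PReg.Psp

open Polynomial Matrix Cfsg.Agent.H93.PReg Cfsg
open Cfsg.Agent.ClassicalGeometry.SympAutSemi Cfsg.Agent.ClassicalGeometry.SympGamma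

variable {F : Type} [Field F] [Fintype F] {m : ℕ}

/-- the inclusion of `Sp` in the matrices -/
def ρ (F : Type) [Field F] (m : ℕ) : symplecticGroup (Fin m) F →* Matrix (Fin m ⊕ Fin m) (Fin m ⊕ Fin m) F where
  toFun g := g.1
  map_one' := rfl
  map_mul' _ _ := rfl

/-- the projection -/
def pr (F : Type) [Field F] (m : ℕ) : symplecticGroup (Fin m) F →* PSp m F := QuotientGroup.mk' _

theorem pr_surjective : Function.Surjective (pr F m) := QuotientGroup.mk'_surjective _

theorem charpoly_conjHom (g : semiSim m F) : ∃ φ : F ≃+* F, ∀ A : symplecticGroup (Fin m) F,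
    (ρ F m (conjHom m F g A)).charpoly = (ρ F m A).charpoly.map (φ : F →+* F) := by
  obtain ⟨φ, l, hl, hs⟩ := g.2
  refine ⟨φ, fun A => charpoly_semi g.1 g.1.surjective φ hs.1 hs.2.1 _ _ fun v => ?_⟩
  have h := DFunLike.congr_fun (rho_conjHom g A) (g.1 v)
  rw [rho_apply, Equiv.Perm.mul_apply, Equiv.Perm.mul_apply, perm_inv_apply_self, rho_apply] at h
  exact h

theorem exists_center {x y : symplecticGroup (Fin m) F} (h : pr F m x = pr F m y) :
    ∃ z : Subgroup.center (symplecticGroup (Fin m) F), y = x * z.1 := by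
  have h1 : x⁻¹ * y ∈ Subgroup.center (symplecticGroup (Fin m) F) := QuotientGroup.eq.1 h
  exact ⟨⟨x⁻¹ * y, h1⟩, (mul_inv_cancel_left _ _).symm⟩

/-- **control** for the semilinear automorphisms -/
theorem ctl_range (a : MulAut (PSp m F)) (ha : a ∈ (Psi m F).range) (g g' : symplecticGroup (Fin m) F)
    (h : a (pr F m g) = pr F m g') : ∃ w : Subgroup.center (symplecticGroup (Fin m) F) × (F ≃+* F),
      (ρ F m g').charpoly = (ρ F m (g * w.1.1)).charpoly.map (w.2 : F →+* F) := by
  obtain ⟨s, rfl⟩ := ha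
  obtain ⟨φ, hφ⟩ := charpoly_conjHom s
  have h1 : pr F m (conjHom m F s g) = pr F m g' := h
  obtain ⟨z, hz⟩ := exists_center h1
  -- `z = s (z')`
  have hz' : (conjHom m F s).symm z.1 ∈ Subgroup.center (symplecticGroup (Fin m) F) := by
    rw [Subgroup.mem_center_iff]
    intro x
    apply (conjHom m F s).injective
    rw [map_mul, map_mul, MulEquiv.apply_symm_apply]
    exact Subgroup.mem_center_iff.1 z.2 _
  refine ⟨(⟨_, hz'⟩, φ), ?_⟩
  rw [← hφ, map_mul, MulEquiv.apply_symm_apply, ← hz]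

/-- the index of the semilinear automorphisms -/
def oo (m r : ℕ) : ℕ := if m = 2 ∧ r = 2 then 2 else 1

theorem index_range {r f : ℕ} (hr : r.Prime) (hf : 1 ≤ f) (hF : Fintype.card F = r ^ f) (hm : 2 ≤ m)
    (h22 : m = 2 → 3 ≤ r ^ f) : (Psi m F).range.index = oo m r := by
  have := Fact.mk hr
  have h1 := S0814.result r f hf hF m hm h22
  have h2 := card_range_Psi (m := m) hf hF (by omega)
  have h3 := ClassicalGeometry.AutPSpCount.card_sp (F := F) (m := m) (by omega)
  have h4 := Subgroup.card_mul_index (Psi m F).range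
  rw [h1, h2, h3, hF] at h4
  have : Finite (symplecticGroup (Fin m) F) := inferInstance
  have : Finite (PSp m F) := Quotient.finite _
  have h5 : 0 < Nat.card (PSp m F) := Nat.card_pos
  have h6 : 0 < Nat.gcd 2 (r ^ f - 1) := Nat.gcd_pos_of_pos_left _ (by norm_num)
  have h7 : 0 < f * (Nat.gcd 2 (r ^ f - 1) * Nat.card (PSp m F)) := Nat.mul_pos (by omega) (Nat.mul_pos h6 h5)
  apply Nat.eq_of_mul_eq_mul_left h7
  rw [h4]
  unfold oo
  ring

/-- **control** -/
theorem ctl : Ctl (ρ F m) (pr F m) ((Subgroup.center (symplecticGroup (Fin m) F) × (F ≃+* F)) ×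
    (MulAut (PSp m F) ⧸ (Psi m F).range)) := by
  refine ctl_of_index (Psi m F).range pr_surjective
    (fun w g => (ρ F m (g * w.1.1)).charpoly.map (w.2 : F →+* F)) (fun w g => ?_)
    (fun a ha g g' h => ctl_range a ha g g' h)
  have h1 := charpoly_monic (ρ F m (g * w.1.1))
  refine ⟨(h1.map _).ne_zero, ?_⟩
  rw [h1.natDegree_map]
  exact (charpoly_natDegree_eq_dim _).le

/-- the constant `K = 2 m · d · f · o` -/
def KK (m q f r : ℕ) : ℕ := (m + m) * ((Nat.gcd 2 (q - 1) * f) * oo m r)

theorem card_W {r f : ℕ} (hr : r.Prime) (hf : 1 ≤ f) (hF : Fintype.card F = r ^ f) (hm : 2 ≤ m)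
    (h22 : m = 2 → 3 ≤ r ^ f) :
    Fintype.card (Fin m ⊕ Fin m) * Nat.card ((Subgroup.center (symplecticGroup (Fin m) F) × (F ≃+* F)) ×
    (MulAut (PSp m F) ⧸ (Psi m F).range)) = KK m (Fintype.card F) f r := by
  have := Fact.mk hr
  rw [Nat.card_prod, Nat.card_prod, LieClassical.SympCenter.card_center (by omega),
    Lib.FieldAutCard.card_ringAut hf hF, Fintype.card_sum, Fintype.card_fin]
  have h1 := index_range hr hf hF hm h22
  rw [Subgroup.index] at h1
  rw [h1]
  rfl

theorem finite_W : Finite ((Subgroup.center (symplecticGroup (Fin m) F) × (F ≃+* F)) ×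
    (MulAut (PSp m F) ⧸ (Psi m F).range)) := by
  have : Finite (F ≃+* F) := Finite.of_injective (fun e => (e : F → F)) DFunLike.coe_injective
  have : Finite (PSp m F) := Quotient.finite _
  have : Finite (MulAut (PSp m F)) := Finite.of_injective (fun e => (e : PSp m F → PSp m F)) DFunLike.coe_injective
  infer_instance

end Cfsg.Agent.H93.PReg.Psp
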