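import Cfsg.Agent.H93.PReg.Psp

/-!
# The tori of `Sp_2m(q)` of order `q^m - 1` and `q^m + 1` (for S4883)
-/

set_option autoImplicit false
set_option linter.unusedSectionVars false

namespace Cfsg.Agent.H93.PReg.Psp

open Polynomial Matrix Cfsg.Agent.H93.PReg Cfsg

section alg

variable {F K : Type*} [Field F] [Field K] [Algebra F K] {ι : Type*} [Fintype ι] [DecidableEq ι]
  (b : Module.Basis ι F K) [Algebra.IsSeparable F K] [FiniteDimensional F K]

/-- two by two matrices over `K` as matrices over `F` -/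
noncomputable def phi : Matrix (Fin 2) (Fin 2) K →ₐ[F] Matrix (ι ⊕ ι) (ι ⊕ ι) F where
  toFun g := fromBlocks (Algebra.leftMulMatrix b (g 0 0))
    (Algebra.leftMulMatrix b (g 0 1) * (Algebra.traceMatrix F b)⁻¹)
    (Algebra.traceMatrix F b * Algebra.leftMulMatrix b (g 1 0))
    (Algebra.traceMatrix F b * Algebra.leftMulMatrix b (g 1 1) * (Algebra.traceMatrix F b)⁻¹)
  map_one' := by
    have hu := H376.SpEmb.isUnit_trace (F := F) b
    rw [Matrix.one_apply_eq, Matrix.one_apply_eq, Matrix.one_apply_ne (by decide), Matrix.one_apply_ne (by decide),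
      map_one, map_zero, zero_mul, mul_zero, mul_one, Matrix.mul_nonsing_inv _ hu, fromBlocks_one]
  map_mul' g h := by
    have hu := H376.SpEmb.isUnit_trace (F := F) b
    have hT : (Algebra.traceMatrix F b)⁻¹ * Algebra.traceMatrix F b = 1 := Matrix.nonsing_inv_mul _ hu
    have hc : ∀ X Y : Matrix ι ι F, X * (Algebra.traceMatrix F b)⁻¹ * (Algebra.traceMatrix F b * Y) = X * Y := by
      intro X Y
      rw [mul_assoc, ← mul_assoc _ _ Y, hT, one_mul]
    have hc' : ∀ X Y Z : Matrix ι ι F,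
        X * (Algebra.traceMatrix F b)⁻¹ * (Algebra.traceMatrix F b * Y * Z) = X * (Y * Z) := by
      intro X Y Z
      rw [mul_assoc _ Y Z, hc]
    rw [Matrix.fromBlocks_multiply]
    have e1 : ∀ i j, (g * h) i j = g i 0 * h 0 j + g i 1 * h 1 j := by
      intro i j
      rw [Matrix.mul_apply, Fin.sum_univ_two]
    simp only [e1, map_add, map_mul]
    congr 1
    · rw [hc]
    · rw [hc', add_mul, mul_assoc, mul_assoc]
    · rw [hc, mul_add, mul_assoc, mul_assoc]
    · rw [hc', mul_add, add_mul]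
      simp only [mul_assoc]
  map_zero' := by
    simp
  map_add' g h := by
    simp only [Matrix.add_apply, map_add, add_mul, mul_add, fromBlocks_add]
  commutes' a := by
    have hu := H376.SpEmb.isUnit_trace (F := F) b
    have h1 : algebraMap F (Matrix (Fin 2) (Fin 2) K) a = algebraMap F K a • (1 : Matrix (Fin 2) (Fin 2) K) := by
      rw [Algebra.algebraMap_eq_smul_one, ← algebraMap_smul K a (1 : Matrix (Fin 2) (Fin 2) K)]
    rw [h1]
    simp only [Matrix.smul_apply, Matrix.one_apply_eq, smul_eq_mul, mul_one]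
    rw [Matrix.one_apply_ne (by decide), Matrix.one_apply_ne (by decide), mul_zero, map_zero, zero_mul, mul_zero,
      AlgHom.commutes]
    rw [Algebra.algebraMap_eq_smul_one, Algebra.algebraMap_eq_smul_one, mul_smul_comm, mul_one, smul_mul_assoc,
      Matrix.mul_nonsing_inv _ hu, ← fromBlocks_one, fromBlocks_smul, smul_zero]

theorem phi_eq (g : Matrix.SpecialLinearGroup (Fin 2) K) : phi b g.1 = (H376.SpEmb.ofSLTwo b g).1 := by
  show fromBlocks _ _ _ _ = fromBlocks _ _ _ _
  congr 1
  have hu := H376.SpEmb.isUnit_trace (F := F) b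
  rw [H376.SpEmb.trace_mul, mul_assoc, Matrix.mul_nonsing_inv _ hu, mul_one]

end alg

variable {F : Type} [Field F] [Fintype F]

/-- **the element of order `q^m + 1`** -/
theorem tor_plus (m : ℕ) (hm : m ≠ 0) : ∃ (K : Type) (_ : Field K) (_ : Algebra F K)
    (t : symplecticGroup (Fin m) F) (x : K), aeval x (ρ F m t).charpoly = 0 ∧
      orderOf x = Fintype.card F ^ m + 1 ∧ orderOf t = Fintype.card F ^ m + 1 := by
  have : Nonempty (Fin m) := ⟨⟨0, by omega⟩⟩
  obtain ⟨K, _, _, b, hKf, -, hK, -⟩ := Singer.exists_ext F m hm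
  have := Fintype.ofFinite K
  obtain ⟨L, _, _, b', hLf, g, hL, hg⟩ := Singer.exists_ext K 2 two_ne_zero
  let _ : Algebra F L := ((algebraMap K L).comp (algebraMap F K)).toAlgebra
  have : IsScalarTower F K L := IsScalarTower.of_algebraMap_eq fun _ => rfl
  have hKc : Fintype.card K = Fintype.card F ^ m := by rw [← hK, Nat.card_eq_fintype_card]
  have hq : 2 ≤ Fintype.card K := Fintype.one_lt_card
  have hdet : (Algebra.leftMulMatrix b' ((g : L) ^ (Fintype.card K - 1))).det = 1 := by
    rw [← Algebra.norm_eq_matrix_det, map_pow]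
    apply FiniteField.pow_card_sub_one_eq_one
    rw [Ne, Algebra.norm_eq_zero_iff_of_basis b']
    exact g.ne_zero
  have ho : orderOf ((g : L) ^ (Fintype.card K - 1)) = Fintype.card F ^ m + 1 := by
    rw [← Units.val_pow_eq_pow_val, orderOf_units, orderOf_pow_of_dvd (by omega), hg, ← hKc]
    · have h1 : Fintype.card K ^ 2 - 1 = (Fintype.card K + 1) * (Fintype.card K - 1) := by
        have := Nat.sq_sub_sq (Fintype.card K) 1
        simpa using this
      rw [h1, Nat.mul_div_cancel _ (by omega)]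
    · rw [hg]
      simpa using Nat.sub_dvd_pow_sub_pow (Fintype.card K) 1 2
  let ψ : L →ₐ[F] Matrix (Fin m ⊕ Fin m) (Fin m ⊕ Fin m) F :=
    (phi b).comp ((Algebra.leftMulMatrix b').restrictScalars F)
  have hψ : ψ ((g : L) ^ (Fintype.card K - 1)) = ρ F m (H376.SpEmb.ofSLTwo b
      (⟨_, hdet⟩ : Matrix.SpecialLinearGroup (Fin 2) K)) := phi_eq b ⟨_, hdet⟩
  refine ⟨L, inferInstance, inferInstance, H376.SpEmb.ofSLTwo b ⟨_, hdet⟩, (g : L) ^ (Fintype.card K - 1), ?_, ho, ?_⟩
  · rw [← hψ]
    exact Singer.root_algHom ψ _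
  · rw [← ho, ← orderOf_injective (ψ : L →* Matrix (Fin m ⊕ Fin m) (Fin m ⊕ Fin m) F) ψ.toRingHom.injective]
    rw [← orderOf_injective (ρ F m) Subtype.coe_injective, ← hψ]
    rfl

/-- **the element of order `q^m - 1`** -/
theorem tor_minus (m : ℕ) (hm : m ≠ 0) : ∃ (K : Type) (_ : Field K) (_ : Algebra F K)
    (t : symplecticGroup (Fin m) F) (x : K), aeval x (ρ F m t).charpoly = 0 ∧
      orderOf x = Fintype.card F ^ m - 1 ∧ orderOf t = Fintype.card F ^ m - 1 := by
  have : Nonempty (Fin m) := ⟨⟨0, by omega⟩⟩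
  obtain ⟨K, _, _, b, hKf, g, hK, hg⟩ := Singer.exists_ext F m hm
  let u : GL (Fin m) F := Units.map (Algebra.leftMulMatrix b : K →* Matrix (Fin m) (Fin m) F) g
  have hu : (u : Matrix (Fin m) (Fin m) F) = Algebra.leftMulMatrix b (g : K) := rfl
  refine ⟨K, inferInstance, inferInstance, H376.SpEmb.levi (Fin m) u, (g : K), ?_, by rw [orderOf_units, hg], ?_⟩
  · have h1 : ρ F m (H376.SpEmb.levi (Fin m) u) = fromBlocks (u : Matrix (Fin m) (Fin m) F) 0 0
        ((u⁻¹ : GL (Fin m) F) : Matrix (Fin m) (Fin m) F)ᵀ := rfl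
    rw [h1, charpoly_fromBlocks_zero₂₁, map_mul, hu, Singer.root_leftMul b, zero_mul]
  · rw [orderOf_injective _ (H376.SpEmb.levi_injective (Fin m)), ← hg]
    exact orderOf_injective (Units.map (Algebra.leftMulMatrix b : K →* Matrix (Fin m) (Fin m) F))
      (Units.map_injective (Algebra.leftMulMatrix_injective b)) g

end Cfsg.Agent.H93.PReg.Psp
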