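import Cfsg.Agent.H93.PReg.Base
import Cfsg.Agent.S0144

/-!
# The number of `p`-regular classes of an almost simple group from the row of its socle (for S4883)

* `classes_of_MO` : `n` orbits of `Aut S` on `p`-regular elements give `n` classes of `p`-regular elements of `G`,
  `Inn S ≤ G ≤ Aut S`;
* `MO_two`, `MO_three` : the primes 2 and 3;
* `sq_dvd` : a non-cyclic Sylow `p`-subgroup has order divisible by `p²`;
* `main` : S4883 for `S` with `Row S`.
-/

set_option autoImplicit false

namespace Cfsg.Agent.H93.PReg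

open Cfsg.Agent.H92.KTools

universe u

variable {S : Type u} [Group S]

/-- orbits of `Aut S` on `p`-regular elements are in different classes of `G ≤ Aut S` -/
theorem classes_of_MO [Finite S] {p n : ℕ} (hZ : Subgroup.center S = ⊥) (h : MO (Reg p) n S)
    (G : Subgroup (MulAut S)) (hG : (MulAut.conj : S →* MulAut S).range ≤ G) :
    n ≤ Nat.card {c : ConjClasses ↥G // ∃ g : ↥G, ConjClasses.mk g = c ∧ ¬ p ∣ orderOf g} := by
  obtain ⟨f, h1, h2⟩ := h
  have : Finite (MulAut S) := by infer_instance
  have : Finite ↥G := by infer_instance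
  have : Finite (ConjClasses ↥G) := Quotient.finite _
  have hinj : Function.Injective (MulAut.conj : S →* MulAut S) := by
    rw [← MonoidHom.ker_eq_bot_iff, eq_bot_iff]
    intro x hx
    rw [MonoidHom.mem_ker] at hx
    rw [← hZ, Subgroup.mem_center_iff]
    intro g
    have h3 : MulAut.conj x g = g := by rw [hx]; rfl
    rw [MulAut.conj_apply] at h3
    calc g * x = (x * g * x⁻¹) * x := by rw [h3]
      _ = x * g := by group
  let φ : Fin n → ↥G := fun i => ⟨MulAut.conj (f i), hG ⟨f i, rfl⟩⟩
  have hord : ∀ i, orderOf (φ i) = orderOf (f i) := by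
    intro i
    rw [← orderOf_injective G.subtype G.subtype_injective, ← orderOf_injective _ hinj (f i)]
    rfl
  let ψ : Fin n → {c : ConjClasses ↥G // ∃ g : ↥G, ConjClasses.mk g = c ∧ ¬ p ∣ orderOf g} :=
    fun i => ⟨ConjClasses.mk (φ i), φ i, rfl, by rw [hord]; exact h1 i⟩
  have hψ : Function.Injective ψ := by
    intro i j hij
    have h3 : ConjClasses.mk (φ i) = ConjClasses.mk (φ j) := congrArg Subtype.val hij
    rw [ConjClasses.mk_eq_mk_iff_isConj, isConj_iff] at h3
    obtain ⟨a, ha⟩ := h3
    refine h2 i j ⟨a.1, ?_⟩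
    have h4 : a.1 * MulAut.conj (f i) * a.1⁻¹ = MulAut.conj (f j) := congrArg Subtype.val ha
    apply hinj
    rw [← h4]
    ext s
    simp
  have := Nat.card_le_card_of_injective ψ hψ
  simpa using this

variable [Finite S] [IsSimpleGroup S]

theorem exists_prime_not_mem (hS : ¬ IsMulCommutative S) (p q : ℕ) (hp : p.Prime) (hq : q.Prime) :
    ∃ r : ℕ, r.Prime ∧ r ≠ p ∧ r ≠ q ∧ r ∣ Nat.card S := by
  by_contra hcon
  push Not at hcon
  have h1 : ∀ r : ℕ, r.Prime → r ∣ Nat.card S → r = p ∨ r = q := by
    intro r hr hd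
    by_contra hne
    push Not at hne
    exact hcon r hr hne.1 hne.2 hd
  have hcard : ∃ a b : ℕ, Nat.card S = p ^ a * q ^ b := by
    have h0 : Nat.card S ≠ 0 := Nat.card_pos.ne'
    by_cases hpq : p = q
    · subst hpq
      refine ⟨(Nat.card S).primeFactorsList.length, 0, ?_⟩
      rw [pow_zero, mul_one]
      refine Nat.eq_prime_pow_of_unique_prime_dvd h0 fun {d} hd hdd => ?_
      rcases h1 d hd hdd with h | h <;> exact h
    · refine ⟨(Nat.card S).factorization p, (Nat.card S).factorization q, ?_⟩
      conv_lhs => rw [← Nat.prod_factorization_pow_eq_self h0]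
      have hsub : (Nat.card S).factorization.support ⊆ {p, q} := by
        intro r hr
        rw [Nat.support_factorization, Nat.mem_primeFactors] at hr
        rcases h1 r hr.1 hr.2.1 with h | h <;> simp [h]
      rw [Finsupp.prod_of_support_subset _ hsub _ (by simp)]
      rw [Finset.prod_pair hpq]
  obtain ⟨a, b, hab⟩ := hcard
  have hsol := S0144.result p q a b hp hq hab
  have : IsMulCommutative S := ⟨⟨(IsSimpleGroup.comm_iff_isSolvable (G := S)).2 hsol⟩⟩
  exact hS this

theorem MO_two (hS : ¬ IsMulCommutative S) : MO (Reg 2) 2 S := by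
  obtain ⟨r, hr, hr2, -, hd⟩ := exists_prime_not_mem hS 2 2 Nat.prime_two Nat.prime_two
  have h := MO.of_finset (S := S) (A := Reg 2) {1, r} (by
    intro k hk
    simp only [Finset.mem_insert, Finset.mem_singleton] at hk
    rcases hk with rfl | rfl
    · exact hasOrd_one S
    · exact hasOrd_prime hr hd) (by
    intro k hk
    simp only [Finset.mem_insert, Finset.mem_singleton] at hk
    rcases hk with rfl | rfl
    · show ¬ 2 ∣ 1
      norm_num
    · show ¬ 2 ∣ k
      intro h
      exact hr2 ((Nat.prime_dvd_prime_iff_eq Nat.prime_two hr).1 h).symm)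
  rwa [Finset.card_pair (Ne.symm hr.one_lt.ne')] at h

theorem MO_three (hS : ¬ IsMulCommutative S) : MO (Reg 3) 3 S := by
  obtain ⟨r, hr, hr3, -, hd⟩ := exists_prime_not_mem hS 3 3 Nat.prime_three Nat.prime_three
  obtain ⟨t, ht, ht3, htr, hdt⟩ := exists_prime_not_mem hS 3 r Nat.prime_three hr
  have h := MO.of_finset (S := S) (A := Reg 3) {1, r, t} (by
    intro k hk
    simp only [Finset.mem_insert, Finset.mem_singleton] at hk
    rcases hk with rfl | rfl | rfl
    · exact hasOrd_one S
    · exact hasOrd_prime hr hd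
    · exact hasOrd_prime ht hdt) (by
    intro k hk
    simp only [Finset.mem_insert, Finset.mem_singleton] at hk
    rcases hk with rfl | rfl | rfl
    · show ¬ 3 ∣ 1
      norm_num
    · show ¬ 3 ∣ k
      intro h
      exact hr3 ((Nat.prime_dvd_prime_iff_eq Nat.prime_three hr).1 h).symm
    · show ¬ 3 ∣ k
      intro h
      exact ht3 ((Nat.prime_dvd_prime_iff_eq Nat.prime_three ht).1 h).symm)
  have hc : ({1, r, t} : Finset ℕ).card = 3 := by
    rw [Finset.card_eq_three]
    exact ⟨1, r, t, hr.one_lt.ne, ht.one_lt.ne, Ne.symm htr, rfl⟩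
  rwa [hc] at h

omit [IsSimpleGroup S] in
theorem sq_dvd {p : ℕ} [hp : Fact p.Prime] (P : Sylow p S) (hP : ¬ IsCyclic (P : Subgroup S)) :
    p ^ 2 ∣ Nat.card S := by
  have h1 := P.card_eq_multiplicity
  by_contra hd
  apply hP
  have h2 : (Nat.card S).factorization p < 2 := by
    by_contra h3
    push Not at h3
    exact hd ((pow_dvd_pow p h3).trans (Nat.ordProj_dvd _ _))
  have h3 : (Nat.card S).factorization p = 0 ∨ (Nat.card S).factorization p = 1 := by omega
  rcases h3 with h3 | h3
  · rw [h3, pow_zero] at h1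
    exact isCyclic_of_card_dvd_prime (p := p) (by rw [h1]; exact one_dvd _)
  · rw [h3, pow_one] at h1
    exact isCyclic_of_prime_card h1

/-- **S4883 from the row.** -/
theorem main (hS : ¬ IsMulCommutative S) (hrow : Row S) (p : ℕ) [hp : Fact p.Prime] (P : Sylow p S)
    (hP : ¬ IsCyclic (P : Subgroup S)) (G : Subgroup (MulAut S))
    (hG : (MulAut.conj : S →* MulAut S).range ≤ G) :
    p ≤ Nat.card {c : ConjClasses ↥G // ∃ g : ↥G, ConjClasses.mk g = c ∧ ¬ p ∣ orderOf g} := by
  have hZ : Subgroup.center S = ⊥ := by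
    rcases (inferInstance : (Subgroup.center S).Normal).eq_bot_or_eq_top with h | h
    · exact h
    · exact absurd ⟨⟨fun a b => (Subgroup.mem_center_iff.1 (h ▸ Subgroup.mem_top b : b ∈ Subgroup.center S) a)⟩⟩ hS
  have h2 := hp.out.two_le
  have h4 : p ≠ 4 := by
    rintro rfl
    exact absurd hp.out (by norm_num)
  by_cases h5 : 5 ≤ p
  · exact classes_of_MO hZ (hrow p hp.out h5 (sq_dvd P hP)) G hG
  · have h3 : p = 2 ∨ p = 3 := by omega
    rcases h3 with rfl | rfl
    · exact classes_of_MO hZ (MO_two hS) G hG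
    · exact classes_of_MO hZ (MO_three hS) G hG

end Cfsg.Agent.H93.PReg
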