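import Cfsg.Agent.H93.PReg.Torus

/-!
# Characteristic polynomials and semilinear maps (for S4883)

* `charpoly_semi` : if `B (g v) = g (A v)` with `g` bijective and `φ`-semilinear, then
  `charpoly B = φ (charpoly A)`;
* `ctl_of_index` : control of `Aut S` from the control of a subgroup of finite index.
-/

set_option autoImplicit false

namespace Cfsg.Agent.H93.PReg

open Polynomial Matrix

section Semi

variable {F : Type*} [Field F] {ι : Type*} [Fintype ι] [DecidableEq ι]

/-- the matrix of the linear part of a semilinear map -/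
theorem exists_linear_part (g : (ι → F) → (ι → F)) (φ : F ≃+* F) (hadd : ∀ u v, g (u + v) = g u + g v)
    (hsmul : ∀ (a : F) v, g (a • v) = φ a • g v) :
    ∃ M : Matrix ι ι F, ∀ v : ι → F, M *ᵥ (fun i => φ (v i)) = g v := by
  let L : (ι → F) →ₗ[F] (ι → F) :=
    { toFun := fun v => g fun i => φ.symm (v i)
      map_add' := fun u v => by
        rw [← hadd]
        congr 1
        funext i
        simp
      map_smul' := fun a v => by
        have h : (fun i => φ.symm ((a • v) i)) = φ.symm a • fun i => φ.symm (v i) := by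
          funext i
          simp
        rw [h, hsmul, RingEquiv.apply_symm_apply]
        rfl }
  refine ⟨LinearMap.toMatrix' L, fun v => ?_⟩
  rw [LinearMap.toMatrix'_mulVec]
  show g (fun i => φ.symm (φ (v i))) = g v
  congr 1
  funext i
  exact φ.symm_apply_apply _

omit [DecidableEq ι] in
theorem mulVec_map (A : Matrix ι ι F) (φ : F ≃+* F) (v : ι → F) :
    (A.map φ) *ᵥ (fun i => φ (v i)) = fun i => φ ((A *ᵥ v) i) := by
  funext i
  simp only [Matrix.mulVec, dotProduct, Matrix.map_apply, map_sum, map_mul]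

/-- **semilinear conjugation** -/
theorem charpoly_semi (g : (ι → F) → (ι → F)) (hg : Function.Surjective g) (φ : F ≃+* F)
    (hadd : ∀ u v, g (u + v) = g u + g v) (hsmul : ∀ (a : F) v, g (a • v) = φ a • g v) (A B : Matrix ι ι F)
    (h : ∀ v, B *ᵥ g v = g (A *ᵥ v)) : B.charpoly = A.charpoly.map (φ : F →+* F) := by
  obtain ⟨M, hM⟩ := exists_linear_part g φ hadd hsmul
  have hsurj : Function.Surjective M.mulVec := by
    intro w
    obtain ⟨v, rfl⟩ := hg w
    exact ⟨_, hM v⟩
  have hunit : IsUnit M := Matrix.mulVec_surjective_iff_isUnit.1 hsurj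
  have hcomm : B * M = M * A.map φ := by
    apply Matrix.mulVec_injective
    funext w
    have hw : w = fun i => φ (φ.symm (w i)) := by
      funext i
      exact (φ.apply_symm_apply _).symm
    show (B * M) *ᵥ w = (M * A.map φ) *ᵥ w
    rw [← Matrix.mulVec_mulVec, ← Matrix.mulVec_mulVec, hw, mulVec_map, hM, hM, h]
  obtain ⟨u, rfl⟩ := hunit
  have hB : B = (u : Matrix ι ι F) * A.map φ * ((u⁻¹ : (Matrix ι ι F)ˣ) : Matrix ι ι F) := by
    rw [← hcomm, mul_assoc, Units.mul_inv, mul_one]
  rw [← Matrix.charpoly_map]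
  rw [hB]
  rw [Matrix.coe_units_inv]
  exact charpoly_units_conj u (A.map φ)

end Semi

section Index

universe u

variable {S : Type u} [Group S] {F : Type*} [Field F] {ι : Type*} [Fintype ι] [DecidableEq ι]
  {H : Type*} [Group H] {ρ : H →* Matrix ι ι F} {π : H →* S} {W : Type*}

/-- **control from a subgroup** -/
theorem ctl_of_index (B : Subgroup (MulAut S)) (hπ : Function.Surjective π) (P : W → H → F[X])
    (hP : ∀ w g, (P w g) ≠ 0 ∧ (P w g).natDegree ≤ Fintype.card ι)
    (h : ∀ a ∈ B, ∀ g g' : H, a (π g) = π g' → ∃ w, (ρ g').charpoly = P w g) :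
    Ctl ρ π (W × (MulAut S ⧸ B)) := by
  choose lft hlft using hπ
  refine ⟨fun w g => P w.1 (lft ((w.2.out)⁻¹ (π g))), fun w g => hP _ _, fun a g g' hag => ?_⟩
  set c : MulAut S ⧸ B := QuotientGroup.mk a⁻¹ with hc
  have h1 : c.out⁻¹ * a⁻¹ ∈ B := by
    rw [← QuotientGroup.eq, QuotientGroup.out_eq']
  have h2 : (c.out⁻¹ * a⁻¹)⁻¹ ∈ B := B.inv_mem h1
  obtain ⟨w, hw⟩ := h _ h2 (lft (c.out⁻¹ (π g))) g' (by
    rw [hlft, _root_.mul_inv_rev, inv_inv, inv_inv, MulAut.mul_apply]
    have h3 : c.out (c.out⁻¹ (π g)) = π g := MulAut.apply_inv_self S c.out (π g)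
    rw [h3, hag])
  exact ⟨(w, c), hw⟩

end Index

end Cfsg.Agent.H93.PReg
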